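import Cfsg.Agent.AutPSU.Out
import Cfsg.Agent.AutPSL.FieldClasses

/-!
Field automorphisms of prime order of `PSU_n`: classes, centralisers, splitting.
-/

set_option autoImplicit false
set_option linter.style.haveILetI false

open Matrix

namespace CfsgLib.AutPSU

open CfsgLib.Unitary CfsgLib.Forms

variable {F : Type*} [Field F] [Finite F] {q n : ℕ} (hF : Nat.card F = q ^ 2)

local notation "hf" => Cfsg.hermForm _ _

/-- The twisted product of an isometry. -/
def twU (σ : RingAut F) (g : ↥(Cfsg.GU n F q)) : ℕ → ↥(Cfsg.GU n F q)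
  | 0 => 1
  | k + 1 => g * guMap σ (twU σ g k)

omit [Finite F] in
theorem suAut_pow (g : ↥(Cfsg.GU n F q)) (σ : RingAut F) (k : ℕ) : suAut g σ ^ k = suAut (twU σ g k) (σ ^ k) := by
  induction k with
  | zero => rw [pow_zero, pow_zero]; exact suAut_one.symm
  | succ k ih => rw [pow_succ', ih, suAut_mul, pow_succ' σ]; rfl

/-- A field automorphism on norm one units. -/
def normOneMap (σ : RingAut F) : ↥(normOne F q) →* ↥(normOne F q) :=
  ((Units.map (σ : F →* F)).comp (normOne F q).subtype).codRestrict _ fun u => by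
    show Units.map (σ : F →* F) (u : Fˣ) ∈ normOne F q
    rw [mem_normOne, ← map_pow, mem_normOne.mp u.2, map_one]

/-- The norm along a field automorphism on norm one units. -/
def autNormU (σ : RingAut F) (k : ℕ) : ↥(normOne F q) →* ↥(normOne F q) :=
  ((CfsgLib.AutPSL.autNorm σ k).comp (normOne F q).subtype).codRestrict _ fun u => by
    show CfsgLib.AutPSL.autNorm σ k (u : Fˣ) ∈ normOne F q
    rw [mem_normOne, ← map_pow, mem_normOne.mp u.2, map_one]

include hF

theorem guMap_scalarU (σ : RingAut F) (u : ↥(normOne F q)) :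
    guMap σ (scalarU hF n u) = scalarU hF n (normOneMap σ u) := by
  apply Subtype.ext; apply Units.ext
  rw [coe_guMap, coe_glMap, coe_scalarU, coe_scalarU]
  ext a b
  rcases eq_or_ne a b with rfl | hab <;> simp [normOneMap, *]

theorem twU_scalar_mul (σ : RingAut F) (u : ↥(normOne F q)) (g : ↥(Cfsg.GU n F q)) (k : ℕ) :
    twU σ (scalarU hF n u * g) k = scalarU hF n (autNormU σ k u) * twU σ g k := by
  induction k with
  | zero =>
    show (1 : ↥(Cfsg.GU n F q)) = scalarU hF n (autNormU σ 0 u) * 1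
    rw [show autNormU σ 0 u = 1 from Subtype.ext rfl, map_one, one_mul]
  | succ k ih =>
    show scalarU hF n u * g * guMap σ (twU σ (scalarU hF n u * g) k) = _ * (g * guMap σ (twU σ g k))
    rw [ih, map_mul, guMap_scalarU, mul_assoc, ← mul_assoc g, ← scalarU_comm, mul_assoc, ← mul_assoc, ← map_mul]
    rfl

theorem scalarU_injective (hn : 1 ≤ n) : Function.Injective (scalarU (n := n) hF) := fun u v h => by
  have := congrArg (fun g : ↥(Cfsg.GU n F q) =>
    ((g : GL (Fin n) F) : Matrix (Fin n) (Fin n) F) ⟨0, hn⟩ ⟨0, hn⟩) h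
  simp only [coe_scalarU] at this
  exact Subtype.ext (Units.ext (by simpa using this))

/-- A matrix with orthonormal columns is an isometry. -/
theorem pres_of_orth (M : Matrix (Fin n) (Fin n) F)
    (h : ∀ a b, hf q (M.col a) (M.col b) = if a = b then 1 else 0) (x y : Fin n → F) :
    hf q (M *ᵥ x) (M *ᵥ y) = hf q x y := by
  classical
  have hsum : ∀ z : Fin n → F, M *ᵥ z = ∑ a, z a • M.col a := fun z => by
    funext i
    simp [Matrix.mulVec, dotProduct, Finset.sum_apply, mul_comm]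
  rw [hsum x, hsum y, hf_sum_left, Cfsg.hermForm]
  refine Finset.sum_congr rfl fun a _ => ?_
  rw [herm_smul_left, hf_sum_right hF, Finset.sum_eq_single a (fun b _ hb => by
    rw [herm_smul_right hF, h, if_neg (Ne.symm hb), mul_zero]) (by simp), herm_smul_right hF, h, if_pos rfl, mul_one]

/-- The fixed field of an automorphism of odd prime order. -/
theorem fix_card {σ : RingAut F} {r : ℕ} (hr : r.Prime) (hodd : Odd r) (hσ : orderOf σ = r) {p f : ℕ}
    (hp : p.Prime) (hq : q = p ^ f) :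
    r ∣ f ∧ Nat.card (CfsgLib.AutPSL.fixField σ) = (p ^ (f / r)) ^ 2 ∧ (p ^ (f / r)) ^ r = q := by
  have hK := CfsgLib.AutPSL.card_fixField_pow σ hσ
  rw [hF, hq, ← pow_mul] at hK
  obtain ⟨j, -, hj⟩ := (Nat.dvd_prime_pow hp).mp
    ((dvd_pow_self (Nat.card (CfsgLib.AutPSL.fixField σ)) hr.ne_zero).trans hK.dvd)
  rw [hj, ← pow_mul] at hK
  have hjr : j * r = f * 2 := Nat.pow_right_injective hp.two_le hK
  have hrf : r ∣ f := (hr.dvd_mul.mp ⟨j, by rw [← hjr, mul_comm]⟩).resolve_right fun h2 => by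
    have := (Nat.prime_dvd_prime_iff_eq hr Nat.prime_two).mp h2
    rw [this] at hodd
    exact absurd hodd (by decide)
  refine ⟨hrf, ?_, by rw [← pow_mul, Nat.div_mul_cancel hrf, hq]⟩
  rw [hj, ← pow_mul]
  congr 1
  obtain ⟨c, rfl⟩ := hrf
  rw [Nat.mul_div_cancel_left _ hr.pos]
  exact Nat.eq_of_mul_eq_mul_right hr.pos (hjr.trans (by ring))

omit hF [Finite F] in
/-- On the small field the two conjugations agree. -/
theorem coe_pow_q {K : Subfield F} [Finite K] {q₀ r : ℕ} (hK : Nat.card K = q₀ ^ 2) (hodd : Odd r)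
    (hq : q₀ ^ r = q) (x : K) : ((x : F)) ^ q = ((x ^ q₀ : K) : F) := by
  obtain ⟨m, rfl⟩ := hodd
  have h1 : ∀ m : ℕ, x ^ q₀ ^ (2 * m + 1) = x ^ q₀ := by
    intro m
    induction m with
    | zero => rw [mul_zero, zero_add, pow_one]
    | succ m ih =>
      rw [show 2 * (m + 1) + 1 = 2 * m + 1 + 2 by ring, pow_add, pow_mul, ih, pow_two, pow_mul, pow_q_q hK]
  rw [← hq, ← SubmonoidClass.coe_pow, h1]

/-- Hilbert 90 for `GU`. -/
theorem exists_guMap_eq {σ : RingAut F} {r : ℕ} (hr : r.Prime) (hodd : Odd r) (hσ : orderOf σ = r)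
    (g : ↥(Cfsg.GU n F q)) (hg : twU σ g r = 1) : ∃ h : ↥(Cfsg.GU n F q), g * guMap σ h = h := by
  classical
  obtain ⟨p, f, hp, -, hq, -⟩ := exists_prime hF
  obtain ⟨-, hK, hqr⟩ := fix_card hF hr hodd hσ hp hq
  set q₀ := p ^ (f / r)
  set K := CfsgLib.AutPSL.fixField σ
  have hconv := coe_pow_q (K := K) hK hodd hqr
  have hσr : σ ^ r = 1 := hσ ▸ pow_orderOf_eq_one σ
  have htw : ∀ k, CfsgLib.AutPSL.twistProd σ (g : GL (Fin n) F) k = (twU σ g k : GL (Fin n) F) := by
    intro k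
    induction k with
    | zero => rfl
    | succ k ih => rw [CfsgLib.AutPSL.twistProd_succ, ih]; rfl
  obtain ⟨h0, hh0⟩ := CfsgLib.AutPSL.exists_glMap_eq σ hσr (CfsgLib.AutPSL.injective_pow_of_orderOf hσ)
    (g : GL (Fin n) F) (by rw [htw, hg]; rfl) hr.pos
  set H : Matrix (Fin n) (Fin n) F := (h0 : Matrix (Fin n) (Fin n) F) with hH
  set G : Matrix (Fin n) (Fin n) F := ((g : GL (Fin n) F) : Matrix (Fin n) (Fin n) F) with hG
  have hGH : G * H.map σ = H := congrArg (fun x : GL (Fin n) F => (x : Matrix (Fin n) (Fin n) F)) hh0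
  let ι : (Fin n → K) → (Fin n → F) := fun x i => (x i : F)
  have hιadd : ∀ x y, H *ᵥ ι (x + y) = H *ᵥ ι x + H *ᵥ ι y := fun x y => by
    rw [← Matrix.mulVec_add]; rfl
  have hιsmul : ∀ (c : K) x, H *ᵥ ι (c • x) = (c : F) • (H *ᵥ ι x) := fun c x => by
    rw [← Matrix.mulVec_smul]; rfl
  have hfix : ∀ x y, hf q (H *ᵥ ι y) (H *ᵥ ι x) ∈ K := by
    intro x y
    refine (CfsgLib.AutPSL.mem_fixField σ).mpr ?_
    have e : ∀ z, G *ᵥ (fun i => σ ((H *ᵥ ι z) i)) = H *ᵥ ι z := fun z => by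
      have hz : (fun i => σ (ι z i)) = ι z := funext fun i => (CfsgLib.AutPSL.mem_fixField σ).mp (z i).2
      rw [map_mulVec, hz, Matrix.mulVec_mulVec, hGH]
    rw [map_herm, ← gu_preserves g, ← hG, e, e]
  let B : (Fin n → K) →ₛₗ[frobQ hK] (Fin n → K) →ₗ[K] K :=
    LinearMap.mk₂'ₛₗ (frobQ hK) (RingHom.id K) (fun x y => ⟨hf q (H *ᵥ ι y) (H *ᵥ ι x), hfix x y⟩)
      (fun a b c => Subtype.ext (by
        show hf q (H *ᵥ ι c) (H *ᵥ ι (a + b)) = hf q (H *ᵥ ι c) (H *ᵥ ι a) + hf q (H *ᵥ ι c) (H *ᵥ ι b)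
        rw [hιadd, herm_add_right hF]))
      (fun c a b => Subtype.ext (by
        show hf q (H *ᵥ ι b) (H *ᵥ ι (c • a)) = ((c ^ q₀ : K) : F) * hf q (H *ᵥ ι b) (H *ᵥ ι a)
        rw [hιsmul, herm_smul_right hF, hconv]))
      (fun a b c => Subtype.ext (by
        show hf q (H *ᵥ ι (b + c)) (H *ᵥ ι a) = hf q (H *ᵥ ι b) (H *ᵥ ι a) + hf q (H *ᵥ ι c) (H *ᵥ ι a)
        rw [hιadd, herm_add_left]))
      (fun c a b => Subtype.ext (by
        show hf q (H *ᵥ ι (c • b)) (H *ᵥ ι a) = (c : F) * hf q (H *ᵥ ι b) (H *ᵥ ι a)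
        rw [hιsmul, herm_smul_left]))
  have hS : B.IsSymm := ⟨fun x y => Subtype.ext (by
    show (((⟨_, hfix x y⟩ : K) ^ q₀ : K) : F) = hf q (H *ᵥ ι x) (H *ᵥ ι y)
    rw [← hconv, ← herm_swap hF])⟩
  have hnd : B.Nondegenerate := by
    have h1 : ∀ x, (∀ y, B x y = 0) → x = 0 := by
      intro x hx
      have h2 : ∀ j, hf q (H.col j) (H *ᵥ ι x) = 0 := fun j => by
        have h := congrArg Subtype.val (hx (Pi.single j 1))
        change hf q (H *ᵥ ι (Pi.single j 1)) (H *ᵥ ι x) = 0 at h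
        rwa [show ι (Pi.single j 1) = Pi.single j 1 from funext fun i => by
          rcases eq_or_ne i j with rfl | hij <;> simp [ι, *], Matrix.mulVec_single_one] at h
      have h3 : H *ᵥ ι x = 0 := uForm_nondeg hF n _ fun z => by
        show hf q z (H *ᵥ ι x) = 0
        obtain ⟨w, rfl⟩ : ∃ w, H *ᵥ w = z := ⟨(↑h0⁻¹ : Matrix (Fin n) (Fin n) F) *ᵥ z, by
          rw [hH, Matrix.mulVec_mulVec, ← Units.val_mul, mul_inv_cancel, Units.val_one, Matrix.one_mulVec]⟩
        have hsum : H *ᵥ w = ∑ a, w a • H.col a := by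
          funext i
          simp [Matrix.mulVec, dotProduct, Finset.sum_apply, mul_comm]
        rw [hsum, hf_sum_left]
        refine Finset.sum_eq_zero fun a _ => ?_
        rw [herm_smul_left, h2, mul_zero]
      have h4 : ι x = 0 := by
        have := congrArg (fun z => (↑h0⁻¹ : Matrix (Fin n) (Fin n) F) *ᵥ z) h3
        simpa [hH, Matrix.mulVec_mulVec, ← Units.val_mul] using this
      exact funext fun i => Subtype.ext (congrFun h4 i)
    refine ⟨h1, fun y hy => h1 y fun x => ?_⟩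
    rw [← hS.eq x y, hy x, map_zero]
  obtain ⟨b, hb⟩ := exists_orthonormal_herm (frobQ_ne_id hK) (frobQ_invol hK)
    (fun a ha ha0 => finite_norm_surjective (frobQ_ne_id hK) (frobQ_invol hK) a ha ha0) n (Fin n → K) B hS hnd
    (Module.finrank_fin_fun K)
  set P : Matrix (Fin n) (Fin n) F := Matrix.of fun i j => ((b j i : K) : F) with hP
  have hcol : ∀ j, (H * P).col j = H *ᵥ ι (b j) := fun j => by
    funext i; simp [Matrix.mul_apply, Matrix.mulVec, dotProduct, hP, ι]
  obtain ⟨h, hh⟩ := exists_gu_of_pres hF (H * P) (pres_of_orth hF _ fun i j => by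
    rw [hcol, hcol]
    refine (congrArg Subtype.val (hb j i)).trans ?_
    rcases eq_or_ne i j with rfl | hij <;> simp [Ne.symm, *])
  refine ⟨h, Subtype.ext (Units.ext ?_)⟩
  rw [Subgroup.coe_mul, Units.val_mul, coe_guMap, coe_glMap, hh, ← hG]
  have hPσ : P.map σ = P := by
    ext i j
    exact (CfsgLib.AutPSL.mem_fixField σ).mp (b j i).2
  rw [Matrix.map_mul, ← Matrix.mul_assoc, hGH, hPσ]

variable (hn : 3 ≤ n)
include hn

/-- A semilinear element of the same odd prime order is conjugate to the standard one. -/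
theorem exists_conj_of_orderOf {r : ℕ} (hr : r.Prime) (hodd : Odd r) {σ : RingAut F} (hσ : orderOf σ = r)
    {g : ↥(Cfsg.GU n F q)} (hg : orderOf (suAut g σ) = r) :
    ∃ k : ↥(Cfsg.GU n F q), suAut g σ = suAut k 1 * suAut (1 : ↥(Cfsg.GU n F q)) σ * (suAut k 1)⁻¹ := by
  have hσr : σ ^ r = 1 := hσ ▸ pow_orderOf_eq_one σ
  have hinj := CfsgLib.AutPSL.injective_pow_of_orderOf hσ
  have h1 : suAut (twU σ g r) (1 : RingAut F) = 1 := by
    rw [← hσr, ← suAut_pow]
    exact hg ▸ pow_orderOf_eq_one _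
  obtain ⟨-, c, hc⟩ := suAut_eq_one hF hn h1
  have hfix : normOneMap σ c = c := by
    refine scalarU_injective hF (n := n) (by omega) ?_
    have hadd : ∀ a b, twU σ g (a + b) = twU σ g a * guMap (σ ^ a) (twU σ g b) := by
      intro a b
      induction a with
      | zero => rw [Nat.zero_add, pow_zero, guMap_one_aut]; exact (one_mul _).symm
      | succ a ih =>
        rw [Nat.succ_add]
        show g * guMap σ (twU σ g (a + b)) = g * guMap σ (twU σ g a) * _
        rw [ih, map_mul, mul_assoc, pow_succ', guMap_mul_aut]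
    have e1 := hadd r 1
    have e2 : twU σ g (r + 1) = g * guMap σ (twU σ g r) := rfl
    rw [e2, hσr, guMap_one_aut, hc, guMap_scalarU, show twU σ g 1 = g by
      show g * guMap σ 1 = g
      rw [map_one, mul_one], scalarU_comm] at e1
    exact mul_left_cancel e1
  -- the norm is surjective onto the fixed norm one units
  obtain ⟨u, hu⟩ : ∃ u : ↥(normOne F q), autNormU σ r u = c := by
    obtain ⟨v, hv⟩ := CfsgLib.AutPSL.exists_autNorm_eq σ hσr hinj hr.pos (c : Fˣ) (congrArg Subtype.val hfix)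
    set w : Fˣ := v * (v ^ q)⁻¹
    have hw : w ∈ normOne F q := by
      have hvv : (v ^ q) ^ q = v := Units.ext (by simp only [Units.val_pow_eq_pow_val]; exact pow_q_q hF _)
      rw [mem_normOne, mul_pow, inv_pow, pow_succ, pow_succ (v ^ q), hvv, mul_comm v (v ^ q)]
      exact mul_inv_cancel (v ^ q * v)
    have hw2 : autNormU σ r ⟨w, hw⟩ = c ^ 2 := by
      refine Subtype.ext ?_
      show CfsgLib.AutPSL.autNorm σ r (v * (v ^ q)⁻¹) = (c : Fˣ) ^ 2
      rw [map_mul, map_inv, map_pow, hv, pow_two, mul_inv_eq_iff_eq_mul, mul_assoc, ← pow_succ',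
        mem_normOne.mp c.2, mul_one]
    have hcr : autNormU σ r c = c ^ r := by
      refine Subtype.ext ?_
      show CfsgLib.AutPSL.autNorm σ r (c : Fˣ) = (c : Fˣ) ^ r
      have : ∀ k, CfsgLib.AutPSL.autNorm σ k (c : Fˣ) = (c : Fˣ) ^ k := by
        intro k
        induction k with
        | zero => rw [pow_zero]; rfl
        | succ k ih =>
          show (c : Fˣ) * Units.map (σ : F →* F) (CfsgLib.AutPSL.autNorm σ k (c : Fˣ)) = _
          rw [ih, map_pow, show Units.map (σ : F →* F) (c : Fˣ) = (c : Fˣ) from congrArg Subtype.val hfix, pow_succ']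
      exact this r
    obtain ⟨m, hm⟩ := hodd
    refine ⟨c * (⟨w, hw⟩ ^ m)⁻¹, ?_⟩
    rw [map_mul, map_inv, map_pow, hcr, hw2, ← pow_mul, hm, pow_succ', mul_inv_cancel_right]
  obtain ⟨k, hk⟩ := exists_guMap_eq hF hr hodd hσ (scalarU hF n u⁻¹ * g)
    (by rw [twU_scalar_mul, hc, ← map_mul, map_inv, hu, inv_mul_cancel, map_one])
  refine ⟨k, ?_⟩
  have hinv : (suAut k 1)⁻¹ = suAut k⁻¹ (1 : RingAut F) := (map_inv (innDiagHom n F q) k).symm
  rw [hinv, suAut_mul, suAut_mul, guMap_one_aut, mul_one, one_mul, mul_one, map_inv]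
  rw [← eq_mul_inv_iff_mul_eq] at hk
  rw [← hk, suAut_scalarU_mul]

omit [Finite F] hF hn in
theorem stdField_mul (σ τ : RingAut F) :
    suAut (1 : ↥(Cfsg.GU n F q)) σ * suAut 1 τ = suAut 1 (σ * τ) := by
  rw [suAut_mul, map_one, one_mul]

theorem orderOf_suAut_one (σ : RingAut F) : orderOf (suAut (1 : ↥(Cfsg.GU n F q)) σ) = orderOf σ :=
  orderOf_injective
    ({ toFun := fun τ => suAut (1 : ↥(Cfsg.GU n F q)) τ
       map_one' := suAut_one
       map_mul' := fun τ υ => (stdField_mul τ υ).symm } : RingAut F →* MulAut (Cfsg.PSU n F q))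
    (fun _ _ e => (suAut_eq_suAut hF hn e).1) σ

variable (h32 : ¬ (n = 3 ∧ q = 2))
include h32

theorem fieldClass_normalForm {x : MulAut (Cfsg.PSU n F q)} (hx : Cfsg.IsFieldAutClassPSU x) :
    ∃ σ : RingAut F, Odd (orderOf σ) ∧ ∃ h ∈ Cfsg.inndiagPSU n F q,
      x = h * suAut (1 : ↥(Cfsg.GU n F q)) σ * h⁻¹ := by
  obtain ⟨α, φ, σ, -, hodd, hφ, hx⟩ := hx
  obtain rfl := isFieldOf_iff.mp hφ
  obtain ⟨g, ρ, rfl⟩ := exists_semi hF hn h32 α
  set φ := suAut (1 : ↥(Cfsg.GU n F q)) σ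
  set p := suAut (1 : ↥(Cfsg.GU n F q)) ρ with hp
  set a := suAut (guMap ρ⁻¹ g) (1 : RingAut F) with ha
  have hα : suAut g ρ = p * a := suAut_split g ρ
  have hpφ : p * φ = φ * p := by
    rw [hp, stdField_mul, stdField_mul, CfsgLib.AutPSL.ringAut_comm]
  refine ⟨σ, hodd, a⁻¹, inv_mem (by rw [inndiag_eq_range]; exact ⟨_, rfl⟩), ?_⟩
  have h1 : p * (a * x * a⁻¹) * p⁻¹ = φ := by
    refine Eq.trans ?_ hx
    rw [hα]; group
  have h3 : a * x * a⁻¹ = φ := by
    rw [mul_inv_eq_iff_eq_mul, ← hpφ] at h1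
    exact mul_left_cancel h1
  show x = a⁻¹ * φ * a⁻¹⁻¹
  rw [← h3]; group

theorem isConjUnder_of_orderOf {x δ : MulAut (Cfsg.PSU n F q)} (hx : Cfsg.IsFieldAutClassPSU x) {r : ℕ}
    (hr : r.Prime) (hxr : orderOf x = r) (hδ : δ ∈ Cfsg.inndiagPSU n F q) (hord : orderOf (δ * x) = r) :
    Cfsg.IsConjUnder (Cfsg.inndiagPSU n F q) x (δ * x) := by
  obtain ⟨σ, hodd, h, hh, rfl⟩ := fieldClass_normalForm hF hn h32 hx
  rw [CfsgLib.AutPSL.orderOf_conj', orderOf_suAut_one hF hn] at hxr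
  rw [CfsgLib.AutPSL.isConjUnder_iff_conj hh]
  have hd : h⁻¹ * δ * h ∈ Cfsg.inndiagPSU n F q := mul_mem (mul_mem (inv_mem hh) hδ) hh
  rw [inndiag_eq_range] at hd
  obtain ⟨g, hg⟩ := hd
  have e : h⁻¹ * (δ * (h * suAut (1 : ↥(Cfsg.GU n F q)) σ * h⁻¹)) * h = suAut g σ := by
    rw [suAut_eq_inndiag_mul g σ, ← innDiagHom_apply, hg]; group
  have hord' : orderOf (suAut g σ) = r := by
    rw [← e, ← hord]
    simpa using CfsgLib.AutPSL.orderOf_conj' h⁻¹ (δ * (h * suAut (1 : ↥(Cfsg.GU n F q)) σ * h⁻¹))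
  obtain ⟨k, hk⟩ := exists_conj_of_orderOf hF hn hr (hxr ▸ hodd) hxr hord'
  rw [e]
  exact ⟨_, inndiag_eq_range (F := F) (q := q) ▸ ⟨k, rfl⟩, hk⟩

omit hn h32

/-! ### Change of field -/

section Change

variable {K : Type*} [Field K] [Finite K] {q₀ : ℕ} {ι : K →+* F}

omit [Finite K] in
theorem map_mem_GU (hι : ∀ x, ι (x ^ q₀) = ι x ^ q) {g : GL (Fin n) K} (hg : g ∈ Cfsg.GU n K q₀) :
    Matrix.GeneralLinearGroup.map ι g ∈ Cfsg.GU n F q := by
  classical
  refine mem_GU_iff.mpr (pres_of_orth hF _ fun a b => ?_)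
  have h := congrArg ι (mem_GU_iff.mp hg (Pi.single a 1) (Pi.single b 1))
  have h2 : ι (hf q₀ (Pi.single a (1 : K) : Fin n → K) (Pi.single b 1)) = hf q (Pi.single a 1 : Fin n → F) (Pi.single b 1) := by
    simp only [Cfsg.hermForm, map_sum, map_mul, hι, Pi.single_apply, apply_ite ι, map_one, map_zero]
  rw [h2] at h
  refine Eq.trans ?_ (h.trans ?_)
  · simp only [Cfsg.hermForm, map_sum, map_mul, hι, Matrix.mulVec_single_one]
    rfl
  · rw [herm_single_left]
    rcases eq_or_ne a b with rfl | hab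
    · simp
    · simp [hab, zero_pow (q_ne_zero hF)]

/-- Isometries along a field map. -/
noncomputable def guHom (hι : ∀ x, ι (x ^ q₀) = ι x ^ q) : ↥(Cfsg.GU n K q₀) →* ↥(Cfsg.GU n F q) where
  toFun g := ⟨Matrix.GeneralLinearGroup.map ι (g : GL (Fin n) K), map_mem_GU hF hι g.2⟩
  map_one' := Subtype.ext (map_one _)
  map_mul' a b := Subtype.ext (map_mul _ _ _)

end Change

omit hF [Finite F] in
theorem nonempty_PGU_congr {K L : Type*} [Field K] [Field L] [Finite K] [Finite L] {q₀ : ℕ} (e : K ≃+* L)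
    (hK : Nat.card K = q₀ ^ 2) : Nonempty (Cfsg.PGU n K q₀ ≃* Cfsg.PGU n L q₀) := by
  have hL : Nat.card L = q₀ ^ 2 := by rw [← hK, Nat.card_congr e.toEquiv]
  have h1 : ∀ x, (e : K →+* L) (x ^ q₀) = (e : K →+* L) x ^ q₀ := fun x => map_pow _ _ _
  have h2 : ∀ x, (e.symm : L →+* K) (x ^ q₀) = (e.symm : L →+* K) x ^ q₀ := fun x => map_pow _ _ _
  let E : ↥(Cfsg.GU n K q₀) ≃* ↥(Cfsg.GU n L q₀) :=
    { guHom hL h1 with
      invFun := guHom hK h2
      left_inv := fun g => Subtype.ext (Units.ext (by ext a b; exact e.symm_apply_apply _))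
      right_inv := fun g => Subtype.ext (Units.ext (by ext a b; exact e.apply_symm_apply _)) }
  refine ⟨QuotientGroup.congr _ _ E ?_⟩
  ext y
  constructor
  · rintro ⟨z, hz, rfl⟩
    obtain ⟨c, hc⟩ := (Cfsg.Geo.mem_scalars_iff _).mp hz
    refine (Cfsg.Geo.mem_scalars_iff _).mpr ⟨Units.map ((e : K →+* L) : K →* L) c, ?_⟩
    show (((z : GL (Fin n) K) : Matrix (Fin n) (Fin n) K)).map e = _
    rw [show ((z : GL (Fin n) K) : Matrix (Fin n) (Fin n) K) = (c : K) • 1 from hc]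
    ext a b
    rcases eq_or_ne a b with rfl | hab <;> simp [*]
  · intro hy
    obtain ⟨c, hc⟩ := (Cfsg.Geo.mem_scalars_iff _).mp hy
    refine ⟨E.symm y, (Cfsg.Geo.mem_scalars_iff _).mpr ⟨Units.map ((e.symm : L →+* K) : L →* K) c, ?_⟩,
      E.apply_symm_apply y⟩
    show (((y : GL (Fin n) L) : Matrix (Fin n) (Fin n) L)).map e.symm = _
    rw [show ((y : GL (Fin n) L) : Matrix (Fin n) (Fin n) L) = (c : L) • 1 from hc]
    ext a b
    rcases eq_or_ne a b with rfl | hab <;> simp [*]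

section Centralizer

variable {σ : RingAut F} {r : ℕ} {q₀ : ℕ} (hK : Nat.card (CfsgLib.AutPSL.fixField σ) = q₀ ^ 2)
  (hodd : Odd r) (hqr : q₀ ^ r = q)

/-- Isometries over the fixed field. -/
noncomputable def fixGU : ↥(Cfsg.GU n (CfsgLib.AutPSL.fixField σ) q₀) →* ↥(Cfsg.GU n F q) :=
  guHom hF (ι := (CfsgLib.AutPSL.fixField σ).subtype) fun x => (coe_pow_q hK hodd hqr x).symm

theorem mem_range_fixGU {g : ↥(Cfsg.GU n F q)} :
    g ∈ (fixGU (n := n) hF hK hodd hqr).range ↔ guMap σ g = g := by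
  set K := CfsgLib.AutPSL.fixField σ
  constructor
  · rintro ⟨k, rfl⟩
    apply Subtype.ext; apply Units.ext
    ext a b
    exact (CfsgLib.AutPSL.mem_fixField σ).mp (((k : GL (Fin n) K) : Matrix (Fin n) (Fin n) K) a b).2
  · intro h
    set G := ((g : GL (Fin n) F) : Matrix (Fin n) (Fin n) F) with hG
    have hmem : ∀ a b, G a b ∈ K := fun a b => (CfsgLib.AutPSL.mem_fixField σ).mpr (congrFun (congrFun
      (congrArg (fun k : ↥(Cfsg.GU n F q) => ((k : GL (Fin n) F) : Matrix (Fin n) (Fin n) F)) h) a) b)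
    let M : Matrix (Fin n) (Fin n) K := Matrix.of fun a b => ⟨G a b, hmem a b⟩
    obtain ⟨k, hk⟩ := exists_gu_of_pres hK M (pres_of_orth hK M fun a b => Subtype.ext (by
      have := mem_GU_iff.mp g.2 (Pi.single a 1) (Pi.single b 1)
      rw [Matrix.mulVec_single_one, Matrix.mulVec_single_one, herm_single_left] at this
      refine Eq.trans ?_ (this.trans ?_)
      · simp only [Cfsg.hermForm, ← hG, Subfield.coe_subtype, map_sum, map_mul]
        rw [show ∀ s : Fin n → K, ((∑ i, s i : K) : F) = ∑ i, (s i : F) from fun s => map_sum K.subtype s Finset.univ]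
        refine Finset.sum_congr rfl fun i _ => ?_
        rw [MulMemClass.coe_mul, ← coe_pow_q hK hodd hqr]
        rfl
      · rcases eq_or_ne a b with rfl | hab <;> simp [*, zero_pow (q_ne_zero hF)]))
    refine ⟨k, Subtype.ext (Units.ext ?_)⟩
    show (((k : GL (Fin n) K) : Matrix (Fin n) (Fin n) K)).map K.subtype = G
    rw [hk]; rfl

theorem centralizer_std_eq (hn : 3 ≤ n) (hr : r.Prime) (hσ : orderOf σ = r) :
    Cfsg.inndiagPSU n F q ⊓ Subgroup.centralizer {suAut (1 : ↥(Cfsg.GU n F q)) σ} =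
      ((innDiagHom n F q).comp (fixGU hF hK hodd hqr)).range := by
  rw [MonoidHom.range_comp, inndiag_eq_range]
  have hcomm : ∀ g : ↥(Cfsg.GU n F q),
      suAut g 1 * suAut (1 : ↥(Cfsg.GU n F q)) σ = suAut (1 : ↥(Cfsg.GU n F q)) σ * suAut g 1 ↔
        suAut g (1 : RingAut F) = suAut (guMap σ g) 1 := fun g => by
    rw [suAut_mul, suAut_mul, guMap_one_aut, mul_one, one_mul, one_mul, mul_one]
    refine ⟨fun e => ?_, fun e => by rw [suAut_eq_inndiag_mul g σ, e, ← suAut_eq_inndiag_mul]⟩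
    obtain ⟨-, u, hu⟩ := suAut_eq_suAut hF hn e
    rw [hu, ← scalarU_comm, suAut_scalarU_mul]
  ext x
  constructor
  · rintro ⟨⟨g, rfl⟩, hc⟩
    obtain ⟨-, c, hc'⟩ := suAut_eq_suAut hF hn ((hcomm g).mp (Subgroup.mem_centralizer_singleton_iff.mp hc))
    have hσr : σ ^ r = 1 := hσ ▸ pow_orderOf_eq_one σ
    have hiter : ∀ k : ℕ, guMap (σ ^ k) g = g * scalarU hF n (autNormU σ k c) := by
      intro k
      induction k with
      | zero =>
        rw [pow_zero, guMap_one_aut, show autNormU σ 0 c = 1 from Subtype.ext rfl, map_one, mul_one]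
      | succ k ih =>
        rw [pow_succ', guMap_mul_aut, ih, map_mul, hc', guMap_scalarU, mul_assoc, ← map_mul]
        rfl
    have hN : autNormU σ r c = 1 := by
      have := hiter r
      rw [hσr, guMap_one_aut, left_eq_mul, ← map_one (scalarU hF n)] at this
      exact scalarU_injective hF (by omega) this
    obtain ⟨w, hw⟩ := CfsgLib.AutPSL.exists_div_eq_of_autNorm σ hσr (CfsgLib.AutPSL.injective_pow_of_orderOf hσ)
      hr.pos (c : Fˣ) (congrArg Subtype.val hN)
    set N : F := (w : F) ^ (q + 1) with hNdef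
    have hw' : ((c : Fˣ) : F) * σ (w : F) = w := congrArg Units.val hw
    have hσN : σ N = N := by
      rw [hNdef, map_pow]
      conv_rhs => rw [← hw', mul_pow, normOne_val, one_mul]
    let NK : CfsgLib.AutPSL.fixField σ := ⟨N, (CfsgLib.AutPSL.mem_fixField σ).mpr hσN⟩
    obtain ⟨v, hv⟩ := exists_norm_eq hK (μ := NK) (Subtype.ext (by
      rw [← coe_pow_q hK hodd hqr]; exact norm_fixed hF (w : F)))
    have hvN : (v : F) ^ (q + 1) = N := by
      rw [pow_succ, coe_pow_q hK hodd hqr, ← MulMemClass.coe_mul, ← pow_succ, hv]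
    have hv0 : (v : F) ≠ 0 := fun e => by
      rw [e, zero_pow (Nat.succ_ne_zero q)] at hvN
      exact w.ne_zero (eq_zero_of_pow_eq_zero hvN.symm)
    set w' : Fˣ := w * (Units.mk0 (v : F) hv0)⁻¹ with hw'def
    have hw'1 : w' ∈ normOne F q := by
      refine mem_normOne.mpr (Units.ext ?_)
      simp only [hw'def, Units.val_pow_eq_pow_val, Units.val_mul, Units.val_inv_eq_inv_val, Units.val_mk0, mul_pow,
        inv_pow, hvN, Units.val_one]
      exact mul_inv_cancel₀ (pow_ne_zero _ w.ne_zero)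
    have hcw : c * normOneMap σ ⟨w', hw'1⟩ = ⟨w', hw'1⟩ := Subtype.ext (Units.ext (by
      show ((c : Fˣ) : F) * σ (w' : F) = (w' : F)
      simp only [hw'def, Units.val_mul, Units.val_inv_eq_inv_val, Units.val_mk0, map_mul, map_inv₀,
        (CfsgLib.AutPSL.mem_fixField σ).mp v.2]
      rw [← mul_assoc, hw']))
    refine ⟨g * scalarU hF n ⟨w', hw'1⟩, (mem_range_fixGU hF hK hodd hqr).mpr ?_, ?_⟩
    · rw [map_mul, hc', guMap_scalarU, mul_assoc, ← map_mul, hcw]
    · rw [map_mul, innDiagHom_apply (scalarU hF n _), suAut_scalarU, mul_one]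
  · rintro ⟨g, hg, rfl⟩
    refine Subgroup.mem_inf.mpr ⟨⟨g, rfl⟩, Subgroup.mem_centralizer_singleton_iff.mpr ?_⟩
    exact (hcomm g).mpr (by rw [(mem_range_fixGU hF hK hodd hqr).mp hg])

theorem ker_innDiag_fixGU (hn : 3 ≤ n) :
    ((innDiagHom n F q).comp (fixGU hF hK hodd hqr)).ker =
      (Cfsg.Geo.scalars (Fin n) (CfsgLib.AutPSL.fixField σ)).subgroupOf
        (Cfsg.GU n (CfsgLib.AutPSL.fixField σ) q₀) := by
  set K := CfsgLib.AutPSL.fixField σ
  ext g
  rw [Subgroup.mem_subgroupOf, Cfsg.Geo.mem_scalars_iff, ← MonoidHom.comap_ker, Subgroup.mem_comap,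
    mem_ker_innDiag hF hn]
  let i0 : Fin n := ⟨0, by omega⟩
  constructor
  · rintro ⟨u, hu⟩
    have h0 : (((g : GL (Fin n) K) : Matrix (Fin n) (Fin n) K)).map K.subtype = ((u : Fˣ) : F) • 1 := by
      rw [← coe_scalarU hF, ← hu]; rfl
    have hu' : ((u : Fˣ) : F) ∈ K := by
      have := congrFun (congrFun h0 i0) i0
      simp at this
      rw [← this]; exact Subtype.coe_prop _
    refine ⟨Units.mk0 ⟨((u : Fˣ) : F), hu'⟩ (fun e => (u : Fˣ).ne_zero (congrArg Subtype.val e)), ?_⟩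
    ext a b
    have := congrFun (congrFun h0 a) b
    rcases eq_or_ne a b with rfl | hab <;> simp [*] at this ⊢ <;> exact this
  · rintro ⟨c, hc⟩
    have h1 := mem_GU_iff.mp g.2 (Pi.single i0 1) (Pi.single i0 1)
    rw [hc, Matrix.smul_mulVec, Matrix.one_mulVec, herm_smul_left, herm_smul_right hK, herm_single_left] at h1
    simp only [Pi.single_eq_same, one_pow, mul_one] at h1
    refine ⟨⟨Units.map (K.subtype : K →* F) c, mem_normOne.mpr (Units.ext ?_)⟩, Subtype.ext (Units.ext ?_)⟩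
    · rw [Units.val_pow_eq_pow_val, Units.coe_map, Units.val_one]
      show ((c : K) : F) ^ (q + 1) = 1
      rw [pow_succ', coe_pow_q hK hodd hqr, ← MulMemClass.coe_mul, h1, OneMemClass.coe_one]
    · rw [coe_scalarU]
      show (((g : GL (Fin n) K) : Matrix (Fin n) (Fin n) K)).map K.subtype = _
      rw [hc]
      ext a b
      rcases eq_or_ne a b with rfl | hab <;> simp [*]

/-- The norm one units fixed by the field automorphism. -/
def fixNormOne (σ : RingAut F) : Subgroup ↥(normOne F q) := (normOneMap σ).eqLocus (MonoidHom.id _)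

theorem det_range_fixGU (hn : 3 ≤ n) :
    (fixGU (n := n) hF hK hodd hqr).range.map (detU hF n) = fixNormOne σ := by
  ext u
  constructor
  · rintro ⟨g, hg, rfl⟩
    show normOneMap σ (detU hF n g) = detU hF n g
    conv_rhs => rw [← (mem_range_fixGU hF hK hodd hqr).mp hg]
    exact Subtype.ext (Units.ext (det_map_ringEquiv σ _).symm)
  · intro hu
    obtain ⟨g, hg, hfix⟩ := exists_diagU hF (n := n) (by omega) u
    exact ⟨g, (mem_range_fixGU hF hK hodd hqr).mpr (hfix σ (congrArg (fun v : ↥(normOne F q) => ((v : Fˣ) : F)) hu)), hg⟩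

include hK hodd hqr in
theorem card_fixNormOne : Nat.card ↥(fixNormOne (q := q) σ) = q₀ + 1 := by
  set K := CfsgLib.AutPSL.fixField σ
  rw [← card_normOne hK]
  refine Nat.card_congr
    { toFun := fun u => ⟨Units.mk0 (⟨((u.1 : Fˣ) : F), (CfsgLib.AutPSL.mem_fixField σ).mpr
          (congrArg (fun v : ↥(normOne F q) => ((v : Fˣ) : F)) u.2)⟩ : K)
          (fun e => (u.1 : Fˣ).ne_zero (congrArg Subtype.val e)), ?_⟩
      invFun := fun v => ⟨⟨Units.map (K.subtype : K →* F) (v : Kˣ), ?_⟩, ?_⟩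
      left_inv := fun u => Subtype.ext (Subtype.ext (Units.ext rfl))
      right_inv := fun v => Subtype.ext (Units.ext rfl) }
  · refine mem_normOne.mpr (Units.ext (Subtype.ext ?_))
    rw [Units.val_pow_eq_pow_val, Units.val_mk0, Units.val_one, pow_succ, MulMemClass.coe_mul,
      ← coe_pow_q hK hodd hqr, ← pow_succ]
    exact normOne_val u.1
  · refine mem_normOne.mpr (Units.ext ?_)
    rw [Units.val_pow_eq_pow_val, Units.coe_map, Units.val_one]
    show (((v : Kˣ) : K) : F) ^ (q + 1) = 1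
    rw [pow_succ, coe_pow_q hK hodd hqr, ← MulMemClass.coe_mul, ← pow_succ, normOne_val, OneMemClass.coe_one]
  · exact Subtype.ext (Units.ext ((CfsgLib.AutPSL.mem_fixField σ).mp ((v : Kˣ) : K).2))

include hK hodd hqr in
theorem index_fixNormOne : (fixNormOne (q := q) σ).index = (q + 1) / (q₀ + 1) := by
  rw [← card_normOne hF, ← card_fixNormOne hF hK hodd hqr, ← Subgroup.card_mul_index (fixNormOne (q := q) σ),
    Nat.mul_div_cancel_left _ Nat.card_pos]

end Centralizer

/-- Centraliser and class splitting of a field automorphism of odd prime order. -/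
theorem field_centralizer (hn : 3 ≤ n) (h32 : ¬ (n = 3 ∧ q = 2)) {p f : ℕ} (hp : p.Prime) (hq : q = p ^ f)
    {x : MulAut (Cfsg.PSU n F q)} (hx : Cfsg.IsFieldAutClassPSU x) {r : ℕ} (hr : r.Prime) (hxr : orderOf x = r)
    (F₀ : Type*) [Field F₀] [Fintype F₀] (hF₀ : Fintype.card F₀ = p ^ (2 * (f / r))) :
    r ∣ f ∧ Nonempty (↥(Cfsg.inndiagPSU n F q ⊓ Subgroup.centralizer {x}) ≃* Cfsg.PGU n F₀ (p ^ (f / r))) ∧
      Cfsg.splitClassCount (Cfsg.inndiagPSU n F q) (Cfsg.Inn (Cfsg.PSU n F q)) x =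
        Nat.gcd n ((q + 1) / (p ^ (f / r) + 1)) := by
  classical
  obtain ⟨σ, hodd, h, hh, rfl⟩ := fieldClass_normalForm hF hn h32 hx
  rw [CfsgLib.AutPSL.orderOf_conj', orderOf_suAut_one hF hn] at hxr
  rw [hxr] at hodd
  obtain ⟨hrf, hK, hqr⟩ := fix_card hF hr hodd hxr hp hq
  refine ⟨hrf, ?_, ?_⟩
  · obtain ⟨e1⟩ := CfsgLib.AutPSL.centralizer_conj_equiv (H := Cfsg.inndiagPSU n F q)
      (x := suAut (1 : ↥(Cfsg.GU n F q)) σ) hh
    letI := Fintype.ofFinite (CfsgLib.AutPSL.fixField σ)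
    let eK : CfsgLib.AutPSL.fixField σ ≃+* F₀ := FiniteField.ringEquivOfCardEq (K := CfsgLib.AutPSL.fixField σ) (K' := F₀)
      (by rw [← Nat.card_eq_fintype_card, hK, hF₀, ← pow_mul, mul_comm])
    obtain ⟨eP⟩ := nonempty_PGU_congr (n := n) eK hK
    exact ⟨e1.trans <| (MulEquiv.subgroupCongr (centralizer_std_eq hF hK hodd hqr hn hr hxr)).trans <|
      (QuotientGroup.quotientKerEquivRange _).symm.trans <|
      (QuotientGroup.quotientMulEquivOfEq (ker_innDiag_fixGU hF hK hodd hqr hn)).trans eP⟩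
  · rw [CfsgLib.AutPSL.splitClassCount_conj hh, CfsgLib.AutPSL.splitClassCount_eq _ _ inn_le_inndiag,
      centralizer_std_eq hF hK hodd hqr hn hr hxr, MonoidHom.range_comp,
      relIndex_inn_sup hF hn _ _ (det_range_fixGU hF hK hodd hqr hn), index_fixNormOne hF hK hodd hqr]

end CfsgLib.AutPSU
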