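import Cfsg.Agent.AutPSU.Root
import Cfsg.Agent.Unitary.Decompose

/-!
Frames (a hyperbolic pair and an orthonormal basis of its complement) and Levi elements.
-/

set_option autoImplicit false
set_option linter.style.haveILetI false

open Matrix

namespace CfsgLib.AutPSU

open CfsgLib.Unitary CfsgLib.Forms

variable {F : Type*} [Field F] {q n : ℕ}

local notation "hf" => Cfsg.hermForm _ _

/-- A hyperbolic pair with an orthonormal basis of its complement. -/
structure Frame (q : ℕ) {n d : ℕ} (e f : Fin n → F) (b : Fin d → Fin n → F) : Prop where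
  H : Hyp q e f
  inW : ∀ i, InW q e f (b i)
  on : ∀ i j, hf q (b i) (b j) = if i = j then 1 else 0
  expand : ∀ x, x = hf q x f • e + hf q x e • f + ∑ i, hf q x (b i) • b i

/-- An element fixing both vectors of a pair and preserving the form. -/
structure FixPair (q : ℕ) {n : ℕ} (e f : Fin n → F) (R : Matrix (Fin n) (Fin n) F) : Prop where
  fe : R *ᵥ e = e
  ff : R *ᵥ f = f
  pres : ∀ x y, hf q (R *ᵥ x) (R *ᵥ y) = hf q x y

variable [Finite F] (hF : Nat.card F = q ^ 2)
include hF

omit [Finite F] hF in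
theorem FixPair.one (e f : Fin n → F) : FixPair q e f (1 : Matrix (Fin n) (Fin n) F) :=
  ⟨Matrix.one_mulVec _, Matrix.one_mulVec _, fun x y => by rw [Matrix.one_mulVec, Matrix.one_mulVec]⟩

omit [Finite F] hF in
theorem FixPair.mul {e f : Fin n → F} {R S : Matrix (Fin n) (Fin n) F} (hR : FixPair q e f R) (hS : FixPair q e f S) :
    FixPair q e f (R * S) :=
  ⟨by rw [← Matrix.mulVec_mulVec, hS.fe, hR.fe], by rw [← Matrix.mulVec_mulVec, hS.ff, hR.ff],
    fun x y => by rw [← Matrix.mulVec_mulVec, ← Matrix.mulVec_mulVec, hR.pres, hS.pres]⟩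

/-- The torus matrix on a hyperbolic pair. -/
def torMat (q : ℕ) {n : ℕ} (e f : Fin n → F) (μ : F) : Matrix (Fin n) (Fin n) F :=
  (1 + (μ - 1) • Matrix.vecMulVec e (barVec q f)) * (1 + ((μ ^ q)⁻¹ - 1) • Matrix.vecMulVec f (barVec q e))

omit hF in
theorem torMat_mulVec {e f : Fin n → F} (H : Hyp q e f) (μ : F) (x : Fin n → F) :
    torMat q e f μ *ᵥ x = x + ((μ - 1) * hf q x f) • e + (((μ ^ q)⁻¹ - 1) * hf q x e) • f := by
  simp only [torMat, ← Matrix.mulVec_mulVec, Matrix.add_mulVec, Matrix.one_mulVec, Matrix.smul_mulVec,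
    Matrix.vecMulVec_mulVec, op_smul_eq_smul, barVec_dot, herm_add_left, herm_smul_left, smul_smul]
  rw [H.ff, mul_zero, add_zero]
  abel

theorem torMat_preserves {e f : Fin n → F} (H : Hyp q e f) {μ : F} (hμ : μ ≠ 0) (x y : Fin n → F) :
    hf q (torMat q e f μ *ᵥ x) (torMat q e f μ *ᵥ y) = hf q x y := by
  rw [torMat_mulVec H, torMat_mulVec H]
  simp only [herm_add_left, herm_smul_left, herm_add_right hF, herm_smul_right hF, H.ee, H.ff, H.ef, H.fe hF,
    ← herm_swap hF, mul_zero, mul_one, add_zero, zero_add]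
  have h1 : ((μ - 1) * hf q y f) ^ q = (μ ^ q - 1) * hf q f y := by
    rw [mul_pow, ← herm_swap hF, ← frobQ_apply hF (μ - 1), map_sub, map_one, frobQ_apply]
  have h2 : (((μ ^ q)⁻¹ - 1) * hf q y e) ^ q = (μ⁻¹ - 1) * hf q e y := by
    rw [mul_pow, ← herm_swap hF, ← frobQ_apply hF ((μ ^ q)⁻¹ - 1), map_sub, map_one, map_inv₀, frobQ_apply,
      pow_q_q hF]
  rw [h1, h2]
  have hμq : μ ^ q ≠ 0 := pow_ne_zero _ hμ
  field_simp
  ring

omit hF in
theorem det_one_add_smul (c : F) (v w : Fin n → F) :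
    (1 + c • Matrix.vecMulVec v (barVec q w)).det = 1 + c * hf q v w := by
  rw [← Matrix.vecMulVec_smul, Matrix.vecMulVec_eq (Fin 1),
    Matrix.det_one_add_replicateCol_mul_replicateRow, smul_dotProduct, smul_eq_mul, barVec_dot]

theorem det_torMat {e f : Fin n → F} (H : Hyp q e f) (μ : F) : (torMat q e f μ).det = μ * (μ ^ q)⁻¹ := by
  rw [torMat, Matrix.det_mul, det_one_add_smul, det_one_add_smul, H.ef, H.fe hF]
  ring

/-- A Levi element: a torus element times an isometry of the complement. -/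
noncomputable def levi {e f : Fin n → F} (H : Hyp q e f) {μ : F} (hμ : μ ≠ 0) {R : Matrix (Fin n) (Fin n) F}
    (hR : FixPair q e f R) (hd : μ * R.det = μ ^ q) : Cfsg.SU n F q :=
  ⟨⟨torMat q e f μ * R, by
      rw [Matrix.det_mul, det_torMat hF H, mul_right_comm, hd, mul_inv_cancel₀ (pow_ne_zero _ hμ)]⟩, fun x y => by
    show hf q ((torMat q e f μ * R) *ᵥ x) ((torMat q e f μ * R) *ᵥ y) = _
    rw [← Matrix.mulVec_mulVec, ← Matrix.mulVec_mulVec, torMat_preserves hF H hμ, hR.pres]⟩

theorem inW_fix {e f : Fin n → F} {R : Matrix (Fin n) (Fin n) F} (hR : FixPair q e f R) {a : Fin n → F}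
    (ha : InW q e f a) : InW q e f (R *ᵥ a) := by
  constructor
  · show hf q (R *ᵥ a) e = 0
    rw [← hR.fe, hR.pres]; exact ha.1
  · show hf q (R *ᵥ a) f = 0
    rw [← hR.ff, hR.pres]; exact ha.2

theorem levi_e {e f : Fin n → F} (H : Hyp q e f) {μ : F} (hμ : μ ≠ 0) {R : Matrix (Fin n) (Fin n) F}
    (hR : FixPair q e f R) (hd : μ * R.det = μ ^ q) : suMat (levi hF H hμ hR hd) *ᵥ e = μ • e := by
  show (torMat q e f μ * R) *ᵥ e = _
  rw [← Matrix.mulVec_mulVec, hR.fe, torMat_mulVec H, H.ef, H.ee]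
  funext i; simp only [Pi.add_apply, Pi.smul_apply, smul_eq_mul]; ring

theorem levi_f {e f : Fin n → F} (H : Hyp q e f) {μ : F} (hμ : μ ≠ 0) {R : Matrix (Fin n) (Fin n) F}
    (hR : FixPair q e f R) (hd : μ * R.det = μ ^ q) : suMat (levi hF H hμ hR hd) *ᵥ f = (μ ^ q)⁻¹ • f := by
  show (torMat q e f μ * R) *ᵥ f = _
  rw [← Matrix.mulVec_mulVec, hR.ff, torMat_mulVec H, H.fe hF, H.ff]
  funext i; simp only [Pi.add_apply, Pi.smul_apply, smul_eq_mul]; ring

theorem levi_W {e f : Fin n → F} (H : Hyp q e f) {μ : F} (hμ : μ ≠ 0) {R : Matrix (Fin n) (Fin n) F}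
    (hR : FixPair q e f R) (hd : μ * R.det = μ ^ q) {a : Fin n → F} (ha : InW q e f a) :
    suMat (levi hF H hμ hR hd) *ᵥ a = R *ᵥ a := by
  show (torMat q e f μ * R) *ᵥ a = _
  have h := inW_fix hF hR ha
  rw [← Matrix.mulVec_mulVec, torMat_mulVec H, h.1, h.2]
  simp

/-- A pseudo-reflection at a vector orthogonal to the pair. -/
theorem fixPair_utv {e f u : Fin n → F} (hu : InW q e f u) {c : F}
    (hc : c + c ^ q + c * c ^ q * hf q u u = 0) :
    FixPair q e f (Cfsg.unitaryTransvection n q u c) := by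
  refine ⟨?_, ?_, fun x y => ?_⟩
  · rw [utv_mulVec, hf_swap_zero hF hu.1, mul_zero, zero_smul, add_zero]
  · rw [utv_mulVec, hf_swap_zero hF hu.2, mul_zero, zero_smul, add_zero]
  · simp only [utv_mulVec, herm_add_left, herm_smul_left, herm_add_right hF, herm_smul_right hF, mul_pow,
      ← herm_swap hF]
    linear_combination (hf q x u * hf q u y) * hc

/-- The reflection matrix with eigenvalue `z` at a unit vector. -/
def refl (q : ℕ) {n : ℕ} (u : Fin n → F) (z : F) : Matrix (Fin n) (Fin n) F :=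
  Cfsg.unitaryTransvection n q u (z - 1)

theorem fixPair_refl {e f u : Fin n → F} (hu : InW q e f u) (hu1 : hf q u u = 1) {z : F} (hz : z ^ (q + 1) = 1) :
    FixPair q e f (refl q u z) := by
  refine fixPair_utv hF hu ?_
  rw [hu1, ← frobQ_apply hF (z - 1), map_sub, map_one, frobQ_apply]
  rw [pow_succ] at hz
  linear_combination hz

omit hF in
theorem det_refl {u : Fin n → F} (hu1 : hf q u u = 1) (z : F) : (refl q u z).det = z := by
  rw [refl, det_utv, hu1]; ring

omit hF in
theorem refl_mulVec (u : Fin n → F) (z : F) (x : Fin n → F) :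
    refl q u z *ᵥ x = x + ((z - 1) * hf q x u) • u := utv_mulVec _ _ _

/-- The swap of two orthogonal unit vectors. -/
def swapMat (q : ℕ) {n : ℕ} (u v : Fin n → F) : Matrix (Fin n) (Fin n) F :=
  Cfsg.unitaryTransvection n q (u - v) (-1)

theorem hf_sub_self {u v : Fin n → F} (hu : hf q u u = 1) (hv : hf q v v = 1) (huv : hf q u v = 0) :
    hf q (u - v) (u - v) = 2 := by
  rw [herm_sub_left hF, herm_sub_right hF, herm_sub_right hF, hu, hv, huv, hf_swap_zero hF huv]
  ring

theorem fixPair_swap {e f u v : Fin n → F} (hu : InW q e f u) (hv : InW q e f v) (hu1 : hf q u u = 1)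
    (hv1 : hf q v v = 1) (huv : hf q u v = 0) : FixPair q e f (swapMat q u v) := by
  refine fixPair_utv hF ⟨?_, ?_⟩ ?_
  · show hf q (u - v) e = 0
    rw [herm_sub_left hF, hu.1, hv.1, sub_zero]
  · show hf q (u - v) f = 0
    rw [herm_sub_left hF, hu.2, hv.2, sub_zero]
  · rw [hf_sub_self hF hu1 hv1 huv, ← frobQ_apply hF (-1), map_neg, map_one]
    ring

theorem det_swapMat {u v : Fin n → F} (hu1 : hf q u u = 1) (hv1 : hf q v v = 1) (huv : hf q u v = 0) :
    (swapMat q u v).det = -1 := by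
  rw [swapMat, det_utv, hf_sub_self hF hu1 hv1 huv]; ring

theorem swapMat_left {u v : Fin n → F} (hu1 : hf q u u = 1) (huv : hf q u v = 0) : swapMat q u v *ᵥ u = v := by
  rw [swapMat, utv_mulVec, herm_sub_right hF, hu1, huv]
  simp

/-- Hilbert 90 for the norm one elements. -/
theorem exists_pow_eq_mul {z : F} (hz : z ^ (q + 1) = 1) : ∃ μ : F, μ ≠ 0 ∧ μ ^ q = z * μ := by
  have hz' : z * z ^ q = 1 := by rw [← pow_succ']; exact hz
  obtain ⟨w, hw⟩ : ∃ w, w + z ^ q * w ^ q ≠ 0 := by
    by_contra hc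
    push Not at hc
    have h1 := hc 1
    rw [one_pow, mul_one] at h1
    obtain ⟨b, hb⟩ : ∃ b, frobQ hF b ≠ b := by
      by_contra hc'; push Not at hc'; exact frobQ_ne_id hF (RingHom.ext hc')
    apply hb
    rw [frobQ_apply]
    have h2 := hc b
    rw [eq_neg_of_add_eq_zero_right h1] at h2
    linear_combination -h2
  refine ⟨w + z ^ q * w ^ q, hw, ?_⟩
  rw [← frobQ_apply hF (w + _), map_add, map_mul, frobQ_apply, frobQ_apply, frobQ_apply, pow_q_q hF, pow_q_q hF]
  linear_combination -(w ^ q) * hz'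

/-- A frame extending a hyperbolic pair. -/
theorem exists_frame {e f : Fin n → F} (H : Hyp q e f) :
    ∃ d, d + 2 = n ∧ ∃ b : Fin d → Fin n → F, Frame q e f b := by
  let φ : (Fin n → F) →ₗ[F] F × F :=
    { toFun := fun x => (hf q x e, hf q x f)
      map_add' := fun x y => Prod.ext (herm_add_left n x y e) (herm_add_left n x y f)
      map_smul' := fun r x => Prod.ext (herm_smul_left n r x e) (herm_smul_left n r x f) }
  have hφ : Function.Surjective φ := fun p => ⟨p.1 • f + p.2 • e, by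
    show (hf q (p.1 • f + p.2 • e) e, hf q (p.1 • f + p.2 • e) f) = p
    simp [herm_add_left, herm_smul_left, H.ee, H.ff, H.ef, H.fe hF]⟩
  have hdim := CfsgLib.Forms.finrank_ker_add φ hφ
  rw [Module.finrank_prod, Module.finrank_self, Module.finrank_fin_fun] at hdim
  set d := Module.finrank F (LinearMap.ker φ) with hd
  have hmem : ∀ x, x ∈ LinearMap.ker φ ↔ InW q e f x := fun x => by
    rw [LinearMap.mem_ker]; exact Prod.mk_eq_zero
  have hdecomp : ∀ x, x = hf q x f • e + hf q x e • f + (x - hf q x f • e - hf q x e • f) := fun x => by abel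
  obtain ⟨B, hB⟩ := exists_orthonormal_family hF (LinearMap.ker φ) hd.symm (fun u hu h0 => by
    refine uForm_nondeg hF n u fun x => ?_
    have hu' := (hmem u).mp hu
    show hf q x u = 0
    conv_lhs => rw [hdecomp x]
    rw [herm_add_left, herm_add_left, herm_smul_left, herm_smul_left, hf_swap_zero hF hu'.1, hf_swap_zero hF hu'.2,
      hf_swap_zero hF (h0 _ ((hmem _).mpr (inW_proj hF H x)))]
    ring)
  refine ⟨d, by omega, fun i => B i, H, fun i => (hmem _).mp (B i).2, hB, fun x => ?_⟩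
  set w := x - hf q x f • e - hf q x e • f with hw
  have hwW := inW_proj hF H x
  obtain ⟨w', hw'⟩ : ∃ w' : LinearMap.ker φ, (w' : Fin n → F) = w := ⟨⟨w, (hmem _).mpr hwW⟩, rfl⟩
  have hrepr := congrArg Subtype.val (B.sum_repr w')
  rw [Submodule.coe_sum] at hrepr
  have hcoef : ∀ i, hf q x (B i) = B.repr w' i := by
    intro i
    have hb := (hmem _).mp (B i).2
    have e1 : hf q x (B i) = hf q w (B i) := by
      conv_lhs => rw [hdecomp x, ← hw]
      rw [herm_add_left, herm_add_left, herm_smul_left, herm_smul_left, hf_swap_zero hF hb.1, hf_swap_zero hF hb.2]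
      ring
    rw [e1, ← hw', ← hrepr]
    simp only [Submodule.coe_smul]
    have : ∀ (s : Finset (Fin d)), hf q (∑ j ∈ s, B.repr w' j • (B j : Fin n → F)) (B i) =
        if i ∈ s then B.repr w' i else 0 := by
      intro s
      classical
      induction s using Finset.induction with
      | empty => simp [Cfsg.hermForm]
      | insert j s hj ih =>
        rw [Finset.sum_insert hj, herm_add_left, herm_smul_left, hB, ih]
        rcases eq_or_ne j i with rfl | hji
        · simp [hj]
        · simp [hji, Ne.symm hji]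
    rw [this, if_pos (Finset.mem_univ i)]
  have hsum : (∑ i, hf q x (B i) • (B i : Fin n → F)) = w := by
    rw [← hw', ← hrepr]
    refine Finset.sum_congr rfl fun i _ => ?_
    rw [hcoef]; rfl
  rw [hsum]
  exact hdecomp x

omit [Finite F] hF in
theorem Frame.expand_W {d : ℕ} {e f : Fin n → F} {b : Fin d → Fin n → F} (Fr : Frame q e f b) {a : Fin n → F}
    (ha : InW q e f a) : a = ∑ i, hf q a (b i) • b i := by
  conv_lhs => rw [Fr.expand a, ha.1, ha.2, zero_smul, zero_smul, zero_add, zero_add]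

end CfsgLib.AutPSU
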