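import Cfsg.Agent.AutPSU.Maps

/-!
Every automorphism of `PSU_n(q)` is semilinear.
-/

set_option autoImplicit false
set_option linter.style.haveILetI false

open Matrix

namespace CfsgLib.AutPSU

open CfsgLib.Unitary CfsgLib.Forms

variable {F : Type*} [Field F] [Finite F] {q n : ℕ} (hF : Nat.card F = q ^ 2)
include hF

local notation "hf" => Cfsg.hermForm _ _

theorem param_injective (hn : 2 ≤ n) {e f : Fin n → F} (H : Hyp q e f) {c d : F} {hc : c + c ^ q = 0}
    {hd : d + d ^ q = 0}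
    (h : (QuotientGroup.mk (suTv n e c H.ee hc hF) : Cfsg.PSU n F q) = QuotientGroup.mk (suTv n e d H.ee hd hF)) :
    c = d :=
  utv_injective hF (Hyp.ne_left H)
    (mk_utv_eq hF hn H.ee H.ee (A := suTv n e c H.ee hc hF) (B := suTv n e d H.ee hd hF) rfl rfl h)

theorem hf_swap_sub (a b : Fin n → F) : hf q a b - hf q b a + (hf q a b - hf q b a) ^ q = 0 := by
  rw [← frobQ_apply hF (hf q a b - hf q b a), map_sub, frobQ_apply, frobQ_apply, ← herm_swap hF, ← herm_swap hF]
  ring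

/-- The commutator relation on the radical. -/
theorem param_comm (hn : 2 ≤ n) {e f : Fin n → F} (H : Hyp q e f) {γ : MulAut (Cfsg.PSU n F q)} {fe : F → F}
    (hfe : Param hF e H.ee γ fe) {ψ : (Fin n → F) → (Fin n → F)} (hψ : RMap e f γ ψ) {a b : Fin n → F}
    (ha : InW q e f a) (hb : InW q e f b) :
    fe (hf q a b - hf q b a) = hf q (ψ a) (ψ b) - hf q (ψ b) (ψ a) := by
  have key : ∀ (a b : Fin n → F) (A B : Cfsg.SU n F q) (s r : F), InW q e f a → InW q e f b →
      suMat A = eichMat q e a s → suMat B = eichMat q e b r →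
      A * B = suTv n e _ H.ee (hf_swap_sub hF a b) hF * (B * A) := by
    intro a b A B s r ha hb hA hB
    refine suMat_inj ?_
    rw [suMat_mul, suMat_mul, suMat_mul, hA, hB, eichMat_mul hF H.ee ha.1 hb.1, eichMat_mul hF H.ee hb.1 ha.1,
      show suMat (suTv n e _ H.ee (hf_swap_sub hF a b) hF) = eichMat q e 0 (hf q a b - hf q b a) from
        (eichMat_zero e _ (q_ne_zero hF)).symm, eichMat_mul hF H.ee (hf_zero_left e) (inW_add hb ha).1, zero_add,
      hf_swap_zero hF (hf_zero_left _), sub_zero, add_comm b a]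
    congr 1
    ring
  obtain ⟨A, -, s, hs⟩ := exists_radical_elem hF H ha
  obtain ⟨B, -, r, hr⟩ := exists_radical_elem hF H hb
  obtain ⟨A', s', hA', eA⟩ := hψ.2 A a s ha hs
  obtain ⟨B', r', hB', eB⟩ := hψ.2 B b r hb hr
  obtain ⟨hc', ec⟩ := hfe _ (hf_swap_sub hF a b)
  have h1 := congrArg (fun z => γ (QuotientGroup.mk z)) (key a b A B s r ha hb hs hr)
  simp only [QuotientGroup.mk_mul, map_mul, eA, eB, ec] at h1
  have h2 := congrArg (fun z => (QuotientGroup.mk z : Cfsg.PSU n F q))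
    (key _ _ A' B' s' r' (hψ.1 a ha) (hψ.1 b hb) hA' hB')
  simp only [QuotientGroup.mk_mul] at h2
  exact param_injective hF hn H (mul_right_cancel (h1.symm.trans h2))

/-- A linear radical map is a similitude, with the parameter as multiplier. -/
theorem similitude (hn : 3 ≤ n) {e f : Fin n → F} (H : Hyp q e f) {γ : MulAut (Cfsg.PSU n F q)} {fe : F → F}
    (hfe : Param hF e H.ee γ fe) {ψ : (Fin n → F) → (Fin n → F)} (hψ : RMap e f γ ψ)
    (hlin : ∀ (c : F) a, InW q e f a → ψ (c • a) = c • ψ a) :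
    ∃ s : F, s ≠ 0 ∧ s ^ q = s ∧ (∀ c, c + c ^ q = 0 → fe c = s * c) ∧
      ∀ a b, InW q e f a → InW q e f b → hf q (ψ a) (ψ b) = s * hf q a b := by
  obtain ⟨d, hd, b, Fr⟩ := exists_frame hF H
  have hn2 : 2 ≤ n := by omega
  set b0 := b ⟨0, by omega⟩
  have hb0 : InW q e f b0 := Fr.inW _
  have hb1 : hf q b0 b0 = 1 := by rw [Fr.on, if_pos rfl]
  set s := hf q (ψ b0) (ψ b0) with hs
  have hsq : s ^ q = s := (herm_swap hF (ψ b0) (ψ b0)).symm
  have hfeq : ∀ c, c + c ^ q = 0 → fe c = s * c := by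
    intro c hc
    obtain ⟨t, ht⟩ := exists_trace_eq hF (one_pow q : (1 : F) ^ q = 1)
    have hct : c = c * t - (c * t) ^ q := by
      rw [mul_pow, eq_neg_of_add_eq_zero_right hc]
      linear_combination -c * ht
    have h := param_comm hF hn2 H hfe hψ (inW_smul hb0 (c * t)) hb0
    rw [hlin _ _ hb0, herm_smul_left, herm_smul_right hF, herm_smul_left, herm_smul_right hF, hb1, mul_one, mul_one,
      ← hct, ← hs] at h
    rw [h]
    conv_rhs => rw [hct]
    ring
  refine ⟨s, fun h0 => ?_, hsq, hfeq, fun a a' ha ha' => ?_⟩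
  · obtain ⟨c, hc0, hc⟩ := exists_skew hF
    obtain ⟨hc', ec⟩ := hfe c hc
    have hz : (0 : F) + 0 ^ q = 0 := by rw [zero_pow (q_ne_zero hF), add_zero]
    have h1 : ∀ (x : F) (hx : x + x ^ q = 0), x = 0 → (QuotientGroup.mk (suTv n e x H.ee hx hF) : Cfsg.PSU n F q) = 1 := by
      rintro _ hx rfl
      rw [show suTv n e (0 : F) H.ee hx hF = 1 from suMat_inj ((utv_zero e).trans suMat_one.symm), QuotientGroup.mk_one]
    have e0 : γ (QuotientGroup.mk (suTv n e c H.ee hc hF)) = γ 1 := by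
      rw [map_one, ec]; exact h1 _ hc' (by rw [hfeq c hc, h0, zero_mul])
    exact hc0 (param_injective hF hn2 H (hd := hz) ((γ.injective e0).trans (h1 0 hz rfl).symm))
  · have hX : ∀ l : F, l * (hf q (ψ a) (ψ a') - s * hf q a a') =
        (l * (hf q (ψ a) (ψ a') - s * hf q a a')) ^ q := by
      intro l
      have h := param_comm hF hn2 H hfe hψ (inW_smul ha l) ha'
      rw [hfeq _ (hf_swap_sub hF _ _), hlin _ _ ha, herm_smul_left, herm_smul_right hF, herm_smul_left,
        herm_smul_right hF] at h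
      change s * (l * hf q a a' - l ^ q * hf q a' a) =
        l * hf q (ψ a) (ψ a') - l ^ q * hf q (ψ a') (ψ a) at h
      rw [mul_pow, ← frobQ_apply hF (hf q (ψ a) (ψ a') - s * hf q a a'), map_sub, map_mul, frobQ_apply, frobQ_apply,
        frobQ_apply, hsq, ← herm_swap hF, ← herm_swap hF]
      linear_combination -h
    obtain ⟨l, hl⟩ : ∃ l, frobQ hF l ≠ l := by
      by_contra hc'; push Not at hc'; exact frobQ_ne_id hF (RingHom.ext hc')
    rw [frobQ_apply] at hl
    set X := hf q (ψ a) (ψ a') - s * hf q a a' with hXdef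
    have hX1 : X ^ q = X := by have := hX 1; rw [one_mul] at this; exact this.symm
    have hX2 : X * (l - l ^ q) = 0 := by
      have := hX l
      rw [mul_pow, hX1] at this
      linear_combination this
    exact sub_eq_zero.mp ((mul_eq_zero.mp hX2).resolve_right (sub_ne_zero.mpr (Ne.symm hl)))

/-- The fixed points of an automorphism. -/
def fixedSub (γ : MulAut (Cfsg.PSU n F q)) : Subgroup (Cfsg.PSU n F q) :=
  MonoidHom.eqLocus γ.toMonoidHom (MonoidHom.id _)

omit [Finite F] hF in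
theorem mem_fixedSub {γ : MulAut (Cfsg.PSU n F q)} {x : Cfsg.PSU n F q} : x ∈ fixedSub γ ↔ γ x = x := Iff.rfl

/-- The difference of the two parameters. -/
theorem skew_sub {e f a : Fin n → F} (H : Hyp q e f) (ha : InW q e f a) {A B : Cfsg.SU n F q} {s r : F}
    (hA : suMat A = eichMat q e a s) (hB : suMat B = eichMat q e a r) : r - s + (r - s) ^ q = 0 := by
  have h1 := eich_cond hF H ha hA
  have h2 := eich_cond hF H ha hB
  rw [← frobQ_apply hF (r - s), map_sub, frobQ_apply, frobQ_apply]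
  linear_combination h2 - h1

/-- The image of a frame under a field automorphism. -/
theorem frame_map {d : ℕ} {e f : Fin n → F} {b : Fin d → Fin n → F} (τ : RingAut F) (Fr : Frame q e f b) :
    Frame q (fun i => τ (e i)) (fun i => τ (f i)) (fun j i => τ (b j i)) := by
  refine ⟨⟨?_, ?_, ?_⟩, fun j => ⟨?_, ?_⟩, fun i j => ?_, fun x => ?_⟩
  · rw [← map_herm, Fr.H.ee, map_zero]
  · rw [← map_herm, Fr.H.ff, map_zero]
  · rw [← map_herm, Fr.H.ef, map_one]
  · rw [← map_herm, (Fr.inW j).1, map_zero]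
  · rw [← map_herm, (Fr.inW j).2, map_zero]
  · rw [← map_herm, Fr.on, apply_ite τ, map_one, map_zero]
  · obtain ⟨y, rfl⟩ : ∃ y, (fun i => τ (y i)) = x := ⟨fun i => τ.symm (x i), by simp⟩
    simp only [← map_herm]
    funext i
    conv_lhs => rw [Fr.expand y]
    simp [Finset.sum_apply, map_sum]

/-- An element with norm one moving a basis vector. -/
theorem exists_move {d : ℕ} {e f : Fin n → F} {b : Fin d → Fin n → F} (Fr : Frame q e f b) (hqd : q ≠ 2 ∨ 2 ≤ d)
    (j : Fin d) : ∃ (μ : F) (R : Matrix (Fin n) (Fin n) F) (θ : F), μ ≠ 0 ∧ μ ^ (q + 1) = 1 ∧ FixPair q e f R ∧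
      μ * R.det = μ ^ q ∧ θ ≠ 1 ∧ ∀ x : F, μ ^ q • (R *ᵥ (x • b j)) = (θ * x) • b j := by
  classical
  have h2 := two_le_q hF
  obtain ⟨z, hz, hzo⟩ := exists_norm_one hF
  have hz0 : z ≠ 0 := fun e0 => by rw [e0, zero_pow (Nat.succ_ne_zero q)] at hz; exact zero_ne_one hz
  have hone : hf q (b j) (b j) = 1 := by rw [Fr.on, if_pos rfl]
  rcases eq_or_ne q 2 with hq | hq
  · obtain ⟨i, hi⟩ : ∃ i : Fin d, i ≠ j :=
      haveI : Nontrivial (Fin d) := Fin.nontrivial_iff_two_le.mpr (hqd.resolve_left fun h => h hq)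
      exists_ne j
    refine ⟨1, _, z, one_ne_zero, one_pow _, (fixPair_two hF Fr i j hz).1, (fixPair_two hF Fr i j hz).2,
      fun e1 => ?_, fun x => ?_⟩
    · rw [e1, orderOf_one] at hzo; omega
    · rw [one_pow, one_smul, ← Matrix.mulVec_mulVec,
        refl_smul_orth hF (by rw [Fr.on, if_neg (Ne.symm hi)]), refl_smul_self hF hone]
  · refine ⟨z, _, z ^ (2 * q - 1), hz0, hz, fixPair_refl hF (Fr.inW j) hone (pow_sub_one_norm hF hz0),
      by rw [det_refl hone, mul_pow_sub_one hF], fun e1 => ?_, fun x => ?_⟩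
    · have h3 : q + 1 ∣ 2 * q - 1 := hzo ▸ orderOf_dvd_of_pow_eq_one e1
      obtain ⟨k, hk⟩ := h3
      rcases k with _ | _ | k
      · omega
      · omega
      · have : (q + 1) * 2 ≤ (q + 1) * (k + 1 + 1) := Nat.mul_le_mul_left _ (by omega)
        omega
    · rw [refl_smul_self hF hone, smul_smul, ← mul_assoc, ← pow_add, show q + (q - 1) = 2 * q - 1 by omega]

/-- An automorphism fixing both groups pointwise and acting trivially modulo the centre of the radical is trivial. -/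
theorem eq_one_of_fixed (hn : 3 ≤ n) (h32 : ¬ (n = 3 ∧ q = 2)) {e f : Fin n → F} {H : Hyp q e f}
    {γ : MulAut (Cfsg.PSU n F q)} (hγ : Stab hF e f H γ) {fe : F → F} (hfe : Param hF e H.ee γ fe)
    (hid : ∀ c, c + c ^ q = 0 → fe c = c) {ψ : (Fin n → F) → (Fin n → F)} (hψ : RMap e f γ ψ)
    (hψid : ∀ a, InW q e f a → ψ a = a) : γ = 1 := by
  classical
  have hn2 : 2 ≤ n := by omega
  obtain ⟨d, hd, b, Fr⟩ := exists_frame hF H
  have hqd : q ≠ 2 ∨ 2 ≤ d := by
    by_contra hc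
    push Not at hc
    exact h32 ⟨by omega, hc.1⟩
  have hz : (0 : F) + 0 ^ q = 0 := by rw [zero_pow (q_ne_zero hF), add_zero]
  have hTe : ∀ (c : F) (hc : c + c ^ q = 0),
      γ (QuotientGroup.mk (suTv n e c H.ee hc hF)) = QuotientGroup.mk (suTv n e c H.ee hc hF) := by
    intro c hc
    obtain ⟨hc', ec⟩ := hfe c hc
    rw [ec]
    exact congrArg _ (suMat_inj (congrArg (Cfsg.unitaryTransvection n q e) (hid c hc)))
  have hxe : xg hF e H.ee ≤ fixedSub γ := by
    intro x hx
    obtain ⟨c, hc, rfl⟩ := (mem_xg hF).mp hx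
    exact hTe c hc
  obtain ⟨fe', ff, hfe', hff, hrel⟩ := exists_params hF hn2 hγ
  have hxf : xg hF f H.ff ≤ fixedSub γ := by
    intro x hx
    obtain ⟨c, hc, rfl⟩ := (mem_xg hF).mp hx
    rcases eq_or_ne c 0 with rfl | hc0
    · rw [show suTv n f (0 : F) H.ff hc hF = 1 from suMat_inj ((utv_zero f).trans suMat_one.symm),
        QuotientGroup.mk_one]
      exact one_mem _
    obtain ⟨hc', ec⟩ := hff c hc
    have hy : -c⁻¹ + (-c⁻¹) ^ q = 0 := by
      rw [← frobQ_apply hF (-c⁻¹), map_neg, frobQ_apply]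
      linear_combination -(skew_inv hc)
    obtain ⟨hy', ey⟩ := hfe' _ hy
    have e2 : fe' (-c⁻¹) = -c⁻¹ := param_injective hF hn2 H ((ey.symm).trans (hTe _ hy))
    have h := hrel _ hy (neg_ne_zero.mpr (inv_ne_zero hc0))
    rw [e2, inv_neg, inv_inv, neg_neg] at h
    have e3 : ff c = c := by field_simp at h; linear_combination -h
    show γ _ = _
    rw [ec]
    exact congrArg _ (suMat_inj (congrArg (Cfsg.unitaryTransvection n q f) e3))
  -- the radical
  let Fix : (Fin n → F) → Prop := fun a => ∃ (X : Cfsg.SU n F q) (r : F),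
    suMat X = eichMat q e a r ∧ (QuotientGroup.mk X : Cfsg.PSU n F q) ∈ fixedSub γ
  have hadd : ∀ a a', InW q e f a → InW q e f a' → Fix a → Fix a' → Fix (a + a') := by
    rintro a a' ha ha' ⟨X, r, hX, hXf⟩ ⟨Y, t, hY, hYf⟩
    exact ⟨X * Y, _, by rw [suMat_mul, hX, hY, eichMat_mul hF H.ee ha.1 ha'.1],
      by rw [QuotientGroup.mk_mul]; exact mul_mem hXf hYf⟩
  have hbase : ∀ j (x : F), Fix (x • b j) := by
    intro j x
    obtain ⟨μ, R, θ, hμ, hN, hR, hdet, hθ, hact⟩ := exists_move hF Fr hqd j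
    set y := x / (θ - 1) with hy
    have ha : InW q e f (y • b j) := inW_smul (Fr.inW j) y
    have ha1 : InW q e f ((θ * y) • b j) := inW_smul (Fr.inW j) _
    set g := levi hF H hμ hR hdet
    have hge : suMat g *ᵥ e = μ • e := levi_e hF H hμ hR hdet
    have hgf := levi_f hF H hμ hR hdet
    obtain ⟨g', hgg, hiff⟩ := exists_diag_lift hF hn2 hγ g
    obtain ⟨⟨μ', hμ'⟩, ν', hν'⟩ := hiff.mp ⟨⟨μ, hge⟩, _, hgf⟩
    have hN' : μ' ^ (q + 1) = 1 := by
      obtain ⟨c, hc0, hc⟩ := exists_skew hF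
      have e1 : (QuotientGroup.mk (g * suTv n e c H.ee hc hF * g⁻¹) : Cfsg.PSU n F q) =
          QuotientGroup.mk (suTv n e c H.ee hc hF) := by
        refine congrArg _ (suMat_inj ?_)
        rw [utv_conj g (A := suTv n e c H.ee hc hF) rfl, hge, utv_smul hF, hN, mul_one]; rfl
      have e2 := congrArg γ e1
      rw [QuotientGroup.mk_mul, QuotientGroup.mk_mul, map_mul, map_mul, QuotientGroup.mk_inv, map_inv, hTe, hgg,
        ← QuotientGroup.mk_inv, ← QuotientGroup.mk_mul, ← QuotientGroup.mk_mul] at e2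
      have e3 := mk_utv_eq hF hn2 ((su_preserves g' e e).trans H.ee) H.ee (utv_conj g' (A := suTv n e c H.ee hc hF) rfl)
        (rfl : suMat (suTv n e c H.ee hc hF) = _) e2
      rw [hμ', utv_smul hF] at e3
      exact mul_left_cancel₀ hc0 ((utv_injective hF (Hyp.ne_left H) e3).trans (mul_one c).symm)
    have hga : μ ^ q • (suMat g *ᵥ (y • b j)) = (θ * y) • b j := by
      rw [levi_W hF H hμ hR hdet ha, hact]
    have hga' : μ' ^ q • (suMat g' *ᵥ (y • b j)) = (θ * y) • b j := by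
      have := rmap_conj hF hn2 H hψ hgg hge hgf hμ' hν' ha
      rw [hga, hψid _ ha, hψid _ ha1] at this
      exact this.symm
    have hconj : ∀ (k : Cfsg.SU n F q) (m : F) (r : F) (X : Cfsg.SU n F q), suMat k *ᵥ e = m • e →
        m ^ (q + 1) = 1 → m ^ q • (suMat k *ᵥ (y • b j)) = (θ * y) • b j →
        suMat X = eichMat q e (y • b j) r → suMat (k * X * k⁻¹) = eichMat q e ((θ * y) • b j) r := by
      intro k m r X hke hm hk hX
      have h := eichMat_conj (suToGU k) H.ee (y • b j) r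
      have hi : (((suToGU k : GL (Fin n) F)⁻¹ : GL (Fin n) F) : Matrix (Fin n) (Fin n) F) = suMat k⁻¹ := by
        rw [← InvMemClass.coe_inv, ← map_inv]; rfl
      rw [hi] at h
      rw [suMat_mul, suMat_mul, hX]
      refine h.trans ?_
      show eichMat q (suMat k *ᵥ e) (suMat k *ᵥ (y • b j)) r = _
      rw [hke, eichMat_smul hF H.ee, hm, one_mul, hk]
    obtain ⟨A, -, s, hs⟩ := exists_radical_elem hF H ha
    obtain ⟨A', s', hA', eA⟩ := hψ.2 A _ s ha hs
    rw [hψid _ ha] at hA'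
    have hC := hconj g μ s A hge hN hga hs
    have hC' := hconj g' μ' s' A' hμ' hN' hga' hA'
    set C := g * A * g⁻¹ with hCdef
    set C' := g' * A' * g'⁻¹ with hC'def
    have hgC : γ (QuotientGroup.mk C) = QuotientGroup.mk C' := by
      rw [hCdef, hC'def, QuotientGroup.mk_mul, QuotientGroup.mk_mul, map_mul, map_mul, QuotientGroup.mk_inv, map_inv,
        hgg, eA]
      rfl
    clear_value C C'
    have hfneg : ∀ v w : Fin n → F, hf q (-v) w = -hf q v w := fun v w => by
      simp [Cfsg.hermForm, Finset.sum_neg_distrib]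
    have hAinv : suMat A⁻¹ = eichMat q e (-(y • b j)) (-s - hf q (y • b j) (y • b j)) := by
      have h1 := eichMat_mul hF H.ee ha.1 (b := -(y • b j))
        (show hf q (-(y • b j)) e = 0 by rw [← neg_smul]; exact (inW_smul (Fr.inW j) (-y)).1) s
        (-s - hf q (y • b j) (y • b j))
      rw [add_neg_cancel, ← hs, show s + (-s - hf q (y • b j) (y • b j)) - hf q (-(y • b j)) (y • b j) = 0 by
        rw [hfneg]; ring, eichMat_zero e 0 (q_ne_zero hF), utv_zero] at h1
      calc suMat A⁻¹ = suMat A⁻¹ * (suMat A * eichMat q e (-(y • b j)) (-s - hf q (y • b j) (y • b j))) := by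
            rw [h1, mul_one]
        _ = _ := by rw [← mul_assoc, ← suMat_mul, inv_mul_cancel, suMat_one, one_mul]
    have hCA : suMat (C * A⁻¹) = suMat (C' * A'⁻¹) := by
      have e1 : C' = suTv n e (s' - s) H.ee (skew_sub hF H ha hs hA') hF * C := suMat_inj (by
        rw [suMat_mul, hC', hC, show suMat (suTv n e (s' - s) H.ee (skew_sub hF H ha hs hA') hF) =
          eichMat q e 0 (s' - s) from (eichMat_zero e _ (q_ne_zero hF)).symm,
          eichMat_mul hF H.ee (hf_zero_left e) ha1.1, zero_add, hf_swap_zero hF (hf_zero_left _), sub_zero,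
          sub_add_cancel])
      have e2 : A' = A * suTv n e (s' - s) H.ee (skew_sub hF H ha hs hA') hF := suMat_inj (by
        rw [suMat_mul, hA', hs, show suMat (suTv n e (s' - s) H.ee (skew_sub hF H ha hs hA') hF) =
          eichMat q e 0 (s' - s) from (eichMat_zero e _ (q_ne_zero hF)).symm,
          eichMat_mul hF H.ee ha.1 (hf_zero_left e), add_zero, hf_zero_left, sub_zero, add_sub_cancel])
      set T := suTv n e (s' - s) H.ee (skew_sub hF H ha hs hA') hF
      have hcm : C * T = T * C := suMat_inj (by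
        rw [suMat_mul, suMat_mul, hC, show suMat T = eichMat q e 0 (s' - s) from
          (eichMat_zero e _ (q_ne_zero hF)).symm, eichMat_mul hF H.ee ha1.1 (hf_zero_left e),
          eichMat_mul hF H.ee (hf_zero_left e) ha1.1, add_zero, zero_add, hf_zero_left,
          hf_swap_zero hF (hf_zero_left _), add_comm (s' - s)])
      rw [e1, e2, ← hcm, _root_.mul_inv_rev, mul_assoc, mul_inv_cancel_left]
    refine ⟨C * A⁻¹, s + (-s - hf q (y • b j) (y • b j)) - hf q (-(y • b j)) ((θ * y) • b j), ?_, ?_⟩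
    · rw [suMat_mul, hC, hAinv, eichMat_mul hF H.ee ha1.1
        (show hf q (-(y • b j)) e = 0 by rw [← neg_smul]; exact (inW_smul (Fr.inW j) (-y)).1)]
      congr 1
      rw [← sub_eq_add_neg, ← sub_smul, ← sub_one_mul, hy, mul_div_cancel₀ _ (sub_ne_zero.mpr hθ)]
    · show γ _ = _
      rw [QuotientGroup.mk_mul, map_mul, QuotientGroup.mk_inv, map_inv, hgC, eA, ← QuotientGroup.mk_inv,
        ← QuotientGroup.mk_inv, ← QuotientGroup.mk_mul, ← QuotientGroup.mk_mul, suMat_inj hCA]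
      rfl
  have hall : ∀ a, InW q e f a → Fix a := by
    intro a ha
    rw [Fr.expand_W ha]
    refine (Finset.sum_induction (fun i => hf q a (b i) • b i) (fun v => InW q e f v ∧ Fix v)
      (fun u v hu hv => ⟨inW_add hu.1 hv.1, hadd _ _ hu.1 hv.1 hu.2 hv.2⟩)
      ⟨inW_zero e f, ⟨1, 0, by rw [suMat_one, eichMat_zero e 0 (q_ne_zero hF), utv_zero], by
        rw [QuotientGroup.mk_one]; exact one_mem _⟩⟩
      (fun i _ => ⟨inW_smul (Fr.inW i) _, hbase i _⟩)).2
  have hrad : ∀ (A : Cfsg.SU n F q) a s, InW q e f a → suMat A = eichMat q e a s →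
      (QuotientGroup.mk A : Cfsg.PSU n F q) ∈ fixedSub γ := by
    intro A a s ha hA
    obtain ⟨X, r, hX, hXf⟩ := hall a ha
    have e2 : A = X * suTv n e (s - r) H.ee (skew_sub hF H ha hX hA) hF := suMat_inj (by
      rw [suMat_mul, hX, hA, show suMat (suTv n e (s - r) H.ee (skew_sub hF H ha hX hA) hF) =
        eichMat q e 0 (s - r) from (eichMat_zero e _ (q_ne_zero hF)).symm,
        eichMat_mul hF H.ee ha.1 (hf_zero_left e), add_zero, hf_zero_left, sub_zero, add_sub_cancel])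
    rw [e2, QuotientGroup.mk_mul]
    exact mul_mem hXf (hxe ((mem_xg hF).mpr ⟨_, _, rfl⟩))
  -- all transvection groups
  let Good : (Fin n → F) → Prop := fun v => ∀ hv : hf q v v = 0, xg hF v hv ≤ fixedSub γ
  have hmove : ∀ (t : Cfsg.SU n F q) (v : Fin n → F), (QuotientGroup.mk t : Cfsg.PSU n F q) ∈ fixedSub γ →
      Good v → Good (suMat t *ᵥ v) := by
    intro t v ht hg hv
    have hv' : hf q v v = 0 := (su_preserves t v v).symm.trans hv
    rw [← map_conj_xg hF t v hv']
    rintro _ ⟨x, hx, rfl⟩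
    exact mul_mem (mul_mem ht (hg hv' hx)) (inv_mem ht)
  have hback : ∀ (t : Cfsg.SU n F q) (v : Fin n → F), (QuotientGroup.mk t : Cfsg.PSU n F q) ∈ fixedSub γ →
      Good (suMat t *ᵥ v) → Good v := by
    intro t v ht hg
    have := hmove t⁻¹ _ (by rw [QuotientGroup.mk_inv]; exact inv_mem ht) hg
    rwa [su_inv_mulVec] at this
  have h1 : ∀ v, hf q v e ≠ 0 → Good v := by
    intro v hve hv
    set l := hf q v e
    set w := l⁻¹ • v with hw
    have hwv : hf q w w = 0 := by rw [herm_smul_left, herm_smul_right hF, hv, mul_zero, mul_zero]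
    have hwe : hf q w e = 1 := by rw [herm_smul_left]; exact inv_mul_cancel₀ hve
    set a := w - hf q w f • e - hf q w e • f with ha'
    have ha : InW q e f a := inW_proj hF H w
    obtain ⟨A, -, s, hs⟩ := exists_radical_elem hF H ha
    set u := suMat A *ᵥ f with hu
    have huu : hf q u u = 0 := (su_preserves A f f).trans H.ff
    have hue : hf q u e = 1 := by
      rw [hu, hs, eichMat_apply_f hF H ha, herm_add_left, herm_add_left, herm_smul_left, H.ee, H.fe hF, ha.1,
        mul_zero, add_zero, add_zero]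
    set δ := hf q w f - s
    have hwu : w = u + δ • e := by
      rw [hu, hs, eichMat_apply_f hF H ha, ha', hwe]
      module
    have heu : hf q e u = 1 := by
      rw [herm_swap hF u e]; show hf q u e ^ q = 1; rw [hue, one_pow]
    have hδ : δ + δ ^ q = 0 := by
      have h := hwv
      rw [hwu, herm_add_left, herm_add_right hF, herm_add_right hF, herm_smul_left, herm_smul_right hF,
        herm_smul_left, herm_smul_right hF] at h
      change hf q u u + δ ^ q * hf q u e + (δ * hf q e u + δ * (δ ^ q * hf q e e)) = 0 at h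
      rw [huu, hue, heu, H.ee] at h
      linear_combination h
    have hT : suMat (suTv n e δ H.ee hδ hF) *ᵥ u = w := by
      show Cfsg.unitaryTransvection n q e δ *ᵥ u = w
      rw [utv_mulVec, hwu]
      show u + (δ * hf q u e) • e = _
      rw [hue, mul_one]
    have hgood : Good w := by
      rw [← hT]
      exact hmove _ _ (hxe ((mem_xg hF).mpr ⟨_, _, rfl⟩)) (hmove A f (hrad A a s ha hs) fun _ => hxf)
    rw [← xg_smul hF hv (inv_ne_zero hve) hwv]
    exact hgood hwv
  have h2 : ∀ v, hf q v f ≠ 0 → Good v := by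
    intro v hvf
    by_cases hve : hf q v e = 0
    swap
    · exact h1 v hve
    obtain ⟨c, hc0, hc⟩ := exists_skew hF
    refine hback (suTv n f c H.ff hc hF) v (hxf ((mem_xg hF).mpr ⟨_, _, rfl⟩)) (h1 _ ?_)
    show hf q (Cfsg.unitaryTransvection n q f c *ᵥ v) e ≠ 0
    rw [utv_mulVec, herm_add_left, herm_smul_left]
    show hf q v e + c * hf q v f * hf q f e ≠ 0
    rw [hve, H.fe hF, zero_add, mul_one]
    exact mul_ne_zero hc0 hvf
  have h3 : ∀ v, v ≠ 0 → Good v := by
    intro v hv0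
    by_cases hvf : hf q v f = 0
    swap
    · exact h2 v hvf
    by_cases hve : hf q v e = 0
    swap
    · exact h1 v hve
    obtain ⟨i, hi⟩ : ∃ i, hf q v (b i) ≠ 0 := by
      by_contra hcon
      push Not at hcon
      exact hv0 ((Fr.expand_W ⟨hve, hvf⟩).trans (Finset.sum_eq_zero fun i _ => by rw [hcon i, zero_smul]))
    obtain ⟨A, -, s, hs⟩ := exists_radical_elem hF H (Fr.inW i)
    refine hback A v (hrad A _ s (Fr.inW i) hs) (h2 _ ?_)
    rw [hs, eichMat_mulVec H.ee]
    show hf q (v + hf q v e • b i + (s * hf q v e - hf q v (b i)) • e) f ≠ 0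
    rw [hve, zero_smul, add_zero, mul_zero, zero_sub, herm_add_left, herm_smul_left]
    show hf q v f + -hf q v (b i) * hf q e f ≠ 0
    rw [hvf, H.ef, zero_add, mul_one, neg_ne_zero]
    exact hi
  refine MulEquiv.ext fun x => ?_
  obtain ⟨t, rfl⟩ := QuotientGroup.mk_surjective x
  have ht : t ∈ tvGroup n F q := by rw [tvGroup_eq_top hF (by omega) h32]; exact Subgroup.mem_top t
  have hle : tvGroup n F q ≤ (fixedSub γ).comap (QuotientGroup.mk' _) := by
    refine (Subgroup.closure_le _).mpr ?_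
    rintro A ⟨v, c, hv, hA⟩
    by_cases hv0 : v = 0
    · have : A = 1 := suMat_inj (by rw [hA, suMat_one, hv0]; simp [Cfsg.unitaryTransvection])
      rw [this]; exact one_mem _
    · have hc : c + c ^ q = 0 :=
        (utv_preserves_iff hF hv0 hv c).mp fun x y => by rw [← hA]; exact su_preserves A x y
      exact h3 v hv0 hv ((mem_xg hF).mpr ⟨c, hc, congrArg _ (suMat_inj hA.symm)⟩)
  exact hle ht

/-- An automorphism stabilising a pair of groups is semilinear. -/
theorem exists_semi_of_stab (hn : 3 ≤ n) (h32 : ¬ (n = 3 ∧ q = 2)) {e f : Fin n → F} {H : Hyp q e f}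
    {γ : MulAut (Cfsg.PSU n F q)} (hγ : Stab hF e f H γ) :
    ∃ (g : ↥(Cfsg.GU n F q)) (σ : RingAut F), γ = suAut g σ := by
  have hn2 : 2 ≤ n := by omega
  obtain ⟨ψ, σ, hψ, hsemi⟩ := exists_semilinear_rmap hF hn h32 hγ
  obtain ⟨fe, ff, hfe, -, -⟩ := exists_params hF hn2 hγ
  obtain ⟨d, hd, b, Fr⟩ := exists_frame hF H
  -- remove the field automorphism
  set τ : RingAut F := σ.symm with hτ
  obtain ⟨g1, hg1e, hg1f, hg1b⟩ : ∃ g : ↥(Cfsg.GU n F q),
      ((g : GL (Fin n) F) : Matrix (Fin n) (Fin n) F) *ᵥ (fun i => τ (e i)) = e ∧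
      ((g : GL (Fin n) F) : Matrix (Fin n) (Fin n) F) *ᵥ (fun i => τ (f i)) = f ∧
      ∀ j, ((g : GL (Fin n) F) : Matrix (Fin n) (Fin n) F) *ᵥ (fun i => τ (b j i)) = b j :=
    exists_gu_map hF (frame_map hF τ Fr) H Fr.inW Fr.on
  have hγ1 := stab_comp hF hγ g1 τ (hg1e.trans (one_smul F e).symm) (hg1f.trans (one_smul F f).symm) one_ne_zero
    one_ne_zero
  have hfe1 := param_comp hF (he := H.ee) hfe g1 τ (hg1e.trans (one_smul F e).symm)
  have hψ1 := rmap_comp hF H hψ g1 τ (hg1e.trans (one_smul F e).symm) (hg1f.trans (one_smul F f).symm) one_ne_zero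
    one_ne_zero
  set γ1 := suAut g1 τ * γ with hγ1def
  set ψ1 := fun a => (1 : F) ^ q • (((g1 : GL (Fin n) F) : Matrix (Fin n) (Fin n) F) *ᵥ fun i => τ (ψ a i)) with hψ1def
  have hlin : ∀ (c : F) a, InW q e f a → ψ1 (c • a) = c • ψ1 a := by
    intro c a ha
    simp only [hψ1def, one_pow, one_smul]
    rw [← Matrix.mulVec_smul]
    congr 1
    funext i
    rw [hsemi c a ha, Pi.smul_apply, Pi.smul_apply, smul_eq_mul, smul_eq_mul, map_mul, hτ, RingEquiv.symm_apply_apply]
  obtain ⟨s, hs0, hsq, hfes, hsim⟩ := similitude hF hn H hfe1 hψ1 hlin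
  -- remove the linear part
  obtain ⟨ρ, hρ⟩ := exists_norm_eq hF hsq
  have hρ0 : ρ ≠ 0 := fun e0 => by rw [e0, zero_pow (Nat.succ_ne_zero q)] at hρ; exact hs0 hρ.symm
  have hρq : ρ ^ q ≠ 0 := pow_ne_zero _ hρ0
  have H' : Hyp q (ρ • e) ((ρ ^ q)⁻¹ • f) := by
    constructor
    · rw [herm_smul_left, herm_smul_right hF, H.ee, mul_zero, mul_zero]
    · rw [herm_smul_left, herm_smul_right hF, H.ff, mul_zero, mul_zero]
    · rw [herm_smul_left, herm_smul_right hF, H.ef, inv_pow, pow_q_q hF, mul_one, mul_inv_cancel₀ hρ0]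
  obtain ⟨g2, hg2e, hg2f, hg2b⟩ := exists_gu_map hF Fr H' (b' := fun i => (ρ ^ q)⁻¹ • ψ1 (b i))
    (fun i => by
      have h := hψ1.1 _ (Fr.inW i)
      refine inW_smul ⟨?_, ?_⟩ _
      · show hf q (ψ1 (b i)) (ρ • e) = 0
        rw [herm_smul_right hF, h.1, mul_zero]
      · show hf q (ψ1 (b i)) ((ρ ^ q)⁻¹ • f) = 0
        rw [herm_smul_right hF, h.2, mul_zero])
    (fun i j => by
      rw [herm_smul_left, herm_smul_right hF, hsim _ _ (Fr.inW i) (Fr.inW j), Fr.on, inv_pow, pow_q_q hF]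
      rw [pow_succ] at hρ
      show (ρ ^ q)⁻¹ * (ρ⁻¹ * (s * _)) = _
      rw [← hρ]
      field_simp)
  have hinv : ∀ (x z : Fin n → F) (l : F), l ≠ 0 → ((g2 : GL (Fin n) F) : Matrix (Fin n) (Fin n) F) *ᵥ x = l • z →
      ((g2⁻¹ : ↥(Cfsg.GU n F q)) : GL (Fin n) F).val *ᵥ z = l⁻¹ • x := by
    intro x z l hl he
    have h1 : ((g2⁻¹ : ↥(Cfsg.GU n F q)) : GL (Fin n) F).val *ᵥ (l • z) = x := by
      rw [← he, Matrix.mulVec_mulVec, ← Units.val_mul, ← Subgroup.coe_mul, inv_mul_cancel, OneMemClass.coe_one,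
        Units.val_one, Matrix.one_mulVec]
    rw [Matrix.mulVec_smul] at h1
    rw [← h1, smul_smul, inv_mul_cancel₀ hl, one_smul]
  have hre : ((g2⁻¹ : ↥(Cfsg.GU n F q)) : GL (Fin n) F).val *ᵥ (fun i => (1 : RingAut F) (e i)) = ρ⁻¹ • e :=
    hinv e e ρ hρ0 hg2e
  have hrf : ((g2⁻¹ : ↥(Cfsg.GU n F q)) : GL (Fin n) F).val *ᵥ (fun i => (1 : RingAut F) (f i)) = ρ ^ q • f := by
    have := hinv f f _ (inv_ne_zero hρq) hg2f
    rwa [inv_inv] at this
  have hγ2 := stab_comp hF hγ1 g2⁻¹ 1 hre hrf (inv_ne_zero hρ0) hρq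
  have hfe2 := param_comp hF (he := H.ee) hfe1 g2⁻¹ 1 hre
  have hψ2 := rmap_comp hF H hψ1 g2⁻¹ 1 hre hrf (inv_ne_zero hρ0) hρq
  have h1 : suAut g2⁻¹ 1 * γ1 = 1 := by
    refine eq_one_of_fixed hF hn h32 hγ2 hfe2 (fun c hc => ?_) hψ2 (fun a ha => ?_)
    · show (τ (fe c) * 1 ^ (q + 1)) * ρ⁻¹ ^ (q + 1) = c
      rw [hfes c hc, inv_pow, hρ]
      field_simp
    · have hψsum : ψ1 a = ∑ i, hf q a (b i) • ψ1 (b i) := by
        conv_lhs => rw [Fr.expand_W ha]
        have hadd : ∀ u v, InW q e f u → InW q e f v → ψ1 (u + v) = ψ1 u + ψ1 v := fun u v hu hv =>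
          rmap_add hF hn2 H hψ1 hu hv
        have h0 : ψ1 0 = 0 := by simpa using hadd 0 0 (inW_zero e f) (inW_zero e f)
        have : ∀ S : Finset (Fin d), ψ1 (∑ i ∈ S, hf q a (b i) • b i) = ∑ i ∈ S, hf q a (b i) • ψ1 (b i) := by
          intro S
          classical
          induction S using Finset.induction with
          | empty => rw [Finset.sum_empty, Finset.sum_empty, h0]
          | insert j S hj ih =>
            rw [Finset.sum_insert hj, Finset.sum_insert hj,
              hadd _ _ (inW_smul (Fr.inW j) _) (inW_sum S _ fun k _ => inW_smul (Fr.inW k) _), ih,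
              hlin _ _ (Fr.inW j)]
        exact this Finset.univ
      show ρ⁻¹ ^ q • (((g2⁻¹ : ↥(Cfsg.GU n F q)) : GL (Fin n) F).val *ᵥ fun i => (1 : RingAut F) (ψ1 a i)) = a
      show ρ⁻¹ ^ q • (((g2⁻¹ : ↥(Cfsg.GU n F q)) : GL (Fin n) F).val *ᵥ ψ1 a) = a
      rw [hψsum, Matrix.mulVec_sum, Finset.smul_sum]
      conv_rhs => rw [Fr.expand_W ha]
      refine Finset.sum_congr rfl fun i _ => ?_
      have hb : ((g2 : GL (Fin n) F) : Matrix (Fin n) (Fin n) F) *ᵥ b i = (ρ ^ q)⁻¹ • ψ1 (b i) := hg2b i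
      rw [Matrix.mulVec_smul, hinv _ _ _ (inv_ne_zero hρq) hb, inv_inv, smul_smul, smul_smul, inv_pow]
      congr 1
      field_simp
  refine ⟨guMap τ⁻¹ g1⁻¹ * guMap τ⁻¹ g2, τ⁻¹, ?_⟩
  have h2 : γ1 = suAut g2 1 := by
    have h3 : suAut g2 1 * suAut g2⁻¹ 1 = 1 := by rw [suAut_mul, guMap_one_aut, mul_inv_cancel, one_mul, suAut_one]
    calc γ1 = (suAut g2 1 * suAut g2⁻¹ 1) * γ1 := by rw [h3, one_mul]
      _ = _ := by rw [mul_assoc, h1, mul_one]
  calc γ = (suAut g1 τ)⁻¹ * γ1 := by rw [hγ1def, inv_mul_cancel_left]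
    _ = _ := by rw [h2, suAut_inv, suAut_mul, mul_one]

/-- A base isotropic vector. -/
theorem exists_isotropic (hn : 2 ≤ n) : ∃ v : Fin n → F, v ≠ 0 ∧ hf q v v = 0 := by
  have h1 : (-1 : F) ^ q = -1 := by rw [← frobQ_apply hF, map_neg, map_one]
  obtain ⟨a, ha⟩ := exists_norm_eq hF h1
  have h01 : (⟨0, by omega⟩ : Fin n) ≠ ⟨1, by omega⟩ := by simp [Fin.ext_iff]
  refine ⟨Pi.single ⟨0, by omega⟩ 1 + Pi.single ⟨1, by omega⟩ a, fun e => ?_, ?_⟩
  · have := congrFun e ⟨0, by omega⟩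
    simp [h01] at this
  · rw [herm_add_left, herm_add_right hF, herm_add_right hF, herm_single_single, herm_single_single]
    rw [show Cfsg.hermForm n F q (Pi.single ⟨0, by omega⟩ 1) (Pi.single ⟨1, by omega⟩ a) = 0 by
      simp [Cfsg.hermForm, Pi.single_apply, h01, zero_pow (q_ne_zero hF)],
      show Cfsg.hermForm n F q (Pi.single ⟨1, by omega⟩ a) (Pi.single ⟨0, by omega⟩ 1) = 0 by
      simp [Cfsg.hermForm, Pi.single_apply, h01.symm, zero_pow (q_ne_zero hF)], one_mul, one_pow, ← pow_succ', ha]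
    ring

/-- Every automorphism of `PSU_n(q)` is induced by a semilinear isometry. -/
theorem exists_semi (hn : 3 ≤ n) (h32 : ¬ (n = 3 ∧ q = 2)) (α : MulAut (Cfsg.PSU n F q)) :
    ∃ (g : ↥(Cfsg.GU n F q)) (σ : RingAut F), α = suAut g σ := by
  have hn2 : 2 ≤ n := by omega
  obtain ⟨e, he, hee⟩ := exists_isotropic hF hn2
  obtain ⟨f, H⟩ := exists_hyp hF he hee
  have hfne := Hyp.ne_right hF H
  obtain ⟨u, hu, hu0, eu⟩ := exists_map_xg hF hn2 α he H.ee
  obtain ⟨w, hw, hw0, ew⟩ := exists_map_xg hF hn2 α hfne H.ff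
  have huw : hf q u w ≠ 0 := by
    intro h0
    have hcomm := (commute_iff hF hn2 (hu := hu) (hv := hw) hu0 hw0).mpr h0
    rw [← eu, ← ew] at hcomm
    have := (commute_iff hF hn2 (hu := H.ee) (hv := H.ff) he hfne).mp fun x hx y hy => α.injective (by
      rw [map_mul, map_mul]; exact hcomm _ ⟨x, hx, rfl⟩ _ ⟨y, hy, rfl⟩)
    exact one_ne_zero (H.ef.symm.trans this)
  set c := ((hf q u w)⁻¹) ^ q with hc
  have hc0 : c ≠ 0 := pow_ne_zero _ (inv_ne_zero huw)
  have H' : Hyp q u (c • w) := by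
    refine ⟨hu, ?_, ?_⟩
    · rw [herm_smul_left, herm_smul_right hF, hw, mul_zero, mul_zero]
    · rw [herm_smul_right hF, hc, pow_q_q hF]
      exact inv_mul_cancel₀ huw
  obtain ⟨d, hd, b, Fr⟩ := exists_frame hF H
  obtain ⟨d', hd', b', Fr'⟩ := exists_frame hF H'
  obtain rfl : d' = d := by omega
  obtain ⟨g, hge, hgf, -⟩ := exists_gu_map hF Fr' H Fr.inW Fr.on
  have hmap : ∀ (v z : Fin n → F) (hv : hf q v v = 0) (hz : hf q z z = 0) (x : Fin n → F) (hx : hf q x x = 0),
      (xg hF v hv).map α.toMonoidHom = xg hF z hz →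
      ((g : GL (Fin n) F) : Matrix (Fin n) (Fin n) F) *ᵥ z = x →
      (xg hF v hv).map (suAut g 1 * α).toMonoidHom = xg hF x hx := by
    intro v z hv hz x hx e1 e2
    rw [show (suAut g 1 * α).toMonoidHom = (suAut g 1).toMonoidHom.comp α.toMonoidHom from rfl, ← Subgroup.map_map, e1,
      map_suAut_xg hF g 1 z hz ((gu_preserves g z z).trans hz)]
    exact xg_congr hF e2 _ _
  have hst : Stab hF e f H (suAut g 1 * α) :=
    ⟨hmap e u H.ee hu e H.ee eu hge,
      hmap f (c • w) H.ff H'.ff f H.ff (by rw [xg_smul hF hw hc0]; exact ew) hgf⟩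
  obtain ⟨g', σ, e'⟩ := exists_semi_of_stab hF hn h32 hst
  refine ⟨g⁻¹ * g', σ, ?_⟩
  calc α = suAut g⁻¹ 1 * (suAut g 1 * α) := by
        rw [← mul_assoc, suAut_mul, guMap_one_aut, inv_mul_cancel, one_mul, suAut_one, one_mul]
    _ = _ := by rw [e', suAut_mul, guMap_one_aut, one_mul]

end CfsgLib.AutPSU
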