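import Cfsg.Agent.AutPSU.SemiMap

/-!
Isometries between frames and composition of radical maps with semilinear automorphisms.
-/

set_option autoImplicit false
set_option linter.style.haveILetI false

open Matrix

namespace CfsgLib.AutPSU

open CfsgLib.Unitary CfsgLib.Forms

variable {F : Type*} [Field F] [Finite F] {q n : ℕ} (hF : Nat.card F = q ^ 2)
include hF

local notation "hf" => Cfsg.hermForm _ _

omit hF in
theorem hf_sum_left {ι : Type*} (s : Finset ι) (g : ι → Fin n → F) (v : Fin n → F) :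
    hf q (∑ i ∈ s, g i) v = ∑ i ∈ s, hf q (g i) v := by
  classical
  induction s using Finset.induction with
  | empty => rw [Finset.sum_empty, Finset.sum_empty, hf_zero_left]
  | insert i s hi ih => rw [Finset.sum_insert hi, Finset.sum_insert hi, herm_add_left, ih]

theorem hf_sum_right {ι : Type*} (s : Finset ι) (u : Fin n → F) (g : ι → Fin n → F) :
    hf q u (∑ i ∈ s, g i) = ∑ i ∈ s, hf q u (g i) := by
  classical
  induction s using Finset.induction with
  | empty => rw [Finset.sum_empty, Finset.sum_empty, hf_swap_zero hF (hf_zero_left u)]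
  | insert i s hi ih => rw [Finset.sum_insert hi, Finset.sum_insert hi, herm_add_right hF, ih]

theorem frame_herm {d : ℕ} {e f : Fin n → F} {b : Fin d → Fin n → F} (H : Hyp q e f)
    (hW : ∀ i, InW q e f (b i)) (on : ∀ i j, hf q (b i) (b j) = if i = j then 1 else 0) (α β γ δ : F)
    (x y : Fin d → F) :
    hf q (α • e + β • f + ∑ i, x i • b i) (γ • e + δ • f + ∑ i, y i • b i) =
      α * δ ^ q + β * γ ^ q + ∑ i, x i * y i ^ q := by
  have e1 : hf q e (∑ i, y i • b i) = 0 := by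
    rw [hf_sum_right hF]
    refine Finset.sum_eq_zero fun i _ => ?_
    rw [herm_smul_right hF, hf_swap_zero hF (hW i).1, mul_zero]
  have e2 : hf q f (∑ i, y i • b i) = 0 := by
    rw [hf_sum_right hF]
    refine Finset.sum_eq_zero fun i _ => ?_
    rw [herm_smul_right hF, hf_swap_zero hF (hW i).2, mul_zero]
  have e3 : ∀ z, hf q (∑ i, x i • b i) z = ∑ i, x i * hf q (b i) z := fun z => by
    rw [hf_sum_left]
    exact Finset.sum_congr rfl fun i _ => herm_smul_left _ _ _ _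
  have e4 : ∀ i, hf q (b i) (∑ j, y j • b j) = y i ^ q := fun i => by
    rw [hf_sum_right hF, Finset.sum_eq_single i (fun j _ hj => by
      rw [herm_smul_right hF, on, if_neg (Ne.symm hj), mul_zero]) (by simp), herm_smul_right hF, on, if_pos rfl,
      mul_one]
  simp only [herm_add_left, herm_add_right hF, herm_smul_left, herm_smul_right hF, H.ee, H.ef, H.fe hF, H.ff, e1, e2,
    e3, e4, (hW _).1, (hW _).2, mul_zero, mul_one, add_zero, zero_add, Finset.sum_const_zero]
  ring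

/-- A form preserving matrix as an element of `GU`. -/
theorem exists_gu_of_pres (M : Matrix (Fin n) (Fin n) F) (h : ∀ x y, hf q (M *ᵥ x) (M *ᵥ y) = hf q x y) :
    ∃ g : ↥(Cfsg.GU n F q), ((g : GL (Fin n) F) : Matrix (Fin n) (Fin n) F) = M := by
  have hinj : Function.Injective M.mulVec := fun x y e => by
    refine sub_eq_zero.mp (uForm_nondeg hF n _ fun z => ?_)
    show hf q z (x - y) = 0
    rw [← h, Matrix.mulVec_sub, show M *ᵥ x = M *ᵥ y from e, sub_self, hf_swap_zero hF (hf_zero_left _)]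
  exact ⟨⟨(Matrix.mulVec_injective_iff_isUnit.mp hinj).unit, mem_GU_iff.mpr h⟩, rfl⟩

/-- The isometry sending one frame to another. -/
theorem exists_gu_map {d : ℕ} {e f : Fin n → F} {b : Fin d → Fin n → F} (Fr : Frame q e f b) {e' f' : Fin n → F}
    {b' : Fin d → Fin n → F} (H' : Hyp q e' f') (hW' : ∀ i, InW q e' f' (b' i))
    (on' : ∀ i j, hf q (b' i) (b' j) = if i = j then 1 else 0) :
    ∃ g : ↥(Cfsg.GU n F q), ((g : GL (Fin n) F) : Matrix (Fin n) (Fin n) F) *ᵥ e = e' ∧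
      ((g : GL (Fin n) F) : Matrix (Fin n) (Fin n) F) *ᵥ f = f' ∧
      ∀ i, ((g : GL (Fin n) F) : Matrix (Fin n) (Fin n) F) *ᵥ b i = b' i := by
  set M : Matrix (Fin n) (Fin n) F := Matrix.vecMulVec e' (barVec q f) + Matrix.vecMulVec f' (barVec q e) +
    ∑ i, Matrix.vecMulVec (b' i) (barVec q (b i)) with hM
  have hMx : ∀ x, M *ᵥ x = hf q x f • e' + hf q x e • f' + ∑ i, hf q x (b i) • b' i := fun x => by
    simp only [hM, Matrix.add_mulVec, Matrix.sum_mulVec, Matrix.vecMulVec_mulVec, op_smul_eq_smul, barVec_dot]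
  obtain ⟨g, hg⟩ := exists_gu_of_pres hF M fun x y => by
    rw [hMx, hMx, frame_herm hF H' hW' on']
    conv_rhs => rw [Fr.expand x, Fr.expand y, frame_herm hF Fr.H Fr.inW Fr.on]
  refine ⟨g, ?_, ?_, fun i => ?_⟩
  · rw [hg, hMx, Fr.H.ef, Fr.H.ee, one_smul, zero_smul, add_zero, Finset.sum_eq_zero fun i _ => by
      rw [hf_swap_zero hF (Fr.inW i).1, zero_smul], add_zero]
  · rw [hg, hMx, Fr.H.ff, Fr.H.fe hF, one_smul, zero_smul, zero_add, Finset.sum_eq_zero fun i _ => by
      rw [hf_swap_zero hF (Fr.inW i).2, zero_smul], add_zero]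
  · rw [hg, hMx, (Fr.inW i).2, (Fr.inW i).1, zero_smul, zero_smul, zero_add, zero_add,
      Finset.sum_eq_single i (fun j _ hj => by rw [Fr.on, if_neg (Ne.symm hj), zero_smul]) (by simp), Fr.on,
      if_pos rfl, one_smul]

/-- Parameters on a transvection group. -/
def Param (e : Fin n → F) (he : hf q e e = 0) (γ : MulAut (Cfsg.PSU n F q)) (fe : F → F) : Prop :=
  ∀ c (hc : c + c ^ q = 0), ∃ hc' : fe c + fe c ^ q = 0,
    γ (QuotientGroup.mk (suTv n e c he hc hF)) = QuotientGroup.mk (suTv n e (fe c) he hc' hF)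

omit [Finite F] hF in
theorem map_skew (τ : RingAut F) {c : F} (hc : c + c ^ q = 0) : τ c + τ c ^ q = 0 := by
  rw [← map_pow, ← map_add, hc, map_zero]

theorem norm_fixed (μ : F) : (μ ^ (q + 1)) ^ q = μ ^ (q + 1) := by
  rw [← pow_mul, add_mul, one_mul, pow_add, pow_mul, pow_q_q hF, pow_succ]
  ring

/-- Composition with a semilinear automorphism. -/
theorem stab_comp {e f : Fin n → F} {H : Hyp q e f} {γ : MulAut (Cfsg.PSU n F q)} (hγ : Stab hF e f H γ)
    (g : ↥(Cfsg.GU n F q)) (τ : RingAut F) {μ ν : F}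
    (hge : ((g : GL (Fin n) F) : Matrix (Fin n) (Fin n) F) *ᵥ (fun i => τ (e i)) = μ • e)
    (hgf : ((g : GL (Fin n) F) : Matrix (Fin n) (Fin n) F) *ᵥ (fun i => τ (f i)) = ν • f) (hμ : μ ≠ 0) (hν : ν ≠ 0) :
    Stab hF e f H (suAut g τ * γ) := by
  have key : ∀ (v : Fin n → F) (hv : hf q v v = 0) (l : F), l ≠ 0 →
      ((g : GL (Fin n) F) : Matrix (Fin n) (Fin n) F) *ᵥ (fun i => τ (v i)) = l • v →
      (xg hF v hv).map γ.toMonoidHom = xg hF v hv →
      (xg hF v hv).map (suAut g τ * γ).toMonoidHom = xg hF v hv := by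
    intro v hv l hl he hmap
    have hw : hf q (((g : GL (Fin n) F) : Matrix (Fin n) (Fin n) F) *ᵥ fun i => τ (v i))
        (((g : GL (Fin n) F) : Matrix (Fin n) (Fin n) F) *ᵥ fun i => τ (v i)) = 0 := by
      rw [gu_preserves, ← map_herm, hv, map_zero]
    rw [show (suAut g τ * γ).toMonoidHom = (suAut g τ).toMonoidHom.comp γ.toMonoidHom from rfl, ← Subgroup.map_map,
      hmap, map_suAut_xg hF g τ v hv hw, xg_congr hF he hw (he ▸ hw), xg_smul hF hv hl]
  exact ⟨key e H.ee μ hμ hge hγ.ee, key f H.ff ν hν hgf hγ.ff⟩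

theorem param_comp {e : Fin n → F} {he : hf q e e = 0} {γ : MulAut (Cfsg.PSU n F q)} {fe : F → F}
    (hfe : Param hF e he γ fe) (g : ↥(Cfsg.GU n F q)) (τ : RingAut F) {μ : F}
    (hge : ((g : GL (Fin n) F) : Matrix (Fin n) (Fin n) F) *ᵥ (fun i => τ (e i)) = μ • e) :
    Param hF e he (suAut g τ * γ) fun c => τ (fe c) * μ ^ (q + 1) := by
  intro c hc
  obtain ⟨hc', ec⟩ := hfe c hc
  refine ⟨skew_mul (map_skew τ hc') (norm_fixed hF μ), ?_⟩
  rw [MulAut.mul_apply, ec, suAut_mk]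
  refine congrArg _ (suMat_inj ?_)
  show suMat (suFun g τ _) = Cfsg.unitaryTransvection n q e _
  rw [suMat_suFun, show suMat (suTv n e (fe c) he hc' hF) = Cfsg.unitaryTransvection n q e (fe c) from rfl, utv_map,
    utv_gu_conj, hge, utv_smul hF]

theorem inW_image {e f : Fin n → F} (g : ↥(Cfsg.GU n F q)) (τ : RingAut F) {μ ν : F}
    (hge : ((g : GL (Fin n) F) : Matrix (Fin n) (Fin n) F) *ᵥ (fun i => τ (e i)) = μ • e)
    (hgf : ((g : GL (Fin n) F) : Matrix (Fin n) (Fin n) F) *ᵥ (fun i => τ (f i)) = ν • f) (hμ : μ ≠ 0) (hν : ν ≠ 0)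
    {a : Fin n → F} (ha : InW q e f a) :
    InW q e f (((g : GL (Fin n) F) : Matrix (Fin n) (Fin n) F) *ᵥ fun i => τ (a i)) := by
  constructor
  · have h := gu_preserves g (fun i => τ (a i)) (fun i => τ (e i))
    rw [hge, ← map_herm, herm_smul_right hF, show hf q a e = 0 from ha.1, map_zero] at h
    exact (mul_eq_zero.mp h).resolve_left (pow_ne_zero _ hμ)
  · have h := gu_preserves g (fun i => τ (a i)) (fun i => τ (f i))
    rw [hgf, ← map_herm, herm_smul_right hF, show hf q a f = 0 from ha.2, map_zero] at h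
    exact (mul_eq_zero.mp h).resolve_left (pow_ne_zero _ hν)

theorem rmap_comp {e f : Fin n → F} (H : Hyp q e f) {γ : MulAut (Cfsg.PSU n F q)}
    {ψ : (Fin n → F) → (Fin n → F)} (hψ : RMap e f γ ψ) (g : ↥(Cfsg.GU n F q)) (τ : RingAut F) {μ ν : F}
    (hge : ((g : GL (Fin n) F) : Matrix (Fin n) (Fin n) F) *ᵥ (fun i => τ (e i)) = μ • e)
    (hgf : ((g : GL (Fin n) F) : Matrix (Fin n) (Fin n) F) *ᵥ (fun i => τ (f i)) = ν • f) (hμ : μ ≠ 0) (hν : ν ≠ 0) :
    RMap e f (suAut g τ * γ)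
      fun a => μ ^ q • (((g : GL (Fin n) F) : Matrix (Fin n) (Fin n) F) *ᵥ fun i => τ (ψ a i)) := by
  refine ⟨fun a ha => inW_smul (inW_image hF g τ hge hgf hμ hν (hψ.1 a ha)) _, fun A a s ha hA => ?_⟩
  obtain ⟨A', s', hA', eA⟩ := hψ.2 A a s ha hA
  refine ⟨suFun g τ A', μ ^ (q + 1) * τ s', ?_, ?_⟩
  · rw [suMat_suFun, hA', eichMat_map, eichMat_conj g (by rw [← map_herm, H.ee, map_zero]), hge,
      eichMat_smul hF H.ee]
  · rw [MulAut.mul_apply, eA, suAut_mk]

end CfsgLib.AutPSU
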