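import Cfsg.Agent.AutPSU.Main
import Cfsg.Agent.AutPSL.ClassBasics

/-!
The structure of `Aut(PSU_n(q))`: kernels, indices and orders.
-/

set_option autoImplicit false
set_option linter.style.haveILetI false

open Matrix

namespace CfsgLib.AutPSU

open CfsgLib.Unitary CfsgLib.Forms

variable {F : Type*} [Field F] [Finite F] {q n : ℕ} (hF : Nat.card F = q ^ 2)

/-- The norm one units. -/
def normOne (F : Type*) [Field F] (q : ℕ) : Subgroup Fˣ := (powMonoidHom (q + 1) : Fˣ →* Fˣ).ker

omit [Finite F] in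
theorem mem_normOne {u : Fˣ} : u ∈ normOne F q ↔ u ^ (q + 1) = 1 := Iff.rfl

omit [Finite F] in
theorem normOne_val (u : ↥(normOne F q)) : ((u : Fˣ) : F) ^ (q + 1) = 1 := by
  rw [← Units.val_pow_eq_pow_val, mem_normOne.mp u.2, Units.val_one]

include hF

local notation "hf" => Cfsg.hermForm _ _

theorem card_normOne : Nat.card ↥(normOne F q) = q + 1 := by
  rw [normOne, IsCyclic.card_powMonoidHom_ker, card_units_eq hF, Nat.gcd_mul_right_left]

/-- The scalar isometries. -/
noncomputable def scalarU (n : ℕ) : ↥(normOne F q) →* ↥(Cfsg.GU n F q) where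
  toFun u := ⟨Matrix.GeneralLinearGroup.scalar (Fin n) (u : Fˣ), mem_GU_iff.mpr fun x y => by
    have e : ((Matrix.GeneralLinearGroup.scalar (Fin n) (u : Fˣ) : GL (Fin n) F) : Matrix (Fin n) (Fin n) F) =
        ((u : Fˣ) : F) • 1 := by simp [Matrix.smul_one_eq_diagonal]
    rw [e, Matrix.smul_mulVec, Matrix.smul_mulVec, Matrix.one_mulVec, Matrix.one_mulVec, herm_smul_left,
      herm_smul_right hF, ← mul_assoc, ← pow_succ', normOne_val, one_mul]⟩
  map_one' := Subtype.ext (map_one _)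
  map_mul' a b := Subtype.ext (map_mul _ _ _)

theorem coe_scalarU (u : ↥(normOne F q)) :
    ((scalarU hF n u : GL (Fin n) F) : Matrix (Fin n) (Fin n) F) = ((u : Fˣ) : F) • 1 := by
  simp [scalarU, Matrix.smul_one_eq_diagonal]

theorem scalarU_comm (u : ↥(normOne F q)) (g : ↥(Cfsg.GU n F q)) : scalarU hF n u * g = g * scalarU hF n u :=
  Subtype.ext (CfsgLib.AutPSL.scalar_comm (u : Fˣ) (g : GL (Fin n) F))

theorem suAut_scalarU (u : ↥(normOne F q)) : suAut (scalarU hF n u) (1 : RingAut F) = 1 :=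
  aut_ext fun s => by
    rw [suAut_mk, MulAut.one_apply]
    refine congrArg _ (suMat_inj ?_)
    have hi : ((scalarU hF n u : GL (Fin n) F)⁻¹ : GL (Fin n) F) = (scalarU hF n u⁻¹ : GL (Fin n) F) := by
      rw [map_inv, InvMemClass.coe_inv]
    rw [suMat_suFun, hi, coe_scalarU, coe_scalarU]
    ext a b
    simp [smul_smul]

theorem suAut_scalarU_mul (u : ↥(normOne F q)) (g : ↥(Cfsg.GU n F q)) (σ : RingAut F) :
    suAut (scalarU hF n u * g) σ = suAut g σ := by
  calc suAut (scalarU hF n u * g) σ = suAut (scalarU hF n u) 1 * suAut g σ := by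
        rw [suAut_mul, guMap_one_aut, one_mul]
    _ = _ := by rw [suAut_scalarU, one_mul]

/-- A map fixing the norm one elements is the identity. -/
theorem eq_one_of_fix_normOne {σ : RingAut F} (h : ∀ z : F, z ^ (q + 1) = 1 → σ z = z) : σ = 1 := by
  obtain ⟨z, hz, hzo⟩ := exists_norm_one hF
  refine RingEquiv.ext fun x => ?_
  have := linear_of_commutes hF (c := fun y => σ y) (fun a b => map_add σ a b) (t := z) (by omega)
    (fun y => by show σ (z * y) = z * σ y; rw [map_mul, h z hz]) x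
  show σ x = x
  simpa using this

/-- Only scalars act trivially. -/
theorem suAut_eq_one (hn : 3 ≤ n) {g : ↥(Cfsg.GU n F q)} {σ : RingAut F} (h : suAut g σ = 1) :
    σ = 1 ∧ ∃ u : ↥(normOne F q), g = scalarU hF n u := by
  classical
  have hn2 : 2 ≤ n := by omega
  set M := ((g : GL (Fin n) F) : Matrix (Fin n) (Fin n) F) with hM
  have hline : ∀ v : Fin n → F, v ≠ 0 → hf q v v = 0 → ∃ c : F, M *ᵥ (fun i => σ (v i)) = c • v := by
    intro v hv hv0
    have hw : hf q (M *ᵥ fun i => σ (v i)) (M *ᵥ fun i => σ (v i)) = 0 := by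
      rw [gu_preserves, ← map_herm, hv0, map_zero]
    have e := map_suAut_xg hF g σ v hv0 hw
    rw [h, show (1 : MulAut (Cfsg.PSU n F q)).toMonoidHom = MonoidHom.id _ from rfl, Subgroup.map_id] at e
    refine span_of_xg_le hF hn2 (fun e0 => hv (funext fun i => ?_)) e.ge
    have h0 : (fun i => σ (v i)) = 0 := gu_injective g (by
      show M *ᵥ _ = M *ᵥ 0
      rw [e0, Matrix.mulVec_zero])
    exact σ.injective ((congrFun h0 i).trans (map_zero σ).symm)
  have hm1 : (-1 : F) ^ q = -1 := by rw [← frobQ_apply hF, map_neg, map_one]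
  obtain ⟨a0, ha0⟩ := exists_norm_eq hF hm1
  obtain ⟨z, hz, hzo⟩ := exists_norm_one hF
  have hz1 : z ≠ 1 := fun e => by rw [e, orderOf_one] at hzo; have := two_le_q hF; omega
  have ha00 : a0 ≠ 0 := fun e => by
    rw [e, zero_pow (Nat.succ_ne_zero q)] at ha0
    exact one_ne_zero (neg_eq_zero.mp ha0.symm)
  -- the pair vectors
  have hiso : ∀ (i j : Fin n), i ≠ j → ∀ a : F, a ^ (q + 1) = -1 →
      ∃ c : F, M.col i + σ a • M.col j = c • (Pi.single i 1 + a • Pi.single j 1 : Fin n → F) := by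
    intro i j hij a ha
    have hv : (Pi.single i 1 + a • Pi.single j 1 : Fin n → F) ≠ 0 := fun e => by
      simpa [hij] using congrFun e i
    obtain ⟨c, hc⟩ := hline _ hv (by
      rw [herm_add_left, herm_add_right hF, herm_add_right hF, herm_smul_left, herm_smul_left, herm_smul_right hF,
        herm_smul_right hF, herm_single_single, herm_single_single, one_pow, mul_one]
      rw [show Cfsg.hermForm n F q (Pi.single i 1) (Pi.single j 1) = 0 by
          rw [herm_single_left, Pi.single_eq_of_ne hij, zero_pow (q_ne_zero hF)],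
        show Cfsg.hermForm n F q (Pi.single j 1) (Pi.single i 1) = 0 by
          rw [herm_single_left, Pi.single_eq_of_ne hij.symm, zero_pow (q_ne_zero hF)]]
      rw [pow_succ'] at ha
      linear_combination ha)
    refine ⟨c, ?_⟩
    rw [← hc]
    have e : (fun k => σ ((Pi.single i 1 + a • Pi.single j 1 : Fin n → F) k)) =
        Pi.single i 1 + σ a • Pi.single j 1 := by
      funext k
      simp only [Pi.add_apply, Pi.smul_apply, smul_eq_mul, map_add, map_mul, Pi.single_apply, apply_ite σ, map_one,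
        map_zero]
    rw [e, Matrix.mulVec_add, Matrix.mulVec_smul, Matrix.mulVec_single_one, Matrix.mulVec_single_one]
  have hza : ∀ w : F, w ^ (q + 1) = 1 → (w * a0) ^ (q + 1) = -1 := fun w hw => by rw [mul_pow, hw, one_mul, ha0]
  have hsupp : ∀ (j k : Fin n), k ≠ j → M k j = 0 := by
    intro j k hkj
    obtain ⟨i, hij, hik⟩ : ∃ i, i ≠ j ∧ i ≠ k := by
      have : ((Finset.univ : Finset (Fin n)).erase j |>.erase k).Nonempty := by
        rw [← Finset.card_pos, Finset.card_erase_of_mem (by simp [hkj]), Finset.card_erase_of_mem (by simp),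
          Finset.card_univ, Fintype.card_fin]
        omega
      obtain ⟨i, hi⟩ := this
      simp only [Finset.mem_erase, Finset.mem_univ, and_true] at hi
      exact ⟨i, hi.2, hi.1⟩
    obtain ⟨c, hc⟩ := hiso i j hij a0 ha0
    obtain ⟨c', hc'⟩ := hiso i j hij _ (hza z hz)
    have e1 := congrFun hc k
    have e2 := congrFun hc' k
    simp [Matrix.col_apply, hik.symm, hkj] at e1 e2
    have hd : σ a0 - σ z * σ a0 ≠ 0 := by
      rw [← map_mul, ← map_sub]
      intro e0
      rw [← map_zero σ] at e0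
      have := σ.injective e0
      have h' : (1 - z) * a0 = 0 := by linear_combination this
      exact hz1 (sub_eq_zero.mp ((mul_eq_zero.mp h').resolve_right ha00)).symm
    have : (σ a0 - σ z * σ a0) * M k j = 0 := by linear_combination e1 - e2
    exact (mul_eq_zero.mp this).resolve_left hd
  have hdiag : ∀ i j : Fin n, i ≠ j → ∀ a : F, a ^ (q + 1) = -1 → M j j * σ a = a * M i i := by
    intro i j hij a ha
    obtain ⟨c, hc⟩ := hiso i j hij a ha
    have e1 := congrFun hc i
    have e2 := congrFun hc j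
    simp [Matrix.col_apply, hsupp j i hij, hsupp i j hij.symm, hij, hij.symm] at e1 e2
    rw [e1]; linear_combination e2
  have hne : ∀ i, M i i ≠ 0 := by
    intro i e0
    have hcol : M.col i = 0 := funext fun k => by
      rcases eq_or_ne k i with rfl | hk
      · exact e0
      · exact hsupp i k hk
    have h0 : (Pi.single i 1 : Fin n → F) = 0 := gu_injective g (by
      show M *ᵥ _ = M *ᵥ 0
      rw [Matrix.mulVec_single_one, hcol, Matrix.mulVec_zero])
    exact one_ne_zero (Pi.single_eq_zero_iff.mp h0)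
  have hσa0 : σ a0 ≠ 0 := fun e => ha00 (σ.injective (e.trans (map_zero σ).symm))
  have hall : ∀ i j : Fin n, M i i = M j j := by
    intro i j
    rcases eq_or_ne i j with rfl | hij
    · rfl
    obtain ⟨k, hki, hkj⟩ : ∃ k, k ≠ i ∧ k ≠ j := by
      have : ((Finset.univ : Finset (Fin n)).erase i |>.erase j).Nonempty := by
        rw [← Finset.card_pos, Finset.card_erase_of_mem (by simp [hij.symm]), Finset.card_erase_of_mem (by simp),
          Finset.card_univ, Fintype.card_fin]
        omega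
      obtain ⟨k, hk⟩ := this
      simp only [Finset.mem_erase, Finset.mem_univ, and_true] at hk
      exact ⟨k, hk.2, hk.1⟩
    exact mul_right_cancel₀ hσa0 ((hdiag k i hki a0 ha0).trans (hdiag k j hkj a0 ha0).symm)
  let i0 : Fin n := ⟨0, by omega⟩
  let i1 : Fin n := ⟨1, by omega⟩
  have h01 : i0 ≠ i1 := by simp [i0, i1, Fin.ext_iff]
  have hfixa : ∀ a : F, a ^ (q + 1) = -1 → σ a = a := fun a ha => by
    have := hdiag i0 i1 h01 a ha
    rw [hall i0 i1, mul_comm a] at this
    exact mul_left_cancel₀ (hne i1) this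
  have hMeq : M = M i0 i0 • 1 := by
    ext r c
    rcases eq_or_ne r c with rfl | hrc
    · simpa using hall r i0
    · simp [hrc, hsupp c r hrc]
  have hnorm : M i0 i0 ^ (q + 1) = 1 := by
    have e := gu_preserves g (Pi.single i0 1) (Pi.single i0 1)
    have hM0 : M *ᵥ Pi.single i0 1 = M i0 i0 • Pi.single i0 1 := by
      conv_lhs => rw [hMeq, Matrix.smul_mulVec, Matrix.one_mulVec]
    rw [← hM, hM0, herm_smul_left, herm_smul_right hF, herm_single_single, one_pow, mul_one, mul_one] at e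
    rw [pow_succ']; exact e
  refine ⟨eq_one_of_fix_normOne hF fun w hw => ?_, ⟨Units.mk0 _ (hne i0), ?_⟩, Subtype.ext (Units.ext ?_)⟩
  · have := hfixa _ (hza w hw)
    rw [map_mul, hfixa a0 ha0] at this
    exact mul_right_cancel₀ ha00 this
  · exact mem_normOne.mpr (Units.ext (by rw [Units.val_pow_eq_pow_val, Units.val_mk0, Units.val_one]; exact hnorm))
  · rw [coe_scalarU]; exact hMeq

theorem suAut_eq_suAut (hn : 3 ≤ n) {g h : ↥(Cfsg.GU n F q)} {σ τ : RingAut F} (e : suAut g σ = suAut h τ) :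
    σ = τ ∧ ∃ u : ↥(normOne F q), h = g * scalarU hF n u := by
  have e1 : suAut (guMap σ⁻¹ (g⁻¹ * h)) (σ⁻¹ * τ) = 1 := by
    rw [← suAut_inv_mul g σ, map_mul]
    conv_rhs => rw [e, suAut_mul]
  obtain ⟨h1, u, hu⟩ := suAut_eq_one hF hn e1
  have hmem : Units.map (σ : F →* F) (u : Fˣ) ∈ normOne F q := by
    rw [mem_normOne, ← map_pow, mem_normOne.mp u.2, map_one]
  refine ⟨inv_mul_eq_one.mp h1, ⟨_, hmem⟩, ?_⟩
  have h2 := congrArg (guMap σ) hu
  rw [← guMap_mul_aut, mul_inv_cancel, guMap_one_aut] at h2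
  rw [← inv_mul_eq_iff_eq_mul, h2]
  apply Subtype.ext; apply Units.ext
  rw [coe_guMap, coe_glMap, coe_scalarU, coe_scalarU]
  ext a b
  rcases eq_or_ne a b with rfl | hab <;> simp [*]

theorem mem_ker_innDiag (hn : 3 ≤ n) {g : ↥(Cfsg.GU n F q)} :
    g ∈ (innDiagHom n F q).ker ↔ ∃ u : ↥(normOne F q), g = scalarU hF n u := by
  constructor
  · exact fun h => (suAut_eq_one hF hn h).2
  · rintro ⟨u, rfl⟩; exact suAut_scalarU hF u

/-- The determinant into the norm one units. -/
noncomputable def detU (n : ℕ) : ↥(Cfsg.GU n F q) →* ↥(normOne F q) :=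
  (detGU (F := F) (q := q) n).codRestrict _ fun g => mem_normOne.mpr (det_GU hF g.2)

theorem coe_detU (g : ↥(Cfsg.GU n F q)) :
    ((detU hF n g : Fˣ)) = Matrix.GeneralLinearGroup.det (g : GL (Fin n) F) := rfl

theorem detU_scalarU (u : ↥(normOne F q)) : detU hF n (scalarU hF n u) = u ^ n :=
  Subtype.ext (Units.ext (by
    rw [coe_detU]
    show ((scalarU hF n u : GL (Fin n) F) : Matrix (Fin n) (Fin n) F).det = _
    rw [coe_scalarU, Matrix.det_smul, Matrix.det_one, Fintype.card_fin, mul_one]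
    simp))

theorem detU_toGU (k : Cfsg.SU n F q) : detU hF n (suToGU k) = 1 :=
  Subtype.ext (Units.ext (k : Matrix.SpecialLinearGroup (Fin n) F).2)

theorem exists_eq_suToGU {g : ↥(Cfsg.GU n F q)} (h : detU hF n g = 1) : ∃ k : Cfsg.SU n F q, g = suToGU k :=
  ⟨⟨⟨((g : GL (Fin n) F) : Matrix (Fin n) (Fin n) F), congrArg (fun u : ↥(normOne F q) => ((u : Fˣ) : F)) h⟩, g.2⟩,
    Subtype.ext (Units.ext rfl)⟩

/-- A diagonal isometry with the given determinant. -/
theorem exists_diagU (hn : 1 ≤ n) (u : ↥(normOne F q)) :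
    ∃ g : ↥(Cfsg.GU n F q), detU hF n g = u ∧
      ∀ σ : RingAut F, σ ((u : Fˣ) : F) = ((u : Fˣ) : F) → guMap σ g = g := by
  obtain ⟨m, rfl⟩ : ∃ m, n = m + 1 := ⟨n - 1, by omega⟩
  refine ⟨diagFirst (n := m) (u : Fˣ) u.2, Subtype.ext (det_diagFirst _ u.2), fun σ hσ => ?_⟩
  refine Subtype.ext (Units.ext ?_)
  show (Matrix.diagonal (Fin.cons ((u : Fˣ) : F) fun _ => 1)).map σ = Matrix.diagonal _
  rw [Matrix.diagonal_map (map_zero σ)]
  congr 1
  funext i
  induction i using Fin.cases with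
  | zero => simpa using hσ
  | succ i => simp

theorem detU_surjective (hn : 1 ≤ n) : Function.Surjective (detU hF n) := fun u =>
  ⟨_, (exists_diagU hF hn u).choose_spec.1⟩

/-- The index of a subgroup containing the inner automorphisms. -/
theorem relIndex_inn_sup (hn : 3 ≤ n) (L : Subgroup ↥(Cfsg.GU n F q)) (U : Subgroup ↥(normOne F q))
    (hU : L.map (detU hF n) = U) :
    (Cfsg.Inn (Cfsg.PSU n F q) ⊔ L.map (innDiagHom n F q)).relIndex (Cfsg.inndiagPSU n F q) =
      Nat.gcd n U.index := by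
  subst hU
  have hcomap : (Cfsg.Inn (Cfsg.PSU n F q) ⊔ L.map (innDiagHom n F q)).comap (innDiagHom n F q) =
      (L.map (detU hF n) ⊔ (powMonoidHom n : ↥(normOne F q) →* ↥(normOne F q)).range).comap (detU hF n) := by
    ext g
    constructor
    · intro hg
      obtain ⟨a, ⟨x, rfl⟩, b, ⟨l, hl, rfl⟩, e⟩ := Subgroup.mem_sup_of_normal_left.mp (Subgroup.mem_comap.mp hg)
      obtain ⟨k, rfl⟩ := QuotientGroup.mk_surjective x
      rw [← suAut_toGU, ← innDiagHom_apply, ← map_mul] at e
      have h1 : (suToGU k * l)⁻¹ * g ∈ (innDiagHom n F q).ker := by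
        rw [MonoidHom.mem_ker, map_mul, map_inv, e, inv_mul_cancel]
      obtain ⟨u, hu⟩ := (mem_ker_innDiag hF hn).mp h1
      rw [Subgroup.mem_comap, ← mul_inv_cancel_left (suToGU k * l) g, hu, map_mul, map_mul,
        detU_toGU, one_mul, detU_scalarU]
      exact mul_mem (Subgroup.mem_sup_left ⟨l, hl, rfl⟩) (Subgroup.mem_sup_right ⟨u, rfl⟩)
    · intro hg
      obtain ⟨_, ⟨l, hl, rfl⟩, _, ⟨u, rfl⟩, e⟩ := Subgroup.mem_sup.mp (Subgroup.mem_comap.mp hg)
      obtain ⟨k, hk⟩ := exists_eq_suToGU hF (g := g * (l * scalarU hF n u)⁻¹)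
        (by rw [map_mul, map_inv, map_mul, detU_scalarU, ← e]; exact mul_inv_cancel _)
      have hg' : g = suToGU k * l * scalarU hF n u := by
        rw [← hk, mul_assoc, inv_mul_cancel_right]
      rw [Subgroup.mem_comap, hg', map_mul, map_mul, innDiagHom_apply (scalarU hF n u), suAut_scalarU, mul_one,
        innDiagHom_apply, suAut_toGU]
      exact mul_mem (Subgroup.mem_sup_left ⟨_, rfl⟩) (Subgroup.mem_sup_right ⟨l, hl, rfl⟩)
  rw [inndiag_eq_range, ← Subgroup.index_comap, hcomap,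
    Subgroup.index_comap_of_surjective _ (detU_surjective hF (by omega)), CfsgLib.AutPSL.index_sup_pow]

theorem relIndex_inn (hn : 3 ≤ n) :
    (Cfsg.Inn (Cfsg.PSU n F q)).relIndex (Cfsg.inndiagPSU n F q) = Nat.gcd n (q + 1) := by
  have h := relIndex_inn_sup hF hn ⊥ ⊥ (Subgroup.map_bot _)
  rwa [Subgroup.map_bot, sup_bot_eq, Subgroup.index_bot, card_normOne hF] at h

/-- `PSU` has trivial centre. -/
theorem conj_injective (hn : 3 ≤ n) :
    Function.Injective (MulAut.conj : Cfsg.PSU n F q →* MulAut (Cfsg.PSU n F q)) := by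
  rw [← MonoidHom.ker_eq_bot_iff, eq_bot_iff]
  intro x hx
  obtain ⟨k, rfl⟩ := QuotientGroup.mk_surjective x
  rw [MonoidHom.mem_ker, ← suAut_toGU] at hx
  obtain ⟨-, u, hu⟩ := suAut_eq_one hF hn hx
  refine Subgroup.mem_bot.mpr ((QuotientGroup.eq_one_iff _).mpr
    ((mem_center_SU_iff hF (by omega)).mpr ⟨((u : Fˣ) : F), ?_⟩))
  rw [← coe_scalarU hF, ← hu]; rfl

theorem card_inn (hn : 3 ≤ n) : Nat.card (Cfsg.Inn (Cfsg.PSU n F q)) = Nat.card (Cfsg.PSU n F q) :=
  (Nat.card_congr (MonoidHom.ofInjective (conj_injective hF hn)).toEquiv).symm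

theorem card_inndiag (hn : 3 ≤ n) :
    Nat.card (Cfsg.inndiagPSU n F q) = Nat.gcd n (q + 1) * Nat.card (Cfsg.PSU n F q) := by
  rw [← Subgroup.relIndex_bot_left, ← Subgroup.relIndex_mul_relIndex _ _ _ bot_le inn_le_inndiag,
    relIndex_inn hF hn, Subgroup.relIndex_bot_left, card_inn hF hn, mul_comm]

variable (hn : 3 ≤ n) (h32 : ¬ (n = 3 ∧ q = 2))
include hn h32

/-- The field part of an automorphism. -/
noncomputable def fieldPart : MulAut (Cfsg.PSU n F q) →* RingAut F :=
  MonoidHom.mk' (fun α => (exists_semi hF hn h32 α).choose_spec.choose) fun a b =>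
    ((suAut_eq_suAut hF hn ((suAut_mul _ _ _ _).symm.trans
      ((congrArg₂ (· * ·) (exists_semi hF hn h32 a).choose_spec.choose_spec
        (exists_semi hF hn h32 b).choose_spec.choose_spec).symm.trans
          (exists_semi hF hn h32 (a * b)).choose_spec.choose_spec))).1).symm

theorem fieldPart_apply (g : ↥(Cfsg.GU n F q)) (σ : RingAut F) : fieldPart hF hn h32 (suAut g σ) = σ :=
  ((suAut_eq_suAut hF hn (exists_semi hF hn h32 (suAut g σ)).choose_spec.choose_spec).1).symm

theorem fieldPart_surjective : Function.Surjective (fieldPart hF hn h32) := fun σ =>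
  ⟨suAut 1 σ, fieldPart_apply hF hn h32 1 σ⟩

theorem ker_fieldPart : (fieldPart hF hn h32).ker = Cfsg.inndiagPSU n F q := by
  ext α
  rw [inndiag_eq_range, MonoidHom.mem_ker]
  obtain ⟨g, σ, rfl⟩ := exists_semi hF hn h32 α
  rw [fieldPart_apply]
  constructor
  · rintro rfl; exact ⟨g, rfl⟩
  · rintro ⟨k, hk⟩
    exact ((suAut_eq_suAut hF hn hk).1).symm

theorem card_aut : Nat.card (MulAut (Cfsg.PSU n F q)) =
    Nat.card (RingAut F) * (Nat.gcd n (q + 1) * Nat.card (Cfsg.PSU n F q)) := by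
  rw [CfsgLib.AutPSL.card_eq_card_mul_ker _ (fieldPart_surjective hF hn h32), ker_fieldPart, card_inndiag hF hn]

/-- The outer automorphism group. -/
theorem exists_outHom {A : Type*} [Group A] (e : RingAut F ≃* A) :
    ∃ φ : Cfsg.Out (Cfsg.PSU n F q) →* A,
      Function.Surjective φ ∧ IsCyclic φ.ker ∧ Nat.card φ.ker = Nat.gcd n (q + 1) := by
  classical
  set Φ := e.toMonoidHom.comp (fieldPart hF hn h32)
  have hker : Φ.ker = Cfsg.inndiagPSU n F q := by
    rw [← ker_fieldPart hF hn h32]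
    exact MonoidHom.ker_mulEquiv_comp _ e
  have hle : Cfsg.Inn (Cfsg.PSU n F q) ≤ Φ.ker := hker ▸ inn_le_inndiag
  set φ := QuotientGroup.lift _ Φ hle with hφ
  let π := QuotientGroup.mk' (Cfsg.Inn (Cfsg.PSU n F q))
  let ψ : ↥(Cfsg.GU n F q) →* Cfsg.Out (Cfsg.PSU n F q) := π.comp (innDiagHom n F q)
  have hrange : ψ.range = φ.ker := by
    rw [MonoidHom.range_comp, ← inndiag_eq_range, ← hker]
    exact (QuotientGroup.ker_lift _ Φ hle).symm
  have hψker : (detU hF n).ker ≤ ψ.ker := by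
    intro g hg
    obtain ⟨k, rfl⟩ := exists_eq_suToGU hF hg
    show π (innDiagHom n F q (suToGU k)) = 1
    rw [innDiagHom_apply, suAut_toGU]
    exact (QuotientGroup.eq_one_iff _).mpr ⟨_, rfl⟩
  refine ⟨φ, fun a => ?_, ?_, ?_⟩
  · obtain ⟨α, hα⟩ := e.surjective a
    exact ⟨π (suAut 1 α), by
      show e (fieldPart hF hn h32 (suAut 1 α)) = a
      rw [fieldPart_apply, hα]⟩
  · rw [← hrange]
    haveI : IsCyclic ↥(normOne F q) := Subgroup.isCyclic _
    let χ : ↥(normOne F q) →* ↥ψ.range :=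
      (detU hF n).liftOfSurjective (detU_surjective hF (by omega))
        ⟨ψ.rangeRestrict, fun g hg => Subtype.ext (hψker hg)⟩
    refine isCyclic_of_surjective χ fun x => ?_
    obtain ⟨_, g, rfl⟩ := x
    exact ⟨detU hF n g, MonoidHom.liftOfRightInverse_comp_apply _ _ _ _ g⟩
  · have h1 := Subgroup.relIndex_mul_relIndex ⊥ (Cfsg.Inn (Cfsg.PSU n F q)) Φ.ker bot_le hle
    rw [show φ.ker = Φ.ker.map π from QuotientGroup.ker_lift _ Φ hle, hker]
    have h2 : Nat.card ((Cfsg.inndiagPSU n F q).map π) = π.ker.relIndex (Cfsg.inndiagPSU n F q) :=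
      (Subgroup.relIndex_ker _ _).symm
    rw [h2, QuotientGroup.ker_mk', relIndex_inn hF hn]

end CfsgLib.AutPSU
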