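import Cfsg.Agent.AutPSU.Sylow

/-!
The action of an automorphism fixing two transvection groups on the radical.
-/

set_option autoImplicit false
set_option linter.style.haveILetI false

open Matrix

namespace CfsgLib.AutPSU

open CfsgLib.Unitary CfsgLib.Forms

variable {F : Type*} [Field F] [Finite F] {q n : ℕ} (hF : Nat.card F = q ^ 2)
include hF

local notation "hf" => Cfsg.hermForm _ _

/-- `γ` fixes both transvection groups of a pair. -/
structure Stab (e f : Fin n → F) (H : Hyp q e f) (γ : MulAut (Cfsg.PSU n F q)) : Prop where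
  ee : (xg hF e H.ee).map γ.toMonoidHom = xg hF e H.ee
  ff : (xg hF f H.ff).map γ.toMonoidHom = xg hF f H.ff

omit [Finite F] hF in
theorem Hyp.ne_left {e f : Fin n → F} (H : Hyp q e f) : e ≠ 0 := fun h => by
  have := H.ef
  rw [h, hf_zero_left] at this
  exact zero_ne_one this

theorem Hyp.ne_right {e f : Fin n → F} (H : Hyp q e f) : f ≠ 0 := Hyp.ne_left (Hyp.swap hF H)

omit [Field F] [Finite F] hF in
theorem normalizer_map {G : Type*} [Group G] (γ : MulAut G) (X : Subgroup G) (h : X.map γ.toMonoidHom = X) :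
    (Subgroup.normalizer (X : Set G)).map γ.toMonoidHom = Subgroup.normalizer (X : Set G) := by
  have key : ∀ z, γ z ∈ X ↔ z ∈ X := fun z => by
    conv_lhs => rw [← h]
    exact Subgroup.mem_map_iff_mem (f := γ.toMonoidHom) γ.injective
  ext y
  constructor
  · rintro ⟨x, hx, rfl⟩
    refine Subgroup.mem_normalizer_iff.mpr fun z => ?_
    obtain ⟨z, rfl⟩ := γ.surjective z
    show γ z ∈ X ↔ γ x * γ z * (γ x)⁻¹ ∈ X
    rw [← map_inv, ← map_mul, ← map_mul, key, key]
    exact Subgroup.mem_normalizer_iff.mp hx z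
  · intro hy
    refine ⟨γ.symm y, Subgroup.mem_normalizer_iff.mpr fun z => ?_, γ.apply_symm_apply y⟩
    rw [← key z, ← key (_ * z * _), map_mul, map_mul, map_inv, MulEquiv.apply_symm_apply]
    exact Subgroup.mem_normalizer_iff.mp hy (γ z)

/-- Lifts of elements of the diagonal group of a pair. -/
theorem exists_diag_lift (hn : 2 ≤ n) {e f : Fin n → F} {H : Hyp q e f} {γ : MulAut (Cfsg.PSU n F q)}
    (hγ : Stab hF e f H γ) (g : Cfsg.SU n F q) :
    ∃ g' : Cfsg.SU n F q, γ (QuotientGroup.mk g) = QuotientGroup.mk g' ∧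
      (((∃ μ : F, suMat g *ᵥ e = μ • e) ∧ ∃ ν : F, suMat g *ᵥ f = ν • f) ↔
        ((∃ μ : F, suMat g' *ᵥ e = μ • e) ∧ ∃ ν : F, suMat g' *ᵥ f = ν • f)) := by
  obtain ⟨g', hg'⟩ := QuotientGroup.mk_surjective (γ (QuotientGroup.mk g))
  refine ⟨g', hg'.symm, ?_⟩
  have hfne := Hyp.ne_right hF H
  rw [← mem_normalizer_xg hF hn (Hyp.ne_left H) H.ee, ← mem_normalizer_xg hF hn hfne H.ff,
    ← mem_normalizer_xg hF hn (Hyp.ne_left H) H.ee g', ← mem_normalizer_xg hF hn hfne H.ff g', hg']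
  refine and_congr ?_ ?_
  · conv_rhs => rw [← normalizer_map γ _ hγ.ee]
    exact (Subgroup.mem_map_iff_mem (f := γ.toMonoidHom) γ.injective).symm
  · conv_rhs => rw [← normalizer_map γ _ hγ.ff]
    exact (Subgroup.mem_map_iff_mem (f := γ.toMonoidHom) γ.injective).symm

omit [Finite F] hF in
theorem skew_div {c d : F} (hc : c + c ^ q = 0) (hd : d + d ^ q = 0) : (c / d) ^ q = c / d := by
  rw [div_pow, eq_neg_of_add_eq_zero_right hc, eq_neg_of_add_eq_zero_right hd, neg_div_neg_eq]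

omit [Finite F] hF in
theorem skew_mul {c t : F} (hc : c + c ^ q = 0) (ht : t ^ q = t) : c * t + (c * t) ^ q = 0 := by
  rw [mul_comm]; exact skew_smul hc ht

omit [Finite F] hF in
theorem skew_inv {c : F} (hc : c + c ^ q = 0) : c⁻¹ + c⁻¹ ^ q = 0 := by
  rw [inv_pow, eq_neg_of_add_eq_zero_right hc, inv_neg, add_neg_cancel]

/-- The rank one relation: parameters on the two transvection groups. -/
theorem exists_params (hn : 2 ≤ n) {e f : Fin n → F} {H : Hyp q e f} {γ : MulAut (Cfsg.PSU n F q)}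
    (hγ : Stab hF e f H γ) :
    ∃ fe ff : F → F,
      (∀ c (hc : c + c ^ q = 0), ∃ hc' : fe c + fe c ^ q = 0,
        γ (QuotientGroup.mk (suTv n e c H.ee hc hF)) = QuotientGroup.mk (suTv n e (fe c) H.ee hc' hF)) ∧
      (∀ c (hc : c + c ^ q = 0), ∃ hc' : ff c + ff c ^ q = 0,
        γ (QuotientGroup.mk (suTv n f c H.ff hc hF)) = QuotientGroup.mk (suTv n f (ff c) H.ff hc' hF)) ∧
      ∀ x, x + x ^ q = 0 → x ≠ 0 → fe x * ff (-x⁻¹) = -1 := by
  classical
  have hex : ∀ (v : Fin n → F) (hv : hf q v v = 0), (xg hF v hv).map γ.toMonoidHom = xg hF v hv →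
      ∀ c, ∃ c' : F, ∀ hc : c + c ^ q = 0, ∃ hc' : c' + c' ^ q = 0,
        γ (QuotientGroup.mk (suTv n v c hv hc hF)) = QuotientGroup.mk (suTv n v c' hv hc' hF) := by
    intro v hv hmap c
    by_cases hc : c + c ^ q = 0
    · obtain ⟨c', hc', e'⟩ := (mem_xg hF).mp (hmap.le ⟨_, (mem_xg hF).mpr ⟨c, hc, rfl⟩, rfl⟩)
      exact ⟨c', fun _ => ⟨hc', e'.symm⟩⟩
    · exact ⟨0, fun h => absurd h hc⟩
  choose fe hfe using hex e H.ee hγ.ee
  choose ff hff using hex f H.ff hγ.ff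
  refine ⟨fe, ff, hfe, hff, fun x hx hx0 => ?_⟩
  have hy : -x⁻¹ + (-x⁻¹) ^ q = 0 := by
    rw [← frobQ_apply hF (-x⁻¹), map_neg, frobQ_apply]
    linear_combination -(skew_inv hx)
  obtain ⟨hx', ex⟩ := hfe x hx
  obtain ⟨hy', ey⟩ := hff (-x⁻¹) hy
  set W := suTv n e x H.ee hx hF * suTv n f (-x⁻¹) H.ff hy hF * suTv n e x H.ee hx hF with hW
  set W' := suTv n e (fe x) H.ee hx' hF * suTv n f (ff (-x⁻¹)) H.ff hy' hF * suTv n e (fe x) H.ee hx' hF with hW'
  have hact : ∀ (a b : F) (ha : a + a ^ q = 0) (hb : b + b ^ q = 0),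
      suMat (suTv n e a H.ee ha hF * suTv n f b H.ff hb hF * suTv n e a H.ee ha hF) *ᵥ e = (1 + a * b) • e + b • f := by
    intro a b ha hb
    rw [suMat_mul, suMat_mul, ← Matrix.mulVec_mulVec, ← Matrix.mulVec_mulVec]
    show Cfsg.unitaryTransvection n q e a *ᵥ (Cfsg.unitaryTransvection n q f b *ᵥ
      (Cfsg.unitaryTransvection n q e a *ᵥ e)) = _
    rw [utv_mulVec, utv_mulVec, utv_mulVec, H.ee, mul_zero, zero_smul, add_zero, herm_add_left, herm_smul_left, H.ee,
      H.ef, H.fe hF]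
    funext i
    simp only [Pi.add_apply, Pi.smul_apply, smul_eq_mul]
    ring
  have hmap : (xg hF e H.ee).map (MulAut.conj (QuotientGroup.mk W : Cfsg.PSU n F q)).toMonoidHom = xg hF f H.ff := by
    rw [map_conj_xg hF]
    have e1 : suMat W *ᵥ e = (-x⁻¹) • f := by
      rw [hW, hact, mul_neg, mul_inv_cancel₀ hx0, add_neg_cancel, zero_smul, zero_add]
    rw [xg_congr hF e1 _ (by rw [herm_smul_left, herm_smul_right hF, H.ff, mul_zero, mul_zero]),
      xg_smul hF H.ff (neg_ne_zero.mpr (inv_ne_zero hx0))]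
  have hW'eq : γ (QuotientGroup.mk W) = QuotientGroup.mk W' := by
    rw [hW, hW', QuotientGroup.mk_mul, QuotientGroup.mk_mul, map_mul, map_mul, ex, ey]; rfl
  have hcomp : γ.toMonoidHom.comp (MulAut.conj (QuotientGroup.mk W : Cfsg.PSU n F q)).toMonoidHom =
      (MulAut.conj (QuotientGroup.mk W' : Cfsg.PSU n F q)).toMonoidHom.comp γ.toMonoidHom := by
    refine MonoidHom.ext fun z => ?_
    show γ (QuotientGroup.mk W * z * (QuotientGroup.mk W)⁻¹) = QuotientGroup.mk W' * γ z * (QuotientGroup.mk W')⁻¹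
    rw [map_mul, map_mul, map_inv, hW'eq]
  have h2 := congrArg (fun X => X.map γ.toMonoidHom) hmap
  simp only [Subgroup.map_map] at h2
  rw [hcomp, ← Subgroup.map_map, hγ.ee, hγ.ff, map_conj_xg hF] at h2
  obtain ⟨l, hl⟩ := span_of_xg_le hF hn (su_mulVec_ne_zero W' (Hyp.ne_left H)) h2.le
  rw [hW', hact] at hl
  have h3 := congrArg (fun v => hf q v f) hl
  simp only [herm_add_left, herm_smul_left, H.ef, H.ff, mul_zero, mul_one, add_zero] at h3
  linear_combination h3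

/-- The map on the radical induced by `γ`. -/
def RMap (e f : Fin n → F) (γ : MulAut (Cfsg.PSU n F q)) (ψ : (Fin n → F) → (Fin n → F)) : Prop :=
  (∀ a, InW q e f a → InW q e f (ψ a)) ∧
  ∀ (A : Cfsg.SU n F q) (a : Fin n → F) (s : F), InW q e f a → suMat A = eichMat q e a s →
    ∃ (A' : Cfsg.SU n F q) (s' : F), suMat A' = eichMat q e (ψ a) s' ∧
      γ (QuotientGroup.mk A) = QuotientGroup.mk A'

theorem eich_unique (hn : 2 ≤ n) {e f : Fin n → F} (H : Hyp q e f) {a a' : Fin n → F} (ha : InW q e f a)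
    (ha' : InW q e f a') {s s' : F} {A A' : Cfsg.SU n F q} (hA : suMat A = eichMat q e a s)
    (hA' : suMat A' = eichMat q e a' s') (h : (QuotientGroup.mk A : Cfsg.PSU n F q) = QuotientGroup.mk A') :
    a = a' ∧ s = s' := by
  obtain ⟨p, k, hp, hc, -, -⟩ := exists_prime hF
  haveI := hc
  have := eq_of_mk_eq hF hn hp (eich_pow_eq_one hF H.ee ha.1 hA) (eich_pow_eq_one hF H.ee ha'.1 hA') h
  exact eichMat_injective hF H ha ha' (by rw [← hA, ← hA', this])

theorem exists_rmap (hn : 3 ≤ n) {e f : Fin n → F} {H : Hyp q e f} {γ : MulAut (Cfsg.PSU n F q)}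
    (hγ : Stab hF e f H γ) : ∃ ψ, RMap e f γ ψ := by
  classical
  have hn2 : 2 ≤ n := by omega
  obtain ⟨p, k, hp, hc, -, -⟩ := exists_prime hF
  haveI := hc
  haveI := Fact.mk hp
  set π := QuotientGroup.mk' (Subgroup.center (Cfsg.SU n F q))
  set Q := (radical hF e H.ee).map π with hQ
  set N := Subgroup.normalizer (xg hF e H.ee : Set (Cfsg.PSU n F q))
  have hQN : Q ≤ N := by
    rintro _ ⟨A, hA, rfl⟩
    obtain ⟨a, s, ha, hA⟩ := (mem_radical hF H).mp hA
    refine (mem_normalizer_xg hF hn2 (Hyp.ne_left H) H.ee A).mpr ⟨1, ?_⟩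
    rw [hA, eichMat_mulVec H.ee, H.ee, hf_swap_zero hF ha.1]; simp
  have hle : Q.map γ.toMonoidHom ≤ Q := by
    refine le_radical hF hn H _ (((radical_pGroup hF (p := p) H.ee).map π).map _) ?_ ?_
    · rw [← normalizer_map γ _ hγ.ee]
      exact Subgroup.map_mono hQN
    · intro x hx
      rw [← normalizer_map γ _ hγ.ee] at hx
      obtain ⟨y, hy, rfl⟩ := hx
      have hy' := radical_normalized hF hn2 (Hyp.ne_left H) H.ee hy
      refine Subgroup.mem_normalizer_iff.mpr fun z => ?_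
      obtain ⟨z, rfl⟩ := γ.surjective z
      show γ z ∈ Q.map γ.toMonoidHom ↔ γ y * γ z * (γ y)⁻¹ ∈ Q.map γ.toMonoidHom
      rw [← map_inv, ← map_mul, ← map_mul, ← MulEquiv.coe_toMonoidHom, Subgroup.mem_map_iff_mem γ.injective,
        Subgroup.mem_map_iff_mem γ.injective]
      exact Subgroup.mem_normalizer_iff.mp hy' z
  have hex : ∀ a : Fin n → F, ∃ a' : Fin n → F, InW q e f a → InW q e f a' ∧ ∀ (A : Cfsg.SU n F q) (s : F),
      suMat A = eichMat q e a s → ∃ (A' : Cfsg.SU n F q) (s' : F), suMat A' = eichMat q e a' s' ∧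
        γ (QuotientGroup.mk A) = QuotientGroup.mk A' := by
    intro a
    by_cases ha : InW q e f a
    swap
    · exact ⟨0, fun h => absurd h ha⟩
    obtain ⟨A, hA, s, hs⟩ := exists_radical_elem hF H ha
    obtain ⟨A', hA', e'⟩ := hle ⟨_, ⟨A, hA, rfl⟩, rfl⟩
    obtain ⟨a', s', ha', hs'⟩ := (mem_radical hF H).mp hA'
    refine ⟨a', fun _ => ⟨ha', fun B r hB => ?_⟩⟩
    obtain ⟨T, hT⟩ : ∃ T, B = A * T := ⟨A⁻¹ * B, (mul_inv_cancel_left A B).symm⟩
    have hcomp := eichMat_mul hF H.ee ha.1 (hf_zero_left e) s (r - s)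
    rw [add_zero, hf_zero_left, sub_zero, add_sub_cancel, ← hs, ← hB, hT, suMat_mul] at hcomp
    have hTmat : suMat T = Cfsg.unitaryTransvection n q e (r - s) := by
      rw [← eichMat_zero e (r - s) (q_ne_zero hF)]
      exact (mul_left_injective_aux (A := A) hcomp).symm
    have hTskew : r - s + (r - s) ^ q = 0 :=
      (utv_preserves_iff hF (Hyp.ne_left H) H.ee _).mp fun x y => by rw [← hTmat]; exact su_preserves T x y
    obtain ⟨c', hc', eT⟩ := (mem_xg hF).mp (hγ.ee.le ⟨_, (mem_xg hF).mpr ⟨_, hTskew, rfl⟩, rfl⟩)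
    refine ⟨A' * suTv n e c' H.ee hc' hF, s' + c', ?_, ?_⟩
    · rw [suMat_mul, hs', show suMat (suTv n e c' H.ee hc' hF) = eichMat q e 0 c' from
        (eichMat_zero e c' (q_ne_zero hF)).symm, eichMat_mul hF H.ee ha'.1 (hf_zero_left e), add_zero, hf_zero_left,
        sub_zero]
    · rw [hT, QuotientGroup.mk_mul, map_mul, QuotientGroup.mk_mul]
      congr 1
      · exact e'.symm
      · rw [suMat_inj (t := suTv n e (r - s) H.ee hTskew hF) hTmat]
        exact eT.symm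
  choose ψ hψ using hex
  exact ⟨ψ, fun a ha => (hψ a ha).1, fun A a s ha hA => (hψ a ha).2 A s hA⟩
where
  /-- Cancellation on the left. -/
  mul_left_injective_aux {A : Cfsg.SU n F q} {X Y : Matrix (Fin n) (Fin n) F} (h : suMat A * X = suMat A * Y) :
      X = Y := by
    have := congrArg (fun M => suMat A⁻¹ * M) h
    simpa [← mul_assoc, ← suMat_mul, suMat_one] using this

theorem rmap_add (hn : 2 ≤ n) {e f : Fin n → F} (H : Hyp q e f) {γ : MulAut (Cfsg.PSU n F q)}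
    {ψ : (Fin n → F) → (Fin n → F)} (hψ : RMap e f γ ψ) {a b : Fin n → F} (ha : InW q e f a)
    (hb : InW q e f b) : ψ (a + b) = ψ a + ψ b := by
  have hab : InW q e f (a + b) :=
    ⟨by rw [herm_add_left, ha.1, hb.1, add_zero], by rw [herm_add_left, ha.2, hb.2, add_zero]⟩
  obtain ⟨A, -, s, hs⟩ := exists_radical_elem hF H ha
  obtain ⟨B, -, r, hr⟩ := exists_radical_elem hF H hb
  obtain ⟨A', s', hA', eA⟩ := hψ.2 A a s ha hs
  obtain ⟨B', r', hB', eB⟩ := hψ.2 B b r hb hr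
  obtain ⟨C', u', hC', eC⟩ := hψ.2 (A * B) (a + b) _ hab
    (by rw [suMat_mul, hs, hr, eichMat_mul hF H.ee ha.1 hb.1])
  have ha' := hψ.1 a ha
  have hb' := hψ.1 b hb
  refine (eich_unique hF hn H (hψ.1 _ hab) ⟨?_, ?_⟩ hC'
    (A' := A' * B') (by rw [suMat_mul, hA', hB', eichMat_mul hF H.ee ha'.1 hb'.1]) ?_).1
  · show hf q (ψ a + ψ b) e = 0
    rw [herm_add_left, ha'.1, hb'.1, add_zero]
  · show hf q (ψ a + ψ b) f = 0
    rw [herm_add_left, ha'.2, hb'.2, add_zero]
  · rw [← eC, QuotientGroup.mk_mul, map_mul, eA, eB]; rfl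

theorem rmap_injective (hn : 2 ≤ n) {e f : Fin n → F} {H : Hyp q e f} {γ : MulAut (Cfsg.PSU n F q)}
    (hγ : Stab hF e f H γ) {ψ : (Fin n → F) → (Fin n → F)} (hψ : RMap e f γ ψ) {a b : Fin n → F}
    (ha : InW q e f a) (hb : InW q e f b) (h : ψ a = ψ b) : a = b := by
  obtain ⟨A, -, s, hs⟩ := exists_radical_elem hF H ha
  obtain ⟨B, -, r, hr⟩ := exists_radical_elem hF H hb
  obtain ⟨A', s', hA', eA⟩ := hψ.2 A a s ha hs
  obtain ⟨B', r', hB', eB⟩ := hψ.2 B b r hb hr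
  rw [← h] at hB'
  set D := A'⁻¹ * B' with hD
  have hDx : (QuotientGroup.mk D : Cfsg.PSU n F q) ∈ xg hF e H.ee := by
    have hmul := eichMat_mul hF H.ee (hψ.1 a ha).1 (hf_zero_left e) s' (r' - s')
    rw [add_zero, hf_zero_left, sub_zero, add_sub_cancel] at hmul
    have e1 : suMat D = Cfsg.unitaryTransvection n q e (r' - s') := by
      have e2 : suMat B' = suMat A' * eichMat q e 0 (r' - s') := by rw [hA', hmul, hB']
      rw [hD, suMat_mul, e2, ← mul_assoc, ← suMat_mul, inv_mul_cancel, suMat_one, one_mul,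
        eichMat_zero e _ (q_ne_zero hF)]
    exact ⟨D, ⟨_, (utv_preserves_iff hF (Hyp.ne_left H) H.ee _).mp
      fun x y => by rw [← e1]; exact su_preserves D x y, e1⟩, rfl⟩
  rw [← hγ.ee] at hDx
  obtain ⟨z, hz, ez⟩ := hDx
  obtain ⟨c, hc, rfl⟩ := (mem_xg hF).mp hz
  have hB : (QuotientGroup.mk B : Cfsg.PSU n F q) = QuotientGroup.mk (A * suTv n e c H.ee hc hF) := by
    refine γ.injective ?_
    rw [eB, QuotientGroup.mk_mul, map_mul, eA, show B' = A' * D from (mul_inv_cancel_left A' B').symm,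
      QuotientGroup.mk_mul]
    congr 1
    exact ez.symm
  exact (eich_unique hF hn H hb ha hr (A' := A * suTv n e c H.ee hc hF) (by
    rw [suMat_mul, hs, show suMat (suTv n e c H.ee hc hF) = eichMat q e 0 c from
      (eichMat_zero e c (q_ne_zero hF)).symm, eichMat_mul hF H.ee ha.1 (hf_zero_left e), add_zero]) hB).1.symm

/-- Equivariance. -/
theorem rmap_conj (hn : 2 ≤ n) {e f : Fin n → F} (H : Hyp q e f) {γ : MulAut (Cfsg.PSU n F q)}
    {ψ : (Fin n → F) → (Fin n → F)} (hψ : RMap e f γ ψ) {g g' : Cfsg.SU n F q}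
    (hgg : γ (QuotientGroup.mk g) = QuotientGroup.mk g') {μ ν μ' ν' : F} (hge : suMat g *ᵥ e = μ • e)
    (hgf : suMat g *ᵥ f = ν • f) (hge' : suMat g' *ᵥ e = μ' • e) (hgf' : suMat g' *ᵥ f = ν' • f) {a : Fin n → F}
    (ha : InW q e f a) : ψ (μ ^ q • (suMat g *ᵥ a)) = μ' ^ q • (suMat g' *ᵥ ψ a) := by
  have hW : ∀ (k : Cfsg.SU n F q) (m l : F), suMat k *ᵥ e = m • e → suMat k *ᵥ f = l • f →
      ∀ x, InW q e f x → InW q e f (m ^ q • (suMat k *ᵥ x)) := by
    intro k m l hke hkf x hx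
    have hm : m ≠ 0 := fun h => su_mulVec_ne_zero k (Hyp.ne_left H) (by rw [hke, h, zero_smul])
    have hl : l ≠ 0 := fun h => su_mulVec_ne_zero k (Hyp.ne_right hF H) (by rw [hkf, h, zero_smul])
    constructor
    · show hf q (m ^ q • (suMat k *ᵥ x)) e = 0
      have h := su_preserves k x e
      rw [hke, herm_smul_right hF, hx.1] at h
      rw [herm_smul_left, (mul_eq_zero.mp h).resolve_left (pow_ne_zero _ hm), mul_zero]
    · show hf q (m ^ q • (suMat k *ᵥ x)) f = 0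
      have h := su_preserves k x f
      rw [hkf, herm_smul_right hF, hx.2] at h
      rw [herm_smul_left, (mul_eq_zero.mp h).resolve_left (pow_ne_zero _ hl), mul_zero]
  obtain ⟨A, -, s, hs⟩ := exists_radical_elem hF H ha
  obtain ⟨A', s', hA', eA⟩ := hψ.2 A a s ha hs
  have hconj : ∀ (k : Cfsg.SU n F q) (m : F) (x : Fin n → F) (r : F) (X : Cfsg.SU n F q),
      suMat k *ᵥ e = m • e → suMat X = eichMat q e x r →
      suMat (k * X * k⁻¹) = eichMat q e (m ^ q • (suMat k *ᵥ x)) (m ^ (q + 1) * r) := by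
    intro k m x r X hke hX
    have h := eichMat_conj (suToGU k) H.ee x r
    have hi : (((suToGU k : GL (Fin n) F)⁻¹ : GL (Fin n) F) : Matrix (Fin n) (Fin n) F) = suMat k⁻¹ := by
      rw [← InvMemClass.coe_inv, ← map_inv]; rfl
    rw [hi] at h
    rw [suMat_mul, suMat_mul, hX, ← eichMat_smul hF H.ee, ← hke]
    exact h
  obtain ⟨C, u, hC, eC⟩ := hψ.2 (g * A * g⁻¹) _ _ (hW g μ ν hge hgf a ha) (hconj g μ a s A hge hs)
  refine (eich_unique hF hn H (hψ.1 _ (hW g μ ν hge hgf a ha)) (hW g' μ' ν' hge' hgf' _ (hψ.1 a ha)) hC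
    (hconj g' μ' _ s' A' hge' hA') ?_).1
  rw [← eC, QuotientGroup.mk_mul, QuotientGroup.mk_mul, map_mul, map_mul, QuotientGroup.mk_inv, map_inv, hgg, eA]
  rfl

end CfsgLib.AutPSU
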