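import Cfsg.Agent.AutPSU.Semilinear
import Cfsg.Agent.Unitary.Simple
import Cfsg.Agent.AutPSp.RootGroup

/-!
Unipotent elements of `SU_n` attached to an isotropic vector, and their images in `PSU_n`.
-/

set_option autoImplicit false
set_option linter.style.haveILetI false

open Matrix

namespace CfsgLib.AutPSU

open CfsgLib.Unitary CfsgLib.Forms

variable {F : Type*} [Field F] {q n : ℕ}

local notation "hf" => Cfsg.hermForm _ _

/-- A hyperbolic pair. -/
structure Hyp (q : ℕ) {n : ℕ} (e f : Fin n → F) : Prop where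
  ee : hf q e e = 0
  ff : hf q f f = 0
  ef : hf q e f = 1

/-- Orthogonal to a pair. -/
def InW (q : ℕ) {n : ℕ} (e f a : Fin n → F) : Prop := hf q a e = 0 ∧ hf q a f = 0

theorem hf_zero_left (v : Fin n → F) : hf q (0 : Fin n → F) v = 0 := by
  simp [Cfsg.hermForm]

theorem eichMat_zero [Finite F] (v : Fin n → F) (c : F) (hq : q ≠ 0) :
    eichMat q v 0 c = Cfsg.unitaryTransvection n q v c := by
  refine Matrix.ext_iff_smul.mpr fun x => ?_
  rw [Matrix.smul_eq_mulVec, Matrix.smul_eq_mulVec, utv_mulVec]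
  simp only [eichMat, ← Matrix.mulVec_mulVec, Matrix.add_mulVec, Matrix.one_mulVec, Matrix.vecMulVec_mulVec,
    op_smul_eq_smul, sub_dotProduct, smul_dotProduct, smul_eq_mul, barVec_dot, smul_zero, add_zero]
  simp [Cfsg.hermForm, zero_pow hq]

theorem eichMat_map (σ : F ≃+* F) (v a : Fin n → F) (s : F) :
    (eichMat q v a s).map σ = eichMat q (fun i => σ (v i)) (fun i => σ (a i)) (σ s) := by
  simp only [eichMat]
  rw [Matrix.map_mul]
  congr 1
  · ext i j
    simp [barVec, Matrix.vecMulVec, Matrix.one_apply, apply_ite σ, map_pow]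
  · ext i j
    simp [barVec, Matrix.vecMulVec, Matrix.one_apply, apply_ite σ, map_pow]

theorem utv_map (σ : F ≃+* F) (v : Fin n → F) (c : F) :
    (Cfsg.unitaryTransvection n q v c).map σ = Cfsg.unitaryTransvection n q (fun i => σ (v i)) (σ c) := by
  ext i j
  simp [Cfsg.unitaryTransvection, Matrix.vecMulVec, Matrix.one_apply, apply_ite σ, map_pow]

variable [Finite F]

/-- Preservation by `GU` in matrix form. -/
theorem gu_preserves (g : ↥(Cfsg.GU n F q)) (x y : Fin n → F) :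
    hf q (((g : GL (Fin n) F) : Matrix (Fin n) (Fin n) F) *ᵥ x) (((g : GL (Fin n) F) : Matrix (Fin n) (Fin n) F) *ᵥ y) =
      hf q x y := mem_GU_iff.mp g.2 x y

theorem gu_cancel (g : ↥(Cfsg.GU n F q)) (x : Fin n → F) :
    ((g : GL (Fin n) F) : Matrix (Fin n) (Fin n) F) *ᵥ
      ((((g : GL (Fin n) F)⁻¹ : GL (Fin n) F) : Matrix (Fin n) (Fin n) F) *ᵥ x) = x := by
  rw [Matrix.mulVec_mulVec, ← Units.val_mul, mul_inv_cancel, Units.val_one, Matrix.one_mulVec]

theorem gu_injective (g : ↥(Cfsg.GU n F q)) :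
    Function.Injective fun x : Fin n → F => ((g : GL (Fin n) F) : Matrix (Fin n) (Fin n) F) *ᵥ x := fun x y e => by
  have := congrArg (fun z => (((g : GL (Fin n) F)⁻¹ : GL (Fin n) F) : Matrix (Fin n) (Fin n) F) *ᵥ z) e
  simpa [Matrix.mulVec_mulVec, ← Units.val_mul] using this

theorem eichMat_conj (g : ↥(Cfsg.GU n F q)) {v : Fin n → F} (hv : hf q v v = 0) (a : Fin n → F) (s : F) :
    ((g : GL (Fin n) F) : Matrix (Fin n) (Fin n) F) * eichMat q v a s *
      (((g : GL (Fin n) F)⁻¹ : GL (Fin n) F) : Matrix (Fin n) (Fin n) F) =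
      eichMat q (((g : GL (Fin n) F) : Matrix (Fin n) (Fin n) F) *ᵥ v)
        (((g : GL (Fin n) F) : Matrix (Fin n) (Fin n) F) *ᵥ a) s := by
  refine Matrix.ext_iff_smul.mpr fun x => ?_
  obtain ⟨y, rfl⟩ : ∃ y, ((g : GL (Fin n) F) : Matrix (Fin n) (Fin n) F) *ᵥ y = x := ⟨_, gu_cancel g x⟩
  rw [Matrix.smul_eq_mulVec, Matrix.smul_eq_mulVec, eichMat_mulVec (by rw [gu_preserves]; exact hv),
    gu_preserves, gu_preserves, ← Matrix.mulVec_mulVec, ← Matrix.mulVec_mulVec,
    Matrix.mulVec_mulVec y, ← Units.val_mul, inv_mul_cancel, Units.val_one, Matrix.one_mulVec,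
    eichMat_mulVec hv, Matrix.mulVec_add, Matrix.mulVec_add, Matrix.mulVec_smul, Matrix.mulVec_smul]

theorem utv_gu_conj (g : ↥(Cfsg.GU n F q)) (v : Fin n → F) (c : F) :
    ((g : GL (Fin n) F) : Matrix (Fin n) (Fin n) F) * Cfsg.unitaryTransvection n q v c *
      (((g : GL (Fin n) F)⁻¹ : GL (Fin n) F) : Matrix (Fin n) (Fin n) F) =
      Cfsg.unitaryTransvection n q (((g : GL (Fin n) F) : Matrix (Fin n) (Fin n) F) *ᵥ v) c := by
  refine Matrix.ext_iff_smul.mpr fun x => ?_
  obtain ⟨y, rfl⟩ : ∃ y, ((g : GL (Fin n) F) : Matrix (Fin n) (Fin n) F) *ᵥ y = x := ⟨_, gu_cancel g x⟩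
  rw [Matrix.smul_eq_mulVec, Matrix.smul_eq_mulVec, utv_mulVec, gu_preserves, ← Matrix.mulVec_mulVec,
    ← Matrix.mulVec_mulVec, Matrix.mulVec_mulVec y, ← Units.val_mul, inv_mul_cancel, Units.val_one, Matrix.one_mulVec,
    utv_mulVec, Matrix.mulVec_add, Matrix.mulVec_smul]

variable (hF : Nat.card F = q ^ 2)
include hF

theorem q_ne_zero : q ≠ 0 := by have := two_le_q hF; omega

omit hF in
theorem hf_add_left (u v w : Fin n → F) : hf q (u + v) w = hf q u w + hf q v w := herm_add_left n u v w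

theorem hf_swap_zero {u v : Fin n → F} (h : hf q u v = 0) : hf q v u = 0 := by
  rw [herm_swap hF u v, h, zero_pow (q_ne_zero hF)]

theorem Hyp.fe {e f : Fin n → F} (H : Hyp q e f) : hf q f e = 1 := by
  rw [herm_swap hF e f]
  show hf q e f ^ q = 1
  rw [H.ef, one_pow]

theorem Hyp.swap {e f : Fin n → F} (H : Hyp q e f) : Hyp q f e := ⟨H.ff, H.ee, H.fe hF⟩

/-- Component orthogonal to a pair. -/
theorem inW_proj {e f : Fin n → F} (H : Hyp q e f) (x : Fin n → F) :
    InW q e f (x - hf q x f • e - hf q x e • f) := by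
  constructor <;> simp only [herm_sub_left hF, herm_smul_left]
  · show hf q x e - hf q x f * hf q e e - hf q x e * hf q f e = 0
    rw [H.ee, H.fe hF]; ring
  · show hf q x f - hf q x f * hf q e f - hf q x e * hf q f f = 0
    rw [H.ef, H.ff]; ring

theorem eichMat_mul {v a b : Fin n → F} (hv : hf q v v = 0) (hav : hf q a v = 0) (hbv : hf q b v = 0) (s r : F) :
    eichMat q v a s * eichMat q v b r = eichMat q v (a + b) (s + r - hf q b a) := by
  have hva := hf_swap_zero hF hav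
  refine Matrix.ext_iff_smul.mpr fun x => ?_
  rw [Matrix.smul_eq_mulVec, Matrix.smul_eq_mulVec, ← Matrix.mulVec_mulVec, eichMat_mulVec hv, eichMat_mulVec hv,
    eichMat_mulVec hv]
  simp only [herm_add_left, herm_smul_left, herm_add_right hF] at *
  simp only [hv, hbv, hva]
  funext i
  simp only [Pi.add_apply, Pi.smul_apply, smul_eq_mul]
  ring

theorem eichMat_smul {v : Fin n → F} (hv : hf q v v = 0) (μ : F) (a : Fin n → F) (s : F) :
    eichMat q (μ • v) a s = eichMat q v (μ ^ q • a) (μ ^ (q + 1) * s) := by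
  have hμv : hf q (μ • v) (μ • v) = 0 := by
    rw [herm_smul_left, herm_smul_right hF]
    show μ * (μ ^ q * hf q v v) = 0
    rw [hv, mul_zero, mul_zero]
  refine Matrix.ext_iff_smul.mpr fun x => ?_
  rw [Matrix.smul_eq_mulVec, Matrix.smul_eq_mulVec, eichMat_mulVec hμv, eichMat_mulVec hv]
  simp only [herm_smul_right hF, pow_q_q hF]
  funext i
  simp only [Pi.add_apply, Pi.smul_apply, smul_eq_mul]
  ring

theorem eichMat_apply_f {e f : Fin n → F} (H : Hyp q e f) {a : Fin n → F} (ha : InW q e f a) (s : F) :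
    eichMat q e a s *ᵥ f = f + a + s • e := by
  rw [eichMat_mulVec H.ee]
  have h1 : hf q f e = 1 := H.fe hF
  have h2 : hf q f a = 0 := hf_swap_zero hF ha.2
  rw [h1, h2, one_smul, mul_one, sub_zero]

theorem eichMat_injective {e f : Fin n → F} (H : Hyp q e f) {a b : Fin n → F} (ha : InW q e f a) (hb : InW q e f b)
    {s r : F} (h : eichMat q e a s = eichMat q e b r) : a = b ∧ s = r := by
  have h1 := congrArg (fun M => M *ᵥ f) h
  simp only [eichMat_apply_f hF H ha, eichMat_apply_f hF H hb] at h1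
  have hs : s = r := by
    have h2 := congrArg (fun z => hf q z f) h1
    simp only [herm_add_left, herm_smul_left] at h2
    change hf q f f + hf q a f + s * hf q e f = hf q f f + hf q b f + r * hf q e f at h2
    rw [H.ff, H.ef, ha.2, hb.2] at h2
    simpa using h2
  subst hs
  exact ⟨add_left_cancel (add_right_cancel h1), rfl⟩

theorem utv_eq_span {u v : Fin n → F} {c d : F} (hu : u ≠ 0) (hc : c ≠ 0)
    (h : Cfsg.unitaryTransvection n q u c = Cfsg.unitaryTransvection n q v d) : ∃ l : F, u = l • v := by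
  obtain ⟨x, hx⟩ : ∃ x, hf q x u ≠ 0 := by
    by_contra hc'; push Not at hc'; exact hu (uForm_nondeg hF n u hc')
  have h1 := congrArg (fun M => M *ᵥ x) h
  simp only [utv_mulVec, add_right_inj] at h1
  refine ⟨(c * hf q x u)⁻¹ * (d * hf q x v), ?_⟩
  rw [← smul_smul, ← h1, smul_smul, inv_mul_cancel₀ (mul_ne_zero hc hx), one_smul]

omit hF in
theorem utv_zero (v : Fin n → F) : Cfsg.unitaryTransvection n q v 0 = 1 := by
  simp [Cfsg.unitaryTransvection]

theorem utv_injective {v : Fin n → F} (hv : v ≠ 0) {c d : F}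
    (h : Cfsg.unitaryTransvection n q v c = Cfsg.unitaryTransvection n q v d) : c = d := by
  obtain ⟨x, hx⟩ : ∃ x, hf q x v ≠ 0 := by
    by_contra hc'; push Not at hc'; exact hv (uForm_nondeg hF n v hc')
  have h1 := congrArg (fun M => M *ᵥ x) h
  simp only [utv_mulVec, add_right_inj] at h1
  exact mul_right_cancel₀ hx (smul_left_injective F hv h1)

omit hF in
theorem suMat_pow (A : Cfsg.SU n F q) (k : ℕ) : suMat (A ^ k) = suMat A ^ k := by
  induction k with
  | zero => rw [pow_zero, pow_zero, suMat_one]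
  | succ k ih => rw [pow_succ, pow_succ, suMat_mul, ih]

theorem eichMat_pow {v a : Fin n → F} (hv : hf q v v = 0) (hav : hf q a v = 0) (s : F) (k : ℕ) :
    ∃ s', eichMat q v a s ^ k = eichMat q v ((k : F) • a) s' ∧ (a = 0 → s' = (k : F) * s) := by
  induction k with
  | zero =>
    exact ⟨0, by rw [pow_zero, Nat.cast_zero, zero_smul, eichMat_zero v 0 (q_ne_zero hF), utv_zero], fun _ => by simp⟩
  | succ k ih =>
    obtain ⟨s', h1, h2⟩ := ih
    refine ⟨s' + s - hf q a ((k : F) • a), ?_, fun e => ?_⟩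
    · rw [pow_succ, h1, eichMat_mul hF hv (by rw [herm_smul_left]; show _ * hf q a v = 0; rw [hav, mul_zero]) hav]
      congr 1
      rw [Nat.cast_succ, add_smul, one_smul]
    · rw [h2 e, e, hf_zero_left]; push_cast; ring

/-- The transvection group at an isotropic vector, in `SU`. -/
def rootSU (v : Fin n → F) (hv : hf q v v = 0) : Subgroup (Cfsg.SU n F q) where
  carrier := {A | ∃ c, c + c ^ q = 0 ∧ suMat A = Cfsg.unitaryTransvection n q v c}
  mul_mem' := by
    rintro A B ⟨c, hc, hA⟩ ⟨d, hd, hB⟩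
    refine ⟨c + d, by rw [add_pow_q hF]; linear_combination hc + hd, ?_⟩
    rw [suMat_mul, hA, hB, ← eichMat_zero v c (q_ne_zero hF), ← eichMat_zero v d (q_ne_zero hF),
      eichMat_mul hF hv (hf_zero_left v) (hf_zero_left v), ← eichMat_zero v _ (q_ne_zero hF), add_zero, hf_zero_left,
      sub_zero]
  one_mem' := ⟨0, by rw [zero_pow (q_ne_zero hF), add_zero], by rw [suMat_one, utv_zero]⟩
  inv_mem' := by
    rintro A ⟨c, hc, hA⟩
    refine ⟨-c, by rw [← frobQ_apply hF, map_neg, frobQ_apply]; linear_combination -hc, ?_⟩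
    refine Matrix.ext_iff_smul.mpr fun x => ?_
    rw [Matrix.smul_eq_mulVec, Matrix.smul_eq_mulVec, utv_mulVec]
    have h1 : suMat A *ᵥ (x + (-c * hf q x v) • v) = x := by
      rw [hA, utv_mulVec, herm_add_left, herm_smul_left]
      show x + (-c * hf q x v) • v + (c * (hf q x v + -c * hf q x v * hf q v v)) • v = x
      rw [hv]
      module
    conv_lhs => rw [← h1]
    rw [su_inv_mulVec]

/-- The transvection group at an isotropic vector, in `PSU`. -/
def xg (v : Fin n → F) (hv : hf q v v = 0) : Subgroup (Cfsg.PSU n F q) :=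
  (rootSU hF v hv).map (QuotientGroup.mk' (Subgroup.center (Cfsg.SU n F q)))

theorem mem_xg {v : Fin n → F} {hv : hf q v v = 0} {x : Cfsg.PSU n F q} :
    x ∈ xg hF v hv ↔ ∃ (c : F) (hc : c + c ^ q = 0), QuotientGroup.mk (suTv n v c hv hc hF) = x := by
  constructor
  · rintro ⟨A, ⟨c, hc, hA⟩, rfl⟩
    exact ⟨c, hc, congrArg _ (suMat_inj hA.symm)⟩
  · rintro ⟨c, hc, rfl⟩
    exact ⟨_, ⟨c, hc, rfl⟩, rfl⟩

/-- The characteristic. -/
theorem exists_prime : ∃ p k : ℕ, p.Prime ∧ CharP F p ∧ q = p ^ k ∧ k ≠ 0 := by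
  obtain ⟨p, k, h1, h2, h3⟩ := exists_charP_pow hF
  refine ⟨p, k, h2, h1, h3, fun e => ?_⟩
  have := two_le_q hF
  rw [h3, e, pow_zero] at this
  omega

/-- Lifting of `p`-elements is unique. -/
theorem eq_of_mk_eq (hn : 2 ≤ n) {p : ℕ} (hp : p.Prime) [hcp : CharP F p] {A B : Cfsg.SU n F q} {k : ℕ}
    (hA : A ^ p ^ k = 1) (hB : B ^ p ^ k = 1) (h : (QuotientGroup.mk A : Cfsg.PSU n F q) = QuotientGroup.mk B) :
    A = B := by
  have hz : A⁻¹ * B ∈ Subgroup.center (Cfsg.SU n F q) := QuotientGroup.eq.mp h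
  set z := A⁻¹ * B
  have hB' : B = A * z := (mul_inv_cancel_left A B).symm
  rw [hB', (show Commute A z from Subgroup.mem_center_iff.mp hz A).mul_pow, hA, one_mul] at hB
  have hg : z ^ Nat.gcd n (q + 1) = 1 := by
    rw [← card_center_SU hF hn]
    exact congrArg Subtype.val (pow_card_eq_one' (x := (⟨z, hz⟩ : Subgroup.center (Cfsg.SU n F q))))
  have hcop : Nat.Coprime (p ^ k) (Nat.gcd n (q + 1)) := by
    obtain ⟨p', j, hp', hc', hj, hj0⟩ := exists_prime hF
    have hpp : p' = p := CharP.eq F hc' hcp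
    subst hpp
    refine Nat.Coprime.pow_left k ((Nat.Prime.coprime_iff_not_dvd hp).mpr fun hd => ?_)
    have h1 : p' ∣ q + 1 := hd.trans (Nat.gcd_dvd_right n (q + 1))
    have h2 : p' ∣ q := hj ▸ dvd_pow_self p' hj0
    exact hp.ne_one (Nat.dvd_one.mp ((Nat.dvd_add_right h2).mp h1))
  have hz1 : z = 1 := by
    have := Nat.Coprime.eq_one_of_dvd (Nat.Coprime.coprime_dvd_left (orderOf_dvd_of_pow_eq_one hB) hcop)
      (orderOf_dvd_of_pow_eq_one hg)
    exact orderOf_eq_one_iff.mp this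
  rw [hB', hz1, mul_one]

theorem eich_pow_eq_one {p : ℕ} [CharP F p] {v a : Fin n → F} {s : F} (hv : hf q v v = 0) (hav : hf q a v = 0)
    {A : Cfsg.SU n F q} (hA : suMat A = eichMat q v a s) : A ^ p ^ 2 = 1 := by
  refine suMat_inj ?_
  obtain ⟨s1, h1, -⟩ := eichMat_pow hF hv hav s p
  obtain ⟨s2, h2, h3⟩ := eichMat_pow hF hv (hf_zero_left v) s1 p
  rw [suMat_pow, hA, pow_two, pow_mul, h1, CharP.cast_eq_zero, zero_smul, h2, h3 rfl, CharP.cast_eq_zero, zero_mul,
    zero_smul, eichMat_zero v 0 (q_ne_zero hF), utv_zero, suMat_one]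

theorem utv_pow_eq_one {p : ℕ} [CharP F p] {v : Fin n → F} {c : F} (hv : hf q v v = 0)
    {A : Cfsg.SU n F q} (hA : suMat A = Cfsg.unitaryTransvection n q v c) : A ^ p ^ 2 = 1 :=
  eich_pow_eq_one hF hv (hf_zero_left v) (hA.trans (eichMat_zero v c (q_ne_zero hF)).symm)

/-- Two elements of transvection groups with equal images. -/
theorem mk_utv_eq (hn : 2 ≤ n) {u v : Fin n → F} {c d : F} (hu : hf q u u = 0) (hv : hf q v v = 0)
    {A B : Cfsg.SU n F q} (hA : suMat A = Cfsg.unitaryTransvection n q u c)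
    (hB : suMat B = Cfsg.unitaryTransvection n q v d)
    (h : (QuotientGroup.mk A : Cfsg.PSU n F q) = QuotientGroup.mk B) :
    Cfsg.unitaryTransvection n q u c = Cfsg.unitaryTransvection n q v d := by
  obtain ⟨p, k, hp, hc, -, -⟩ := exists_prime hF
  haveI := hc
  rw [← hA, ← hB, eq_of_mk_eq hF hn hp (utv_pow_eq_one hF hu hA) (utv_pow_eq_one hF hv hB) h]

omit [Finite F] hF in
theorem mk_conj (k A : Cfsg.SU n F q) :
    MulAut.conj (QuotientGroup.mk k : Cfsg.PSU n F q) (QuotientGroup.mk A) = QuotientGroup.mk (k * A * k⁻¹) := rfl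

theorem span_of_xg_le (hn : 2 ≤ n) {u v : Fin n → F} {hu : hf q u u = 0} {hv : hf q v v = 0} (hu0 : u ≠ 0)
    (h : xg hF u hu ≤ xg hF v hv) : ∃ l : F, u = l • v := by
  obtain ⟨c, hc0, hc⟩ := exists_skew hF
  obtain ⟨d, hd, e⟩ := (mem_xg hF).mp (h ((mem_xg hF).mpr ⟨c, hc, rfl⟩))
  exact utv_eq_span hF hu0 hc0 (mk_utv_eq hF hn hu hv (A := suTv n u c hu hc hF) rfl rfl e.symm)

theorem xg_smul {v : Fin n → F} (hv : hf q v v = 0) {μ : F} (hμ : μ ≠ 0) (hμv : hf q (μ • v) (μ • v) = 0) :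
    xg hF (μ • v) hμv = xg hF v hv := by
  have hN : (μ ^ (q + 1)) ^ q = μ ^ (q + 1) := by
    rw [← pow_mul, add_mul, one_mul, pow_add, pow_mul, pow_q_q hF, pow_succ]
    ring
  have hN0 : μ ^ (q + 1) ≠ 0 := pow_ne_zero _ hμ
  have hskew : ∀ c l : F, l ^ q = l → c + c ^ q = 0 → (c * l) + (c * l) ^ q = 0 := fun c l hl hc => by
    rw [mul_pow, hl, ← add_mul, hc, zero_mul]
  ext x
  rw [mem_xg, mem_xg]
  constructor
  · rintro ⟨c, hc, rfl⟩
    exact ⟨c * μ ^ (q + 1), hskew c _ hN hc, congrArg _ (suMat_inj (utv_smul hF μ v c).symm)⟩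
  · rintro ⟨c, hc, rfl⟩
    refine ⟨c * (μ ^ (q + 1))⁻¹, hskew c _ (by rw [inv_pow, hN]) hc, congrArg _ (suMat_inj ?_)⟩
    show Cfsg.unitaryTransvection n q (μ • v) (c * (μ ^ (q + 1))⁻¹) = Cfsg.unitaryTransvection n q v c
    rw [utv_smul hF, mul_assoc, inv_mul_cancel₀ hN0, mul_one]

theorem xg_congr {u v : Fin n → F} (e : u = v) (hu : hf q u u = 0) (hv : hf q v v = 0) :
    xg hF u hu = xg hF v hv := by
  subst e; rfl

theorem map_suAut_xg (g : ↥(Cfsg.GU n F q)) (σ : RingAut F) (v : Fin n → F) (hv : hf q v v = 0)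
    (hw : hf q (((g : GL (Fin n) F) : Matrix (Fin n) (Fin n) F) *ᵥ fun i => σ (v i))
      (((g : GL (Fin n) F) : Matrix (Fin n) (Fin n) F) *ᵥ fun i => σ (v i)) = 0) :
    (xg hF v hv).map (suAut g σ).toMonoidHom =
      xg hF (((g : GL (Fin n) F) : Matrix (Fin n) (Fin n) F) *ᵥ fun i => σ (v i)) hw := by
  have hsk : ∀ (τ : RingAut F) (c : F), c + c ^ q = 0 → τ c + τ c ^ q = 0 := fun τ c hc => by
    rw [← map_pow, ← map_add, hc, map_zero]
  ext x
  constructor
  · rintro ⟨y, hy, rfl⟩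
    obtain ⟨c, hc, rfl⟩ := (mem_xg hF).mp hy
    refine (mem_xg hF).mpr ⟨σ c, hsk σ c hc, congrArg _ (suMat_inj ?_)⟩
    show Cfsg.unitaryTransvection n q _ _ = suMat (suFun g σ (suTv n v c hv hc hF))
    rw [suMat_suFun, show suMat (suTv n v c hv hc hF) = Cfsg.unitaryTransvection n q v c from rfl, utv_map,
      utv_gu_conj]
  · intro hx
    obtain ⟨c, hc, rfl⟩ := (mem_xg hF).mp hx
    refine ⟨_, (mem_xg hF).mpr ⟨σ.symm c, hsk σ⁻¹ c hc, rfl⟩, ?_⟩
    show suAut g σ (QuotientGroup.mk _) = _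
    rw [suAut_mk]
    refine congrArg _ (suMat_inj ?_)
    show suMat (suFun g σ _) = Cfsg.unitaryTransvection n q _ _
    rw [suMat_suFun, show suMat (suTv n v (σ.symm c) hv (hsk σ⁻¹ c hc) hF) =
      Cfsg.unitaryTransvection n q v (σ.symm c) from rfl, utv_map, utv_gu_conj, RingEquiv.apply_symm_apply]

theorem map_conj_xg (t : Cfsg.SU n F q) (v : Fin n → F) (hv : hf q v v = 0) :
    (xg hF v hv).map (MulAut.conj (QuotientGroup.mk t : Cfsg.PSU n F q)).toMonoidHom =
      xg hF (suMat t *ᵥ v) ((su_preserves t v v).trans hv) := by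
  have h := map_suAut_xg hF (suToGU t) 1 v hv
  rw [suAut_toGU] at h
  exact h ((su_preserves t v v).trans hv)

/-- Two transvection groups commute exactly when the vectors are orthogonal. -/
theorem commute_iff (hn : 2 ≤ n) {u v : Fin n → F} {hu : hf q u u = 0} {hv : hf q v v = 0} (hu0 : u ≠ 0) (hv0 : v ≠ 0) :
    (∀ x ∈ xg hF u hu, ∀ y ∈ xg hF v hv, x * y = y * x) ↔ hf q u v = 0 := by
  constructor
  · intro h
    obtain ⟨c, hc0, hc⟩ := exists_skew hF
    set A := suTv n u c hu hc hF with hA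
    set B := suTv n v c hv hc hF with hB
    have hcomm := h _ ((mem_xg hF).mpr ⟨c, hc, rfl⟩) _ ((mem_xg hF).mpr ⟨c, hc, rfl⟩)
    have hmk : (QuotientGroup.mk (A * B * A⁻¹) : Cfsg.PSU n F q) = QuotientGroup.mk B := by
      rw [QuotientGroup.mk_mul, QuotientGroup.mk_mul, QuotientGroup.mk_inv, hcomm, mul_inv_cancel_right]
    have e := mk_utv_eq hF hn ((su_preserves A v v).trans hv) hv (utv_conj A (A := B) rfl) (rfl : suMat B = _) hmk
    obtain ⟨l, hl⟩ := utv_eq_span hF (su_mulVec_ne_zero A hv0) hc0 e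
    rw [show suMat A = Cfsg.unitaryTransvection n q u c from rfl, utv_mulVec] at hl
    by_contra h0
    have hvu : hf q v u ≠ 0 := fun e0 => h0 (hf_swap_zero hF e0)
    have hu' : u = ((c * hf q v u)⁻¹ * (l - 1)) • v := by
      rw [← smul_smul, sub_smul, one_smul, ← hl, add_sub_cancel_left, smul_smul,
        inv_mul_cancel₀ (mul_ne_zero hc0 hvu), one_smul]
    apply h0
    rw [hu', herm_smul_left]
    show _ * hf q v v = 0
    rw [hv, mul_zero]
  · intro h x hx y hy
    obtain ⟨a, ha, rfl⟩ := (mem_xg hF).mp hx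
    obtain ⟨b, hb, rfl⟩ := (mem_xg hF).mp hy
    rw [← QuotientGroup.mk_mul, ← QuotientGroup.mk_mul]
    refine congrArg _ (mul_inv_eq_iff_eq_mul.mp (suMat_inj ?_))
    rw [utv_conj (suTv n u a hu ha hF) (A := suTv n v b hv hb hF) rfl]
    show Cfsg.unitaryTransvection n q (Cfsg.unitaryTransvection n q u a *ᵥ v) b = Cfsg.unitaryTransvection n q v b
    rw [utv_mulVec]
    change Cfsg.unitaryTransvection n q (v + (a * hf q v u) • u) b = _
    rw [hf_swap_zero hF h, mul_zero, zero_smul, add_zero]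

end CfsgLib.AutPSU
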