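import Cfsg.Agent.AutPSU.RadicalMap

/-!
The map induced on the radical is semilinear.
-/

set_option autoImplicit false
set_option linter.style.haveILetI false

open Matrix

namespace CfsgLib.AutPSU

open CfsgLib.Unitary CfsgLib.Forms

variable {F : Type*} [Field F] [Finite F] {q n : ℕ} (hF : Nat.card F = q ^ 2)
include hF

local notation "hf" => Cfsg.hermForm _ _

theorem exists_gen : ∃ g : F, g ≠ 0 ∧ orderOf g = q ^ 2 - 1 := by
  obtain ⟨g, hg⟩ := IsCyclic.exists_generator (α := Fˣ)
  refine ⟨g, g.ne_zero, ?_⟩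
  rw [orderOf_units, orderOf_eq_card_of_forall_mem_zpowers hg, Nat.card_units, hF]

theorem pow_sq_sub_one {μ : F} (hμ : μ ≠ 0) : μ ^ (q ^ 2 - 1) = 1 := by
  haveI := Fintype.ofFinite F
  rw [← hF, ← Fintype.card_eq_nat_card]
  exact FiniteField.pow_card_sub_one_eq_one μ hμ

theorem pow_sub_one_norm {μ : F} (hμ : μ ≠ 0) : (μ ^ (q - 1)) ^ (q + 1) = 1 := by
  rw [← pow_mul, show (q - 1) * (q + 1) = q ^ 2 - 1 by rw [mul_comm, ← Nat.sq_sub_sq, one_pow]]
  exact pow_sq_sub_one hF hμ

theorem mul_pow_sub_one (μ : F) : μ * μ ^ (q - 1) = μ ^ q := by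
  rw [← pow_succ', Nat.sub_add_cancel (by have := two_le_q hF; omega)]

/-- A norm one element of large order. -/
theorem exists_norm_one : ∃ z : F, z ^ (q + 1) = 1 ∧ orderOf z = q + 1 := by
  obtain ⟨g, hg0, hg⟩ := exists_gen hF
  have hq := two_le_q hF
  refine ⟨g ^ (q - 1), pow_sub_one_norm hF hg0, ?_⟩
  rw [orderOf_pow' g (by omega), hg, show q ^ 2 - 1 = (q - 1) * (q + 1) by rw [mul_comm, ← Nat.sq_sub_sq, one_pow],
    Nat.gcd_mul_right_left, Nat.mul_div_cancel_left _ (by omega)]

/-- The torus eigenvalue generates the field. -/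
theorem lt_orderOf_theta (hq : q ≠ 2) {g : F} (hg : orderOf g = q ^ 2 - 1) : q - 1 < orderOf (g ^ (2 * q - 1)) := by
  have h2 := two_le_q hF
  obtain ⟨a, rfl⟩ : ∃ a, q = a + 3 := ⟨q - 3, by omega⟩
  rw [orderOf_pow' g (by omega), hg]
  set N := (a + 3) ^ 2 - 1 with hN
  have hN1 : N + 1 = (a + 3) ^ 2 := Nat.sub_add_cancel (Nat.one_le_pow _ _ (by omega))
  set d := Nat.gcd N (2 * (a + 3) - 1) with hd
  have hd3 : d ∣ 3 := by
    have h1 : d ∣ 4 * N := (Nat.gcd_dvd_left _ _).mul_left 4
    have h3 : d ∣ (2 * (a + 3) - 1) * (2 * (a + 3) + 1) := (Nat.gcd_dvd_right _ _).mul_right _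
    rw [show (2 * (a + 3) - 1) * (2 * (a + 3) + 1) = 4 * N + 3 by
      rw [show 2 * (a + 3) - 1 = 2 * a + 5 by omega]; nlinarith] at h3
    exact (Nat.dvd_add_right h1).mp h3
  have hd' : d ≤ 3 := Nat.le_of_dvd (by norm_num) hd3
  have hd0 : 0 < d := Nat.gcd_pos_of_pos_right _ (by omega)
  rw [Nat.lt_div_iff_mul_lt' (Nat.gcd_dvd_left _ _)]
  have : d * (a + 3 - 1) ≤ 3 * (a + 3 - 1) := Nat.mul_le_mul_right _ hd'
  have h4 : 3 * (a + 3 - 1) < N := by
    rw [show a + 3 - 1 = a + 2 by omega]; nlinarith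
  exact lt_of_le_of_lt this h4

/-- An additive map commuting with multiplication by an element of large order is linear. -/
theorem linear_of_commutes {c : F → F} (hadd : ∀ x y, c (x + y) = c x + c y) {t : F} (ht : q - 1 < orderOf t)
    (h : ∀ x, c (t * x) = t * c x) (x : F) : c x = x * c 1 := by
  have h0 : c 0 = 0 := by simpa using hadd 0 0
  have hneg : ∀ x, c (-x) = -c x := fun x => by
    rw [eq_neg_iff_add_eq_zero, ← hadd, neg_add_cancel, h0]
  let S : Subfield F :=
    { carrier := {y | ∀ x, c (y * x) = y * c x}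
      zero_mem' := fun x => by rw [zero_mul, zero_mul, h0]
      one_mem' := fun x => by rw [one_mul, one_mul]
      add_mem' := fun {a b} ha hb x => by rw [add_mul, hadd, ha, hb, add_mul]
      mul_mem' := fun {a b} ha hb x => by rw [mul_assoc, ha, hb, mul_assoc]
      neg_mem' := fun {a} ha x => by rw [neg_mul, hneg, ha, neg_mul]
      inv_mem' := fun a ha x => by
        rcases eq_or_ne a 0 with rfl | ha0
        · rw [_root_.inv_zero, zero_mul, zero_mul, h0]
        · have := ha (a⁻¹ * x)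
          rw [mul_inv_cancel_left₀ ha0] at this
          rw [this, inv_mul_cancel_left₀ ha0] }
  suffices hS : S = ⊤ by
    have hx : x ∈ S := hS ▸ Subfield.mem_top x
    simpa using hx 1
  by_contra hne
  haveI := Fintype.ofFinite S
  have ht0 : t ≠ 0 := fun e => by rw [e, orderOf_zero] at ht; omega
  have htS : orderOf t ≤ Nat.card S - 1 := by
    have h1 : (⟨t, h⟩ : S) ^ (Fintype.card S - 1) = 1 :=
      FiniteField.pow_card_sub_one_eq_one _ fun e => ht0 (congrArg Subtype.val e)
    rw [← Fintype.card_eq_nat_card]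
    exact Nat.le_of_dvd (by have := Fintype.one_lt_card (α := S); omega)
      (orderOf_dvd_of_pow_eq_one (congrArg Subtype.val h1))
  have hpow := Module.natCard_eq_pow_finrank (K := S) (V := F)
  have hr : 2 ≤ Module.finrank S F := by
    rcases Nat.lt_or_ge (Module.finrank S F) 2 with hlt | hge
    swap
    · exact hge
    have hpos : 0 < Module.finrank S F := Module.finrank_pos
    rw [show Module.finrank S F = 1 by omega, pow_one] at hpow
    refine absurd ?_ hne
    refine SetLike.coe_injective ?_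
    rw [Subfield.coe_top]
    exact Set.eq_of_subset_of_ncard_le (Set.subset_univ _) (by
      rw [Set.ncard_univ, hpow, ← Nat.card_coe_set_eq]; rfl)
  have hSq : Nat.card S ≤ q := by
    by_contra hlt
    push Not at hlt
    have h1 : Nat.card S ^ 2 ≤ Nat.card F := hpow ▸ Nat.pow_le_pow_right Nat.card_pos hr
    rw [hF] at h1
    nlinarith
  omega

omit hF in
theorem inW_smul {e f a : Fin n → F} (ha : InW q e f a) (x : F) : InW q e f (x • a) :=
  ⟨by rw [herm_smul_left]; show x * hf q a e = 0; rw [ha.1, mul_zero],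
    by rw [herm_smul_left]; show x * hf q a f = 0; rw [ha.2, mul_zero]⟩

omit hF in
theorem inW_add {e f a b : Fin n → F} (ha : InW q e f a) (hb : InW q e f b) : InW q e f (a + b) :=
  ⟨by rw [herm_add_left]; show hf q a e + hf q b e = 0; rw [ha.1, hb.1, add_zero],
    by rw [herm_add_left]; show hf q a f + hf q b f = 0; rw [ha.2, hb.2, add_zero]⟩

omit hF in
theorem inW_zero (e f : Fin n → F) : InW q e f (0 : Fin n → F) := ⟨hf_zero_left e, hf_zero_left f⟩

omit hF in
theorem inW_sum {ι : Type*} {e f : Fin n → F} (s : Finset ι) (g : ι → Fin n → F) (h : ∀ i ∈ s, InW q e f (g i)) :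
    InW q e f (∑ i ∈ s, g i) :=
  Finset.sum_induction g (InW q e f) (fun _ _ => inW_add) (inW_zero e f) h

omit hF in
theorem hf_refl (u : Fin n → F) (z : F) (x v : Fin n → F) :
    hf q (refl q u z *ᵥ x) v = hf q x v + (z - 1) * hf q x u * hf q u v := by
  rw [refl_mulVec, herm_add_left, herm_smul_left]

theorem refl_smul_self {u : Fin n → F} (hu : hf q u u = 1) (z x : F) : refl q u z *ᵥ (x • u) = (z * x) • u := by
  rw [refl_mulVec, herm_smul_left]
  show x • u + ((z - 1) * (x * hf q u u)) • u = _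
  rw [hu, mul_one]
  module

theorem refl_smul_orth {u v : Fin n → F} (h : hf q v u = 0) (z x : F) : refl q u z *ᵥ (x • v) = x • v := by
  rw [refl_mulVec, herm_smul_left]
  show x • v + ((z - 1) * (x * hf q v u)) • u = _
  rw [h, mul_zero, mul_zero, zero_smul, add_zero]

/-- A pair of reflections of determinant one. -/
theorem fixPair_two {d : ℕ} {e f : Fin n → F} {b : Fin d → Fin n → F} (Fr : Frame q e f b) (i j : Fin d)
    {z : F} (hz : z ^ (q + 1) = 1) :
    FixPair q e f (refl q (b j) z * refl q (b i) (z ^ q)) ∧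
      (1 : F) * (refl q (b j) z * refl q (b i) (z ^ q)).det = 1 ^ q := by
  have h1 : hf q (b i) (b i) = 1 := by rw [Fr.on, if_pos rfl]
  have h2 : hf q (b j) (b j) = 1 := by rw [Fr.on, if_pos rfl]
  refine ⟨(fixPair_refl hF (Fr.inW j) h2 hz).mul (fixPair_refl hF (Fr.inW i) h1 ?_), ?_⟩
  · rw [← pow_mul, mul_comm, pow_mul, hz, one_pow]
  · rw [Matrix.det_mul, det_refl h2, det_refl h1, one_mul, one_pow, ← pow_succ', hz]

/-- Additive maps commuting with the Levi action are scalars. -/
theorem commutant_scalar {d : ℕ} {e f : Fin n → F} {b : Fin d → Fin n → F} (Fr : Frame q e f b) (hd0 : 0 < d)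
    (hqd : q ≠ 2 ∨ 2 ≤ d) {φ : (Fin n → F) → (Fin n → F)} (hW : ∀ a, InW q e f a → InW q e f (φ a))
    (hadd : ∀ a a', InW q e f a → InW q e f a' → φ (a + a') = φ a + φ a')
    (hcomm : ∀ (μ : F) (R : Matrix (Fin n) (Fin n) F), μ ≠ 0 → FixPair q e f R → μ * R.det = μ ^ q →
      ∀ a, InW q e f a → φ (μ ^ q • (R *ᵥ a)) = μ ^ q • (R *ᵥ φ a)) :
    ∃ l : F, ∀ a, InW q e f a → φ a = l • a := by
  classical
  have hone : ∀ i, hf q (b i) (b i) = 1 := fun i => by rw [Fr.on, if_pos rfl]
  have hzero : ∀ i j, i ≠ j → hf q (b i) (b j) = 0 := fun i j h => by rw [Fr.on, if_neg h]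
  let c : Fin d → Fin d → F → F := fun i j x => hf q (φ (x • b j)) (b i)
  have hcadd : ∀ i j x y, c i j (x + y) = c i j x + c i j y := fun i j x y => by
    show hf q (φ ((x + y) • b j)) (b i) = _
    rw [add_smul, hadd _ _ (inW_smul (Fr.inW j) x) (inW_smul (Fr.inW j) y), herm_add_left]
  obtain ⟨g, hg0, hg⟩ := exists_gen hF
  have hθ : ∀ i j x, c i j (g ^ (2 * q - 1) * x) =
      g ^ q * (c i j x + (g ^ (q - 1) - 1) * c j j x * hf q (b j) (b i)) := by
    intro i j x
    have h := congrArg (fun v => hf q v (b i)) (hcomm g _ hg0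
      (fixPair_refl hF (Fr.inW j) (hone j) (pow_sub_one_norm hF hg0))
      (by rw [det_refl (hone j), mul_pow_sub_one hF]) _ (inW_smul (Fr.inW j) x))
    simp only [refl_smul_self hF (hone j), smul_smul, herm_smul_left, hf_refl] at h
    rw [← mul_assoc, ← pow_add, show q + (q - 1) = 2 * q - 1 by have := two_le_q hF; omega] at h
    exact h
  have hζ : ∀ i j, i ≠ j → ∀ z : F, z ^ (q + 1) = 1 → ∀ x,
      c j j (z * x) = z * c j j x ∧ c i j (z * x) = z ^ q * c i j x := by
    intro i j hij z hz x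
    have hR : (refl q (b j) z * refl q (b i) (z ^ q)) *ᵥ (x • b j) = (z * x) • b j := by
      rw [← Matrix.mulVec_mulVec, refl_smul_orth hF (hzero j i (Ne.symm hij)), refl_smul_self hF (hone j)]
    have h := hcomm 1 _ one_ne_zero (fixPair_two hF Fr i j hz).1 (fixPair_two hF Fr i j hz).2 _
      (inW_smul (Fr.inW j) x)
    rw [one_pow, one_smul, one_smul, hR, ← Matrix.mulVec_mulVec] at h
    constructor
    · show hf q (φ ((z * x) • b j)) (b j) = _
      rw [h, hf_refl, hf_refl]
      show _ = z * hf q (φ (x • b j)) (b j)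
      rw [hone, hzero i j hij]
      ring
    · show hf q (φ ((z * x) • b j)) (b i) = _
      rw [h, hf_refl, hf_refl]
      show _ = z ^ q * hf q (φ (x • b j)) (b i)
      rw [hone, hzero j i (Ne.symm hij)]
      ring
  have hdiag : ∀ j x, c j j x = x * c j j 1 := by
    intro j
    rcases eq_or_ne q 2 with hq | hq
    · obtain ⟨i, hi⟩ : ∃ i : Fin d, i ≠ j :=
        haveI : Nontrivial (Fin d) := Fin.nontrivial_iff_two_le.mpr (hqd.resolve_left fun h => h hq)
        exists_ne j
      obtain ⟨z, hz, hzo⟩ := exists_norm_one hF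
      exact linear_of_commutes hF (hcadd j j) (t := z) (by omega) fun x => (hζ i j hi z hz x).1
    · refine linear_of_commutes hF (hcadd j j) (t := g ^ (2 * q - 1)) (lt_orderOf_theta hF hq hg) fun x => ?_
      rw [hθ, hone, mul_one, show c j j x + (g ^ (q - 1) - 1) * c j j x = g ^ (q - 1) * c j j x by ring, ← mul_assoc,
        ← pow_add, show q + (q - 1) = 2 * q - 1 by have := two_le_q hF; omega]
  have hoff : ∀ i j, i ≠ j → ∀ x, c i j x = 0 := by
    intro i j hij
    obtain ⟨z, hz, hzo⟩ := exists_norm_one hF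
    have hlin := linear_of_commutes hF (c := fun x => c i j (x ^ q))
      (fun x y => by show c i j ((x + y) ^ q) = _; rw [add_pow_q hF, hcadd]) (t := z) (by omega) (fun x => by
        show c i j ((z * x) ^ q) = z * c i j (x ^ q)
        rw [mul_pow, (hζ i j hij (z ^ q) (by rw [← pow_mul, mul_comm, pow_mul, hz, one_pow]) _).2, pow_q_q hF])
    have hx : ∀ x, c i j x = x ^ q * c i j 1 := fun x => by
      have := hlin (x ^ q)
      simp only [pow_q_q hF, one_pow] at this
      exact this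
    intro x
    suffices h0 : c i j 1 = 0 by rw [hx, h0, mul_zero]
    by_contra h0
    have h1 := hθ i j 1
    rw [hzero j i (Ne.symm hij), mul_zero, add_zero, mul_one, hx (g ^ (2 * q - 1))] at h1
    have h2 := congrArg (frobQ hF) (mul_right_cancel₀ h0 h1)
    rw [frobQ_apply, frobQ_apply, pow_q_q hF, pow_q_q hF] at h2
    have hq := two_le_q hF
    have h3 : g ^ (2 * q - 2) = 1 := by
      refine mul_right_cancel₀ hg0 ?_
      rw [← pow_succ, one_mul, show 2 * q - 2 + 1 = 2 * q - 1 by omega, h2]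
    have h4 := Nat.le_of_dvd (by omega) (hg ▸ orderOf_dvd_of_pow_eq_one h3)
    have : q * 2 ≤ q ^ 2 := by rw [sq]; exact Nat.mul_le_mul_left q hq
    omega
  have heq : ∀ i j, c i i 1 = c j j 1 := by
    intro i j
    rcases eq_or_ne i j with rfl | hij
    · rfl
    have hm1 : (-1 : F) ^ (q + 1) = 1 := by
      rw [pow_succ, ← frobQ_apply hF, map_neg, map_one]; ring
    set S := swapMat q (b i) (b j) with hS
    have hSf := fixPair_swap hF (Fr.inW i) (Fr.inW j) (hone i) (hone j) (hzero i j hij)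
    have hdet : (1 : F) * (refl q (b j) (-1) * S).det = 1 ^ q := by
      rw [Matrix.det_mul, det_refl (hone j), show S.det = -1 from det_swapMat hF (hone i) (hone j) (hzero i j hij),
        one_pow]
      ring
    have h := hcomm 1 _ one_ne_zero ((fixPair_refl hF (Fr.inW j) (hone j) hm1).mul hSf) hdet _ (Fr.inW i)
    have hSi : S *ᵥ b i = b j := swapMat_left hF (hone i) (hzero i j hij)
    have hRi : (refl q (b j) (-1) * S) *ᵥ b i = (-1 : F) • b j := by
      rw [← Matrix.mulVec_mulVec, hSi, refl_mulVec, hone, mul_one]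
      module
    rw [one_pow, hRi, one_smul, one_smul, ← Matrix.mulVec_mulVec] at h
    have h' : c j j (-1) = hf q (S *ᵥ φ (b i)) (b j) + (-1 - 1) * hf q (S *ᵥ φ (b i)) (b j) * hf q (b j) (b j) := by
      show hf q (φ ((-1 : F) • b j)) (b j) = _
      rw [h, hf_refl]
    have hp := hSf.pres (φ (b i)) (b i)
    rw [hSi] at hp
    rw [hp, hone, hdiag] at h'
    have hci : c i i 1 = hf q (φ (b i)) (b i) := by show hf q (φ ((1 : F) • b i)) (b i) = _; rw [one_smul]
    linear_combination hci + h'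
  refine ⟨c ⟨0, hd0⟩ ⟨0, hd0⟩ 1, fun a ha => ?_⟩
  have hφ0 : φ 0 = 0 := by simpa using hadd 0 0 (inW_zero e f) (inW_zero e f)
  have hsum : ∀ (s : Finset (Fin d)) (i : Fin d), hf q (φ (∑ j ∈ s, hf q a (b j) • b j)) (b i) =
      ∑ j ∈ s, c i j (hf q a (b j)) := by
    intro s i
    induction s using Finset.induction with
    | empty => rw [Finset.sum_empty, Finset.sum_empty, hφ0, hf_zero_left]
    | insert j s hj ih =>
      rw [Finset.sum_insert hj, Finset.sum_insert hj,
        hadd _ _ (inW_smul (Fr.inW j) _) (inW_sum s _ fun k _ => inW_smul (Fr.inW k) _), herm_add_left, ih]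
  rw [Fr.expand_W (hW a ha)]
  conv_rhs => rw [Fr.expand_W ha, Finset.smul_sum]
  refine Finset.sum_congr rfl fun i _ => ?_
  rw [smul_smul]
  congr 1
  conv_lhs => rw [Fr.expand_W ha, hsum]
  rw [Finset.sum_eq_single i (fun j _ hji => hoff i j (Ne.symm hji) _) (by simp), hdiag, heq i ⟨0, hd0⟩, mul_comm]

/-- The map on the radical is semilinear. -/
theorem exists_semilinear_rmap (hn : 3 ≤ n) (h32 : ¬ (n = 3 ∧ q = 2)) {e f : Fin n → F} {H : Hyp q e f}
    {γ : MulAut (Cfsg.PSU n F q)} (hγ : Stab hF e f H γ) :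
    ∃ (ψ : (Fin n → F) → (Fin n → F)) (σ : RingAut F), RMap e f γ ψ ∧
      ∀ (c : F) (a : Fin n → F), InW q e f a → ψ (c • a) = σ c • ψ a := by
  classical
  have hn2 : 2 ≤ n := by omega
  obtain ⟨ψ, hψ⟩ := exists_rmap hF hn hγ
  obtain ⟨d, hd, b, Fr⟩ := exists_frame hF H
  have hd0 : 0 < d := by omega
  have hqd : q ≠ 2 ∨ 2 ≤ d := by
    by_contra hc
    push Not at hc
    exact h32 ⟨by omega, hc.1⟩
  have hsurj : ∀ a, InW q e f a → ∃ a', InW q e f a' ∧ ψ a' = a := by
    intro a ha
    let ψ' : {x // InW q e f x} → {x // InW q e f x} := fun x => ⟨ψ x, hψ.1 x x.2⟩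
    have hinj : Function.Injective ψ' := fun x y h =>
      Subtype.ext (rmap_injective hF hn2 hγ hψ x.2 y.2 (congrArg Subtype.val h))
    obtain ⟨x, hx⟩ := (Finite.injective_iff_surjective.mp hinj) ⟨a, ha⟩
    exact ⟨x, x.2, congrArg Subtype.val hx⟩
  have hscal : ∀ c : F, ∃ l : F, ∀ a, InW q e f a → ψ (l • a) = c • ψ a := by
    intro c
    have hex : ∀ a, ∃ a', InW q e f a → InW q e f a' ∧ ψ a' = c • ψ a := fun a => by
      by_cases ha : InW q e f a
      · obtain ⟨a', h1, h2⟩ := hsurj _ (inW_smul (hψ.1 a ha) c)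
        exact ⟨a', fun _ => ⟨h1, h2⟩⟩
      · exact ⟨0, fun h => absurd h ha⟩
    choose φ hφ using hex
    obtain ⟨l, hl⟩ := commutant_scalar hF Fr hd0 hqd (φ := φ) (fun a ha => (hφ a ha).1)
      (fun a a' ha ha' => by
        refine rmap_injective hF hn2 hγ hψ (hφ _ (inW_add ha ha')).1 (inW_add (hφ a ha).1 (hφ a' ha').1) ?_
        rw [(hφ _ (inW_add ha ha')).2, rmap_add hF hn2 H hψ ha ha',
          rmap_add hF hn2 H hψ (hφ a ha).1 (hφ a' ha').1, (hφ a ha).2, (hφ a' ha').2, smul_add])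
      (fun μ R hμ hR hdet a ha => by
        have hge := levi_e hF H hμ hR hdet
        have hgf := levi_f hF H hμ hR hdet
        obtain ⟨g', hgg, hiff⟩ := exists_diag_lift hF hn2 hγ (levi hF H hμ hR hdet)
        obtain ⟨⟨μ', hμ'⟩, ν', hν'⟩ := hiff.mp ⟨⟨μ, hge⟩, _, hgf⟩
        have key : ∀ x, InW q e f x → ψ (μ ^ q • (R *ᵥ x)) = μ' ^ q • (suMat g' *ᵥ ψ x) := fun x hx => by
          rw [← levi_W hF H hμ hR hdet hx]
          exact rmap_conj hF hn2 H hψ hgg hge hgf hμ' hν' hx
        have hL : ∀ x, InW q e f x → InW q e f (μ ^ q • (R *ᵥ x)) := fun x hx =>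
          inW_smul (inW_fix hF hR hx) _
        refine rmap_injective hF hn2 hγ hψ (hφ _ (hL a ha)).1 (hL _ (hφ a ha).1) ?_
        rw [(hφ _ (hL a ha)).2, key a ha, key _ (hφ a ha).1, (hφ a ha).2, Matrix.mulVec_smul, smul_comm])
    exact ⟨l, fun a ha => by rw [← hl a ha]; exact (hφ a ha).2⟩
  choose τ hτ using hscal
  set b0 := b ⟨0, hd0⟩
  have hb0 : InW q e f b0 := Fr.inW _
  have hb1 : hf q b0 b0 = 1 := by rw [Fr.on, if_pos rfl]
  have hcancel : ∀ u v : F, ψ (u • b0) = ψ (v • b0) → u = v := fun u v h => by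
    have h1 := congrArg (fun z => hf q z b0)
      (rmap_injective hF hn2 hγ hψ (inW_smul hb0 u) (inW_smul hb0 v) h)
    simp only [herm_smul_left] at h1
    change u * hf q b0 b0 = v * hf q b0 b0 at h1
    rwa [hb1, mul_one, mul_one] at h1
  have hψ0 : ψ 0 = 0 := by simpa using rmap_add hF hn2 H hψ (inW_zero e f) (inW_zero e f)
  let τh : F →+* F :=
    { toFun := τ
      map_one' := hcancel _ _ (by rw [hτ 1 _ hb0, one_smul, one_smul])
      map_mul' := fun x y => hcancel _ _ (by
        rw [hτ _ _ hb0, ← smul_smul, ← smul_smul, hτ x _ (inW_smul hb0 _), hτ y _ hb0])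
      map_zero' := hcancel _ _ (by rw [hτ 0 _ hb0, zero_smul, zero_smul, hψ0])
      map_add' := fun x y => hcancel _ _ (by
        rw [hτ _ _ hb0, add_smul, add_smul, rmap_add hF hn2 H hψ (inW_smul hb0 _) (inW_smul hb0 _), hτ x _ hb0,
          hτ y _ hb0]) }
  let τe : F ≃+* F := RingEquiv.ofBijective τh (Finite.injective_iff_bijective.mp τh.injective)
  refine ⟨ψ, τe.symm, hψ, fun c a ha => ?_⟩
  conv_lhs => rw [← τe.apply_symm_apply c]
  exact hτ (τe.symm c) a ha

end CfsgLib.AutPSU
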