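import Cfsg.Prelude.Def_LieTypeDatum
import Cfsg.Agent.AutPSp.Semilinear
import Cfsg.Agent.Unitary.Generated

/-!
Automorphisms of `PSU_n(q)` induced by semilinear isometries.
-/

set_option autoImplicit false

open Matrix

namespace CfsgLib.AutPSU

open CfsgLib.Unitary

variable {F : Type*} [Field F] {q n : ℕ}

theorem map_herm (σ : F ≃+* F) (u v : Fin n → F) :
    σ (Cfsg.hermForm n F q u v) = Cfsg.hermForm n F q (fun i => σ (u i)) (fun i => σ (v i)) := by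
  simp [Cfsg.hermForm, map_sum, map_mul, map_pow]

theorem map_mulVec (σ : F ≃+* F) (M : Matrix (Fin n) (Fin n) F) (u : Fin n → F) :
    (fun i => σ ((M *ᵥ u) i)) = M.map σ *ᵥ fun i => σ (u i) := by
  funext i
  simp [Matrix.mulVec, dotProduct, map_sum]

theorem mulVec_map_eq (σ : F ≃+* F) (M : Matrix (Fin n) (Fin n) F) (u : Fin n → F) :
    M.map σ *ᵥ u = fun i => σ ((M *ᵥ fun j => σ.symm (u j)) i) := by
  rw [map_mulVec]
  simp

/-- Entrywise action of a field automorphism on `GL`. -/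
def glMap (σ : F ≃+* F) : GL (Fin n) F →* GL (Fin n) F :=
  Matrix.GeneralLinearGroup.map (σ : F →+* F)

theorem coe_glMap (σ : F ≃+* F) (g : GL (Fin n) F) :
    (glMap σ g : Matrix (Fin n) (Fin n) F) = (g : Matrix (Fin n) (Fin n) F).map σ := rfl

theorem glMap_mem_GU (σ : F ≃+* F) {g : GL (Fin n) F} (hg : g ∈ Cfsg.GU n F q) :
    glMap σ g ∈ Cfsg.GU n F q := by
  intro u v
  show Cfsg.hermForm n F q ((glMap σ g : Matrix (Fin n) (Fin n) F) *ᵥ u)
    ((glMap σ g : Matrix (Fin n) (Fin n) F) *ᵥ v) = _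
  rw [coe_glMap, mulVec_map_eq, mulVec_map_eq, ← map_herm, mem_GU_iff.mp hg, map_herm]
  simp

/-- Entrywise action on `GU`. -/
def guMap (σ : F ≃+* F) : ↥(Cfsg.GU n F q) →* ↥(Cfsg.GU n F q) :=
  ((glMap σ).comp (Cfsg.GU n F q).subtype).codRestrict _ fun g => glMap_mem_GU σ g.2

theorem coe_guMap (σ : F ≃+* F) (g : ↥(Cfsg.GU n F q)) :
    (guMap σ g : GL (Fin n) F) = glMap σ (g : GL (Fin n) F) := rfl

theorem guMap_mul_aut (σ τ : RingAut F) (g : ↥(Cfsg.GU n F q)) : guMap (σ * τ) g = guMap σ (guMap τ g) :=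
  Subtype.ext (Units.ext (by ext a b; rfl))

theorem guMap_one_aut (g : ↥(Cfsg.GU n F q)) : guMap (1 : RingAut F) g = g :=
  Subtype.ext (Units.ext (by ext a b; rfl))

theorem det_map_ringEquiv (σ : F ≃+* F) (M : Matrix (Fin n) (Fin n) F) : (M.map σ).det = σ M.det :=
  ((σ : F →+* F).map_det M).symm

/-- The semilinear map on `SU`. -/
def suFun (g : ↥(Cfsg.GU n F q)) (σ : F ≃+* F) (s : Cfsg.SU n F q) : Cfsg.SU n F q :=
  ⟨⟨((g : GL (Fin n) F) : Matrix (Fin n) (Fin n) F) *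
      ((s : Matrix.SpecialLinearGroup (Fin n) F) : Matrix (Fin n) (Fin n) F).map σ *
      (((g : GL (Fin n) F)⁻¹ : GL (Fin n) F) : Matrix (Fin n) (Fin n) F), by
    rw [Matrix.det_mul, Matrix.det_mul, det_map_ringEquiv, (s : Matrix.SpecialLinearGroup (Fin n) F).2, map_one,
      mul_one, ← Matrix.det_mul, ← Units.val_mul, mul_inv_cancel, Units.val_one, Matrix.det_one]⟩, by
    intro u v
    show Cfsg.hermForm n F q ((_ * _ * _ : Matrix (Fin n) (Fin n) F) *ᵥ u) ((_ * _ * _ : Matrix (Fin n) (Fin n) F) *ᵥ v) = _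
    have hcan : ∀ w, ((g : GL (Fin n) F) : Matrix (Fin n) (Fin n) F) *ᵥ
        ((((g : GL (Fin n) F)⁻¹ : GL (Fin n) F) : Matrix (Fin n) (Fin n) F) *ᵥ w) = w := fun w => by
      rw [Matrix.mulVec_mulVec, ← Units.val_mul, mul_inv_cancel, Units.val_one, Matrix.one_mulVec]
    rw [← Matrix.mulVec_mulVec, ← Matrix.mulVec_mulVec, ← Matrix.mulVec_mulVec, ← Matrix.mulVec_mulVec,
      mem_GU_iff.mp g.2, mulVec_map_eq, mulVec_map_eq, ← map_herm, show ∀ x y, Cfsg.hermForm n F q (((s : Matrix.SpecialLinearGroup (Fin n) F) : Matrix (Fin n) (Fin n) F) *ᵥ x) (((s : Matrix.SpecialLinearGroup (Fin n) F) : Matrix (Fin n) (Fin n) F) *ᵥ y) = Cfsg.hermForm n F q x y from s.2, map_herm]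
    simp only [RingEquiv.apply_symm_apply]
    rw [← mem_GU_iff.mp g.2, hcan, hcan]⟩

theorem suMat_suFun (g : ↥(Cfsg.GU n F q)) (σ : F ≃+* F) (s : Cfsg.SU n F q) :
    suMat (suFun g σ s) = ((g : GL (Fin n) F) : Matrix (Fin n) (Fin n) F) * (suMat s).map σ *
      (((g : GL (Fin n) F)⁻¹ : GL (Fin n) F) : Matrix (Fin n) (Fin n) F) := rfl

theorem suMat_inj {s t : Cfsg.SU n F q} (h : suMat s = suMat t) : s = t := Subtype.ext (Subtype.ext h)

theorem suFun_mul (g : ↥(Cfsg.GU n F q)) (σ : F ≃+* F) (s t : Cfsg.SU n F q) :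
    suFun g σ (s * t) = suFun g σ s * suFun g σ t := by
  apply suMat_inj
  rw [suMat_suFun, suMat_mul, suMat_mul, suMat_suFun, suMat_suFun, Matrix.map_mul]
  simp only [mul_assoc]
  rw [Units.inv_mul_cancel_left]

theorem suFun_comp (g h : ↥(Cfsg.GU n F q)) (σ τ : RingAut F) (s : Cfsg.SU n F q) :
    suFun g σ (suFun h τ s) = suFun (g * guMap σ h) (σ * τ) s := by
  apply suMat_inj
  simp only [suMat_suFun, Matrix.map_mul, Subgroup.coe_mul, Units.val_mul, _root_.mul_inv_rev, coe_guMap, ← map_inv,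
    coe_glMap, Matrix.map_map, mul_assoc]
  rfl

theorem suFun_one (s : Cfsg.SU n F q) : suFun 1 (1 : RingAut F) s = s :=
  suMat_inj (by
    rw [suMat_suFun, OneMemClass.coe_one, inv_one, Units.val_one, one_mul, mul_one]
    ext a b; rfl)

/-- The semilinear automorphism of `SU`. -/
def suEquivSemi (g : ↥(Cfsg.GU n F q)) (σ : RingAut F) : Cfsg.SU n F q ≃* Cfsg.SU n F q where
  toFun := suFun g σ
  invFun := suFun (guMap (σ⁻¹ : RingAut F) g⁻¹) (σ⁻¹ : RingAut F)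
  left_inv s := by
    rw [suFun_comp, inv_mul_cancel, ← map_mul, inv_mul_cancel, map_one, suFun_one]
  right_inv s := by
    rw [suFun_comp, mul_inv_cancel, ← guMap_mul_aut, mul_inv_cancel, guMap_one_aut, mul_inv_cancel, suFun_one]
  map_mul' := suFun_mul g σ

/-- The automorphism of `PSU` induced by `v ↦ g σ(v)`. -/
def suAut (g : ↥(Cfsg.GU n F q)) (σ : RingAut F) : MulAut (Cfsg.PSU n F q) :=
  QuotientGroup.congr _ _ (suEquivSemi g σ) (CfsgLib.AutPSp.map_center_mulEquiv _)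

theorem suAut_mk (g : ↥(Cfsg.GU n F q)) (σ : RingAut F) (s : Cfsg.SU n F q) :
    suAut g σ (QuotientGroup.mk s) = QuotientGroup.mk (suFun g σ s) := rfl

theorem aut_ext {α β : MulAut (Cfsg.PSU n F q)}
    (h : ∀ s : Cfsg.SU n F q, α (QuotientGroup.mk s) = β (QuotientGroup.mk s)) : α = β := by
  refine MulEquiv.ext fun x => ?_
  obtain ⟨s, rfl⟩ := QuotientGroup.mk_surjective x
  exact h s

theorem suAut_mul (g h : ↥(Cfsg.GU n F q)) (σ τ : RingAut F) :
    suAut g σ * suAut h τ = suAut (g * guMap σ h) (σ * τ) :=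
  aut_ext fun s => by rw [MulAut.mul_apply, suAut_mk, suAut_mk, suAut_mk, suFun_comp]

theorem suAut_one : suAut (1 : ↥(Cfsg.GU n F q)) (1 : RingAut F) = 1 :=
  aut_ext fun s => by rw [suAut_mk, suFun_one]; rfl

theorem suAut_inv_mul (g : ↥(Cfsg.GU n F q)) (σ : RingAut F) :
    suAut (guMap σ⁻¹ g⁻¹) σ⁻¹ * suAut g σ = 1 := by
  rw [suAut_mul, inv_mul_cancel, ← map_mul, inv_mul_cancel, map_one, suAut_one]

theorem suAut_inv (g : ↥(Cfsg.GU n F q)) (σ : RingAut F) :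
    (suAut g σ)⁻¹ = suAut (guMap σ⁻¹ g⁻¹) σ⁻¹ :=
  inv_eq_of_mul_eq_one_left (suAut_inv_mul g σ)

theorem suAut_eq_inndiag_mul (g : ↥(Cfsg.GU n F q)) (σ : RingAut F) :
    suAut g σ = suAut g 1 * suAut 1 σ := by
  rw [suAut_mul, map_one, mul_one, one_mul]

theorem suAut_split (g : ↥(Cfsg.GU n F q)) (σ : RingAut F) :
    suAut g σ = suAut (1 : ↥(Cfsg.GU n F q)) σ * suAut (guMap σ⁻¹ g) 1 := by
  rw [suAut_mul, one_mul, mul_one, ← guMap_mul_aut, mul_inv_cancel, guMap_one_aut]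

theorem isInducedBySemilinear_iff {g : GL (Fin n) F} (hg : g ∈ Cfsg.GU n F q) {σ : F ≃+* F}
    {β : MulAut (Cfsg.PSU n F q)} : Cfsg.IsInducedBySemilinearPSU g σ β ↔ β = suAut ⟨g, hg⟩ σ := by
  refine ⟨fun h => aut_ext fun s => h s (suFun ⟨g, hg⟩ σ s) rfl, ?_⟩
  rintro rfl s s' hs'
  rw [suAut_mk, show suFun ⟨g, hg⟩ σ s = s' from suMat_inj hs'.symm]

theorem isInnerDiagonal_iff {β : MulAut (Cfsg.PSU n F q)} :
    Cfsg.IsInnerDiagonalAutPSU β ↔ ∃ g : ↥(Cfsg.GU n F q), β = suAut g 1 := by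
  constructor
  · rintro ⟨g, hg, h⟩
    refine ⟨⟨g, hg⟩, aut_ext fun s => h s (suFun ⟨g, hg⟩ (1 : RingAut F) s) ?_⟩
    exact congrArg (fun M => (g : Matrix (Fin n) (Fin n) F) * M * _) (by ext a b; rfl)
  · rintro ⟨g, rfl⟩
    refine ⟨g, g.2, fun s s' hs' => ?_⟩
    rw [suAut_mk, show suFun g (1 : RingAut F) s = s' from suMat_inj (by
      rw [suMat_suFun]
      refine (congrArg (fun M => ((g : GL (Fin n) F) : Matrix (Fin n) (Fin n) F) * M * _) ?_).trans hs'.symm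
      ext a b; rfl)]

theorem isFieldOf_iff {σ : F ≃+* F} {β : MulAut (Cfsg.PSU n F q)} :
    Cfsg.IsFieldAutPSUOf σ β ↔ β = suAut (1 : ↥(Cfsg.GU n F q)) σ := by
  have hco : ∀ s : Cfsg.SU n F q, suMat (suFun (1 : ↥(Cfsg.GU n F q)) σ s) = (suMat s).map σ := fun s => by
    rw [suMat_suFun, OneMemClass.coe_one, inv_one, Units.val_one, one_mul, mul_one]
  refine ⟨fun h => aut_ext fun s => h s (suFun 1 σ s) (hco s), ?_⟩
  rintro rfl s s' hs'
  rw [suAut_mk, show suFun 1 σ s = s' from suMat_inj ((hco s).trans hs'.symm)]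

/-- Conjugation by an element of `GU`. -/
def innDiagHom (n : ℕ) (F : Type*) [Field F] (q : ℕ) : ↥(Cfsg.GU n F q) →* MulAut (Cfsg.PSU n F q) where
  toFun g := suAut g 1
  map_one' := suAut_one
  map_mul' g h := by rw [suAut_mul, guMap_one_aut, mul_one]

theorem innDiagHom_apply (g : ↥(Cfsg.GU n F q)) : innDiagHom n F q g = suAut g 1 := rfl

theorem inndiag_eq_range : Cfsg.inndiagPSU n F q = (innDiagHom n F q).range := by
  refine le_antisymm (Subgroup.closure_le _ |>.mpr ?_) ?_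
  · intro β hβ
    obtain ⟨g, hg⟩ := isInnerDiagonal_iff.mp hβ
    exact ⟨g, hg.symm⟩
  · rintro _ ⟨g, rfl⟩
    exact Subgroup.subset_closure (isInnerDiagonal_iff.mpr ⟨g, rfl⟩)

theorem suAut_toGU (k : Cfsg.SU n F q) :
    suAut (suToGU k) 1 = MulAut.conj (QuotientGroup.mk k : Cfsg.PSU n F q) :=
  aut_ext fun s => by
    rw [suAut_mk, MulAut.conj_apply, ← QuotientGroup.mk_inv, ← QuotientGroup.mk_mul, ← QuotientGroup.mk_mul]
    refine congrArg _ (suMat_inj ?_)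
    rw [suMat_suFun, suMat_mul, suMat_mul]
    have hi : ((suToGU k : GL (Fin n) F)⁻¹ : GL (Fin n) F) = ((suToGU k⁻¹ : ↥(Cfsg.GU n F q)) : GL (Fin n) F) := by
      rw [map_inv, InvMemClass.coe_inv]
    rw [hi]
    congr 2

theorem inn_le_inndiag : Cfsg.Inn (Cfsg.PSU n F q) ≤ Cfsg.inndiagPSU n F q := by
  rintro _ ⟨x, rfl⟩
  obtain ⟨k, rfl⟩ := QuotientGroup.mk_surjective x
  rw [inndiag_eq_range]
  exact ⟨suToGU k, suAut_toGU k⟩

end CfsgLib.AutPSU
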