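import Cfsg.Agent.AutPSU.Frame
import Mathlib.GroupTheory.Sylow

/-!
Automorphisms of `PSU_n(q)` permute transvection groups; the core of a point stabiliser.
-/

set_option autoImplicit false
set_option linter.style.haveILetI false

open Matrix

namespace CfsgLib.AutPSU

open CfsgLib.Unitary CfsgLib.Forms

variable {F : Type*} [Field F] {q n : ℕ}

local notation "hf" => Cfsg.hermForm _ _

/-- The natural action. -/
@[reducible] def suAction : MulAction (Cfsg.SU n F q) (Fin n → F) where
  smul g x := suMat g *ᵥ x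
  one_smul x := Matrix.one_mulVec x
  mul_smul g h x := (Matrix.mulVec_mulVec x (suMat g) (suMat h)).symm

variable [Finite F] (hF : Nat.card F = q ^ 2)
include hF

theorem eich_cond {e f a : Fin n → F} (H : Hyp q e f) (ha : InW q e f a) {A : Cfsg.SU n F q} {s : F}
    (hA : suMat A = eichMat q e a s) : s + s ^ q + hf q a a = 0 := by
  have h : hf q (suMat A *ᵥ f) (suMat A *ᵥ f) = hf q f f := su_preserves A f f
  rw [hA, eichMat_apply_f hF H ha, H.ff] at h
  simp only [herm_add_left, herm_smul_left, herm_add_right hF, herm_smul_right hF, H.ff, H.ee, H.ef, H.fe hF, ha.1,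
    ha.2, hf_swap_zero hF ha.1, hf_swap_zero hF ha.2] at h
  linear_combination h

theorem eichMat_shift {v a : Fin n → F} (hv : hf q v v = 0) (c s : F) :
    eichMat q v (a + c • v) s = eichMat q v a (s + c - c ^ q) := by
  refine Matrix.ext_iff_smul.mpr fun x => ?_
  rw [Matrix.smul_eq_mulVec, Matrix.smul_eq_mulVec, eichMat_mulVec hv, eichMat_mulVec hv, herm_add_right hF,
    herm_smul_right hF]
  funext i
  simp only [Pi.add_apply, Pi.smul_apply, smul_eq_mul]
  ring

theorem eichMat_zero' (v : Fin n → F) : eichMat q v 0 0 = 1 := by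
  rw [eichMat_zero v 0 (q_ne_zero hF), utv_zero]

/-- The unipotent radical of the stabiliser of an isotropic point. -/
def radical (e : Fin n → F) (he : hf q e e = 0) : Subgroup (Cfsg.SU n F q) where
  carrier := {A | ∃ a s, hf q a e = 0 ∧ suMat A = eichMat q e a s}
  mul_mem' := by
    rintro A B ⟨a, s, ha, hA⟩ ⟨b, r, hb, hB⟩
    exact ⟨a + b, s + r - hf q b a, by rw [herm_add_left, ha, hb, add_zero],
      by rw [suMat_mul, hA, hB, eichMat_mul hF he ha hb]⟩
  one_mem' := ⟨0, 0, hf_zero_left e, by rw [suMat_one, eichMat_zero' hF]⟩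
  inv_mem' := by
    rintro A ⟨a, s, ha, hA⟩
    have hna : hf q (-a) e = 0 := by rw [← neg_one_smul F a, herm_smul_left, ha, mul_zero]
    refine ⟨-a, -s - hf q a a, hna, ?_⟩
    have h : suMat A * eichMat q e (-a) (-s - hf q a a) = 1 := by
      rw [hA, eichMat_mul hF he ha hna, add_neg_cancel, ← neg_one_smul F a, herm_smul_left]
      convert eichMat_zero' hF e using 2
      ring
    calc suMat A⁻¹ = suMat A⁻¹ * (suMat A * eichMat q e (-a) (-s - hf q a a)) := by rw [h, mul_one]
      _ = _ := by rw [← mul_assoc, ← suMat_mul, inv_mul_cancel, suMat_one, one_mul]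

theorem mem_radical {e f : Fin n → F} (H : Hyp q e f) {A : Cfsg.SU n F q} :
    A ∈ radical hF e H.ee ↔ ∃ a s, InW q e f a ∧ suMat A = eichMat q e a s := by
  constructor
  · rintro ⟨a, s, ha, hA⟩
    refine ⟨a - hf q a f • e, s + hf q a f - hf q a f ^ q, ⟨?_, ?_⟩, ?_⟩
    · show hf q (a - hf q a f • e) e = 0
      rw [herm_sub_left hF, herm_smul_left, ha, H.ee, mul_zero, sub_zero]
    · show hf q (a - hf q a f • e) f = 0
      rw [herm_sub_left hF, herm_smul_left, H.ef, mul_one, sub_self]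
    · rw [hA, ← eichMat_shift hF H.ee, sub_add_cancel]
  · rintro ⟨a, s, ha, hA⟩
    exact ⟨a, s, ha.1, hA⟩

theorem exists_radical_elem {e f : Fin n → F} (H : Hyp q e f) {a : Fin n → F} (ha : InW q e f a) :
    ∃ A ∈ radical hF e H.ee, ∃ s, suMat A = eichMat q e a s := by
  obtain ⟨s, hs⟩ := exists_root hF (herm_self_fixed hF a)
  exact ⟨eich hF e a s H.ee ha.1 hs, ⟨a, s, ha.1, rfl⟩, s, rfl⟩

theorem suTv_mem_radical {e : Fin n → F} (he : hf q e e = 0) {c : F} (hc : c + c ^ q = 0) :
    suTv n e c he hc hF ∈ radical hF e he :=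
  ⟨0, c, hf_zero_left e, (eichMat_zero e c (q_ne_zero hF)).symm⟩

theorem radical_conj (t : Cfsg.SU n F q) {e : Fin n → F} (he : hf q e e = 0) {μ : F}
    (ht : suMat t *ᵥ e = μ • e) {A : Cfsg.SU n F q} (hA : A ∈ radical hF e he) :
    t * A * t⁻¹ ∈ radical hF e he := by
  obtain ⟨a, s, ha, hA⟩ := hA
  refine ⟨μ ^ q • (suMat t *ᵥ a), μ ^ (q + 1) * s, ?_, ?_⟩
  · rw [herm_smul_left]
    rcases eq_or_ne μ 0 with rfl | hμ
    · rw [zero_pow (q_ne_zero hF), zero_mul]
    · have h0 : hf q (suMat t *ᵥ a) (suMat t *ᵥ e) = 0 := (su_preserves t a e).trans ha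
      rw [ht, herm_smul_right hF] at h0
      rw [(mul_eq_zero.mp h0).resolve_left (pow_ne_zero _ hμ), mul_zero]
  · have h := eichMat_conj (suToGU t) he a s
    have hi : (((suToGU t : GL (Fin n) F)⁻¹ : GL (Fin n) F) : Matrix (Fin n) (Fin n) F) = suMat t⁻¹ := by
      rw [← InvMemClass.coe_inv, ← map_inv]; rfl
    rw [hi] at h
    rw [suMat_mul, suMat_mul, hA, ← eichMat_smul hF he, ← ht]
    exact h

/-- An element fixed by the radical lies on the line. -/
theorem eq_smul_of_fixed {e f : Fin n → F} (H : Hyp q e f) {x : Fin n → F}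
    (hx : ∀ A ∈ radical hF e H.ee, suMat A *ᵥ x = x) : x = hf q x f • e := by
  have he0 : e ≠ 0 := fun h => by
    have := H.ef
    rw [h, hf_zero_left] at this
    exact zero_ne_one this
  have hxe : hf q x e = 0 := by
    obtain ⟨c, hc0, hc⟩ := exists_skew hF
    have h := hx _ (suTv_mem_radical hF H.ee hc)
    rw [show suMat (suTv n e c H.ee hc hF) = Cfsg.unitaryTransvection n q e c from rfl, utv_mulVec,
      add_eq_left, smul_eq_zero] at h
    exact (mul_eq_zero.mp (h.resolve_right he0)).resolve_left hc0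
  have hxW : ∀ a, InW q e f a → hf q x a = 0 := by
    intro a ha
    obtain ⟨A, hA, s, hs⟩ := exists_radical_elem hF H ha
    have h := hx A hA
    rw [hs, eichMat_mulVec H.ee, hxe, zero_smul, add_zero, mul_zero, zero_sub, add_eq_left, smul_eq_zero] at h
    exact neg_eq_zero.mp (h.resolve_right he0)
  refine eq_of_sub_eq_zero (uForm_nondeg hF n _ fun z => ?_)
  show hf q z (x - hf q x f • e) = 0
  refine hf_swap_zero hF ?_
  have hdec : z = hf q z f • e + hf q z e • f + (z - hf q z f • e - hf q z e • f) := by abel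
  have hWz := inW_proj hF H z
  rw [hdec, herm_add_right hF, herm_add_right hF, herm_smul_right hF, herm_smul_right hF, herm_sub_left hF,
    herm_sub_left hF, herm_sub_left hF, herm_smul_left, herm_smul_left, herm_smul_left, hxe, H.ee, H.ef,
    hxW _ hWz, hf_swap_zero hF hWz.1]
  ring

theorem radical_pGroup {p : ℕ} [CharP F p] {e : Fin n → F} (he : hf q e e = 0) :
    IsPGroup p (radical hF e he) := by
  rintro ⟨A, a, s, ha, hA⟩
  exact ⟨2, Subtype.ext (by rw [SubmonoidClass.coe_pow]; exact eich_pow_eq_one hF he ha hA)⟩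

/-- A Sylow subgroup whose centre is the transvection group of `e`. -/
theorem exists_sylow_center {e f : Fin n → F} (H : Hyp q e f) (hn : 2 ≤ n) (p : ℕ) [Fact p.Prime] [CharP F p] :
    ∃ P : Sylow p (Cfsg.PSU n F q),
      ∀ x, (x ∈ (P : Subgroup (Cfsg.PSU n F q)) ∧ ∀ y ∈ (P : Subgroup (Cfsg.PSU n F q)), x * y = y * x) ↔
        x ∈ xg hF e H.ee := by
  classical
  have hp : p.Prime := Fact.out
  obtain ⟨S, hS⟩ := (radical_pGroup hF (p := p) H.ee).exists_le_sylow
  have he0 : e ≠ 0 := fun h => by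
    have := H.ef
    rw [h, hf_zero_left] at this
    exact zero_ne_one this
  -- the fixed vector
  letI := suAction (F := F) (q := q) (n := n)
  letI := Fintype.ofFinite F
  have hpdvd : p ∣ Nat.card (Fin n → F) := by
    obtain ⟨k, -, hk⟩ := FiniteField.card F p
    rw [Nat.card_fun, Nat.card_fin, Nat.card_eq_fintype_card, hk, ← pow_mul]
    exact dvd_pow_self p (Nat.mul_ne_zero k.ne_zero (by omega))
  obtain ⟨x, hx, hx0⟩ := S.isPGroup'.exists_fixed_point_of_prime_dvd_card_of_fixed_point (α := Fin n → F) hpdvd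
    (a := 0) (fun g => Matrix.mulVec_zero _)
  have hxe : x = hf q x f • e := eq_smul_of_fixed hF H fun A hA => hx ⟨A, hS hA⟩
  have hfix : ∀ t ∈ (S : Subgroup (Cfsg.SU n F q)), suMat t *ᵥ e = e := by
    intro t ht
    have hc : hf q x f ≠ 0 := fun h => hx0 (by rw [hxe, h, zero_smul])
    have h1 : suMat t *ᵥ x = x := hx ⟨t, ht⟩
    rw [hxe, Matrix.mulVec_smul] at h1
    exact smul_right_injective _ hc h1
  let π := QuotientGroup.mk' (Subgroup.center (Cfsg.SU n F q))
  let P : Sylow p (Cfsg.PSU n F q) := (S.isPGroup'.map π).toSylow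
    (fun hd => S.not_dvd_index (hd.trans (Subgroup.index_map_dvd _ (QuotientGroup.mk'_surjective _))))
  refine ⟨P, fun y => ⟨?_, ?_⟩⟩
  · rintro ⟨⟨z, hz, rfl⟩, hc⟩
    obtain ⟨kz, hkz⟩ := S.isPGroup' ⟨z, hz⟩
    have hzR : ∀ a, InW q e f a → suMat z *ᵥ a = a + hf q f (suMat z *ᵥ a) • e ∧
        hf q (suMat z *ᵥ a) f = hf q f (suMat z *ᵥ a) := by
      intro a ha
      obtain ⟨A, hA, s, hs⟩ := exists_radical_elem hF H ha
      have hcomm := hc _ ⟨A, hS hA, rfl⟩
      have hzk : (z * A * z⁻¹) ^ p ^ 2 = 1 := by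
        rw [← MulAut.conj_apply, ← map_pow, eich_pow_eq_one hF H.ee ha.1 hs, map_one]
      have e1 : z * A * z⁻¹ = A := eq_of_mk_eq hF hn hp hzk (eich_pow_eq_one hF H.ee ha.1 hs) (by
        show π (z * A * z⁻¹) = π A
        rw [map_mul, map_mul, map_inv, hcomm, mul_inv_cancel_right])
      have h := eichMat_conj (suToGU z) H.ee a s
      have e2 : eichMat q e (suMat z *ᵥ a) s = eichMat q e a s := by
        rw [← hs, ← e1, suMat_mul, suMat_mul, hs]
        rw [show ((suToGU z : GL (Fin n) F) : Matrix (Fin n) (Fin n) F) = suMat z from rfl, hfix z hz] at h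
        exact h.symm
      have h3 := congrArg (fun M => M *ᵥ f) e2
      simp only [eichMat_apply_f hF H ha] at h3
      rw [eichMat_mulVec H.ee] at h3
      have h7 : hf q f e = 1 := H.fe hF
      rw [h7, one_smul, mul_one] at h3
      refine ⟨?_, ?_⟩
      · funext k
        have h4 := congrFun h3 k
        simp only [Pi.add_apply, Pi.smul_apply, smul_eq_mul] at h4 ⊢
        linear_combination h4
      · have h4 := congrArg (fun w => hf q w f) h3
        simp only [herm_add_left, herm_smul_left, H.ff, H.ef, H.fe hF, ha.2, mul_one] at h4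
        linear_combination h4
    have hzE : ∀ a, InW q e f a → suMat z *ᵥ a = a := by
      intro a ha
      obtain ⟨l, hl⟩ : ∃ l : F, l ^ q ≠ l := by
        by_contra hc'; push Not at hc'; exact frobQ_ne_id hF (RingHom.ext hc')
      have hla : InW q e f (l • a) := by
        constructor
        · show hf q (l • a) e = 0
          rw [herm_smul_left, ha.1, mul_zero]
        · show hf q (l • a) f = 0
          rw [herm_smul_left, ha.2, mul_zero]
      obtain ⟨h1, h2⟩ := hzR a ha
      have h3 := (hzR _ hla).2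
      rw [Matrix.mulVec_smul, herm_smul_left, herm_smul_right hF, ← h2] at h3
      have h4 : (l - l ^ q) * hf q (suMat z *ᵥ a) f = 0 := by linear_combination h3
      rw [h1, ← h2, (mul_eq_zero.mp h4).resolve_left (sub_ne_zero.mpr (Ne.symm hl)), zero_smul, add_zero]
    -- z is a transvection
    set u := suMat z *ᵥ f - f with hu
    have hzx : ∀ x, suMat z *ᵥ x = x + hf q x e • u := by
      intro x
      have hdec : x = hf q x f • e + hf q x e • f + (x - hf q x f • e - hf q x e • f) := by abel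
      conv_lhs => rw [hdec, Matrix.mulVec_add, Matrix.mulVec_add, Matrix.mulVec_smul, Matrix.mulVec_smul, hfix z hz,
        hzE _ (inW_proj hF H x)]
      rw [hu, smul_sub]; abel
    have hue : hf q u e = 0 := by
      have h := su_preserves z f e
      rw [hzx f, hfix z hz, H.fe hF, one_smul, herm_add_left, H.fe hF] at h
      simpa using h
    have huW : ∀ a, InW q e f a → hf q u a = 0 := by
      intro a ha
      have h := su_preserves z f a
      rw [hzx f, hzE a ha, H.fe hF, one_smul, herm_add_left] at h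
      simpa using h
    obtain ⟨c, hc'⟩ : ∃ c : F, u = c • e := ⟨hf q u f, eq_smul_of_fixed hF H fun A hA => by
      obtain ⟨a, s, ha, hs⟩ := (mem_radical hF H).mp hA
      rw [hs, eichMat_mulVec H.ee, hue, huW a ha]; simp⟩
    have hzmat : suMat z = Cfsg.unitaryTransvection n q e c := Matrix.ext_iff_smul.mpr fun x => by
      rw [Matrix.smul_eq_mulVec, Matrix.smul_eq_mulVec, hzx, utv_mulVec, hc', smul_smul, mul_comm]
    refine Subgroup.mem_map.mpr ⟨z, ⟨c, ?_, hzmat⟩, rfl⟩
    exact (utv_preserves_iff hF he0 H.ee c).mp fun a b => by rw [← hzmat]; exact su_preserves z a b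
  · intro hy
    obtain ⟨c, hc, rfl⟩ := (mem_xg hF).mp hy
    refine ⟨⟨_, hS (suTv_mem_radical hF H.ee hc), rfl⟩, ?_⟩
    rintro _ ⟨t, ht, rfl⟩
    show (QuotientGroup.mk _ : Cfsg.PSU n F q) * QuotientGroup.mk t = QuotientGroup.mk t * QuotientGroup.mk _
    rw [← QuotientGroup.mk_mul, ← QuotientGroup.mk_mul]
    refine congrArg _ ((mul_inv_eq_iff_eq_mul.mp (suMat_inj ?_)).symm)
    rw [utv_conj t (A := suTv n e c H.ee hc hF) rfl, hfix t ht]
    rfl

theorem exists_hyp {v : Fin n → F} (hv : v ≠ 0) (hv0 : hf q v v = 0) : ∃ v', Hyp q v v' := by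
  obtain ⟨v', -, h1, -, h2⟩ := exists_partner hF (H := ⊥) (x := v) (by simpa using hv) hv0
    (fun w hw => by rw [(Submodule.mem_bot F).mp hw]; exact hf_zero_left _)
  exact ⟨v', hv0, h2, h1⟩

theorem map_center_set {G : Type*} [Group G] (α : G ≃* G) (P : Subgroup G) :
    α '' {x | x ∈ P ∧ ∀ y ∈ P, x * y = y * x} =
      {x | x ∈ P.map α.toMonoidHom ∧ ∀ y ∈ P.map α.toMonoidHom, x * y = y * x} := by
  ext x
  constructor
  · rintro ⟨z, ⟨h1, h2⟩, rfl⟩
    refine ⟨⟨z, h1, rfl⟩, ?_⟩
    rintro _ ⟨y, hy, rfl⟩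
    show α z * α y = α y * α z
    rw [← map_mul, ← map_mul, h2 y hy]
  · rintro ⟨⟨z, h1, rfl⟩, h2⟩
    refine ⟨z, ⟨h1, fun y hy => α.injective ?_⟩, rfl⟩
    rw [map_mul, map_mul]
    exact h2 _ ⟨y, hy, rfl⟩

/-- Automorphisms permute transvection groups. -/
theorem exists_map_xg (hn : 2 ≤ n) (α : MulAut (Cfsg.PSU n F q)) {v : Fin n → F} (hv : v ≠ 0)
    (hv0 : hf q v v = 0) : ∃ (w : Fin n → F) (hw : hf q w w = 0),
      w ≠ 0 ∧ (xg hF v hv0).map α.toMonoidHom = xg hF w hw := by
  classical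
  obtain ⟨v', H⟩ := exists_hyp hF hv hv0
  obtain ⟨p, k, hp, hchar, -, -⟩ := exists_prime hF
  haveI := hchar
  haveI := Fact.mk hp
  obtain ⟨P, hP⟩ := exists_sylow_center hF H hn p
  let P' : Sylow p (Cfsg.PSU n F q) := (P.isPGroup'.map α.toMonoidHom).toSylow (by
    rw [Subgroup.index_map_of_bijective (f := α.toMonoidHom) α.bijective]
    exact P.not_dvd_index)
  obtain ⟨x, hx⟩ := MulAction.exists_smul_eq (Cfsg.PSU n F q) P P'
  obtain ⟨t, rfl⟩ := QuotientGroup.mk_surjective x
  set γ : MulAut (Cfsg.PSU n F q) := MulAut.conj (QuotientGroup.mk t : Cfsg.PSU n F q)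
  have hP' : (P : Subgroup (Cfsg.PSU n F q)).map α.toMonoidHom = (P : Subgroup (Cfsg.PSU n F q)).map γ.toMonoidHom := by
    have h1 := congrArg Sylow.toSubgroup hx
    rw [Sylow.coe_subgroup_smul] at h1
    rw [show (P : Subgroup (Cfsg.PSU n F q)).map α.toMonoidHom = (P' : Subgroup (Cfsg.PSU n F q)) from rfl, ← h1]
    rfl
  have hset : {x : Cfsg.PSU n F q | x ∈ (P : Subgroup (Cfsg.PSU n F q)) ∧
      ∀ y ∈ (P : Subgroup (Cfsg.PSU n F q)), x * y = y * x} = (xg hF v hv0 : Set (Cfsg.PSU n F q)) := Set.ext hP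
  have e1 := map_center_set hF α (P : Subgroup (Cfsg.PSU n F q))
  have e2 := map_center_set hF γ (P : Subgroup (Cfsg.PSU n F q))
  rw [hset] at e1 e2
  rw [hP', ← e2] at e1
  refine ⟨suMat t *ᵥ v, (su_preserves t v v).trans hv0, su_mulVec_ne_zero t hv, ?_⟩
  rw [← map_conj_xg hF t v hv0]
  exact SetLike.coe_injective e1

/-- Which elements normalise a transvection group. -/
theorem mem_normalizer_xg (hn : 2 ≤ n) {v : Fin n → F} (hv : v ≠ 0) (hv0 : hf q v v = 0) (t : Cfsg.SU n F q) :
    (QuotientGroup.mk t : Cfsg.PSU n F q) ∈ Subgroup.normalizer (xg hF v hv0 : Set (Cfsg.PSU n F q)) ↔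
      ∃ μ : F, suMat t *ᵥ v = μ • v := by
  have hset : (QuotientGroup.mk t : Cfsg.PSU n F q) ∈ Subgroup.normalizer (xg hF v hv0 : Set (Cfsg.PSU n F q)) ↔
      (xg hF v hv0).map (MulAut.conj (QuotientGroup.mk t : Cfsg.PSU n F q)).toMonoidHom = xg hF v hv0 := by
    rw [Subgroup.mem_normalizer_iff]
    constructor
    · intro h
      ext x
      constructor
      · rintro ⟨y, hy, rfl⟩; exact (h y).mp hy
      · intro hx
        refine ⟨(QuotientGroup.mk t : Cfsg.PSU n F q)⁻¹ * x * QuotientGroup.mk t, ?_, by simp [mul_assoc]⟩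
        refine (h _).mpr ?_
        simpa [mul_assoc] using hx
    · intro h x
      constructor
      · intro hx; exact h.le ⟨x, hx, rfl⟩
      · intro hx
        obtain ⟨y, hy, e⟩ := h.ge hx
        simp at e
        rwa [← e]
  rw [hset, map_conj_xg hF t v hv0]
  constructor
  · intro h
    exact span_of_xg_le hF hn (su_mulVec_ne_zero t hv) h.le
  · rintro ⟨μ, hμ⟩
    have hμ0 : μ ≠ 0 := fun e => su_mulVec_ne_zero t hv (by rw [hμ, e, zero_smul])
    rw [xg_congr hF hμ _ (by rw [herm_smul_left, herm_smul_right hF, hv0, mul_zero, mul_zero]), xg_smul hF hv0 hμ0]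

theorem radical_normalized (hn : 2 ≤ n) {e : Fin n → F} (he : e ≠ 0) (he0 : hf q e e = 0) :
    Subgroup.normalizer (xg hF e he0 : Set (Cfsg.PSU n F q)) ≤ Subgroup.normalizer
      ((radical hF e he0).map (QuotientGroup.mk' (Subgroup.center (Cfsg.SU n F q))) : Set (Cfsg.PSU n F q)) := by
  intro x hx
  obtain ⟨t, rfl⟩ := QuotientGroup.mk_surjective x
  have key : ∀ t : Cfsg.SU n F q, (∃ μ : F, suMat t *ᵥ e = μ • e) →
      ∀ y ∈ (radical hF e he0).map (QuotientGroup.mk' (Subgroup.center (Cfsg.SU n F q))),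
        (QuotientGroup.mk t : Cfsg.PSU n F q) * y * (QuotientGroup.mk t)⁻¹ ∈
          (radical hF e he0).map (QuotientGroup.mk' (Subgroup.center (Cfsg.SU n F q))) := by
    rintro t ⟨μ, hμ⟩ _ ⟨A, hA, rfl⟩
    exact ⟨t * A * t⁻¹, radical_conj hF t he0 hμ hA, rfl⟩
  have h1 := (mem_normalizer_xg hF hn he he0 t).mp hx
  have h2 := (mem_normalizer_xg hF hn he he0 t⁻¹).mp (by rw [QuotientGroup.mk_inv]; exact inv_mem hx)
  rw [Subgroup.mem_normalizer_iff]
  intro y
  refine ⟨key t h1 y, fun hy => ?_⟩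
  have := key t⁻¹ h2 _ hy
  simpa [mul_assoc] using this

/-- The radical is the largest normal `p`-subgroup of the point stabiliser. -/
theorem le_radical (hn : 3 ≤ n) {p : ℕ} [Fact p.Prime] [CharP F p] {e f : Fin n → F} (H : Hyp q e f)
    (R : Subgroup (Cfsg.PSU n F q)) (hRp : IsPGroup p R)
    (hRle : R ≤ Subgroup.normalizer (xg hF e H.ee : Set (Cfsg.PSU n F q)))
    (hRn : Subgroup.normalizer (xg hF e H.ee : Set (Cfsg.PSU n F q)) ≤
      Subgroup.normalizer (R : Set (Cfsg.PSU n F q))) :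
    R ≤ (radical hF e H.ee).map (QuotientGroup.mk' (Subgroup.center (Cfsg.SU n F q))) := by
  classical
  have hn2 : 2 ≤ n := by omega
  have hp : p.Prime := Fact.out
  obtain ⟨d, hd, b, Fr⟩ := exists_frame hF H
  have he0 : e ≠ 0 := fun h => by
    have := H.ef
    rw [h, hf_zero_left] at this
    exact zero_ne_one this
  let π := QuotientGroup.mk' (Subgroup.center (Cfsg.SU n F q))
  obtain ⟨S⟩ : Nonempty (Sylow p (R.comap π)) := inferInstance
  set S' : Subgroup (Cfsg.SU n F q) := (S : Subgroup (R.comap π)).map (R.comap π).subtype with hS'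
  have hS'p : IsPGroup p S' := S.isPGroup'.map _
  have hS'R : ∀ s ∈ S', π s ∈ R := by
    rintro _ ⟨s, -, rfl⟩; exact s.2
  -- every element of `R` lifts to `S'`
  have hlift : ∀ x ∈ R, ∃ s ∈ S', π s = x := by
    let φ : R.comap π →* R := π.subgroupComap R
    have hφ : Function.Surjective φ := fun ⟨x, hx⟩ => by
      obtain ⟨s, rfl⟩ := QuotientGroup.mk'_surjective _ x
      exact ⟨⟨s, hx⟩, rfl⟩
    have hnd : ¬ p ∣ ((S : Subgroup (R.comap π)).map φ).index := fun hdd =>
      S.not_dvd_index (hdd.trans (Subgroup.index_map_dvd _ hφ))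
    have htop : (S : Subgroup (R.comap π)).map φ = ⊤ := by
      obtain ⟨k, hk⟩ := hRp.index ((S : Subgroup (R.comap π)).map φ)
      rcases k with _ | k
      · exact Subgroup.index_eq_one.mp (by rw [hk, pow_zero])
      · exact absurd (hk ▸ dvd_pow_self p (Nat.succ_ne_zero k)) hnd
    intro x hx
    obtain ⟨s, hs, e1⟩ := htop.ge (Subgroup.mem_top ⟨x, hx⟩)
    exact ⟨s, ⟨s, hs, rfl⟩, congrArg Subtype.val e1⟩
  have hS'fix : ∀ s ∈ S', suMat s *ᵥ e = e := by
    intro s hs
    obtain ⟨l, hl⟩ := (mem_normalizer_xg hF hn2 he0 H.ee s).mp (hRle (hS'R s hs))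
    obtain ⟨k, hk⟩ := hS'p ⟨s, hs⟩
    have hk' : s ^ p ^ k = 1 := congrArg Subtype.val hk
    have hpow : ∀ j : ℕ, suMat (s ^ j) *ᵥ e = l ^ j • e := by
      intro j
      induction j with
      | zero => rw [pow_zero, suMat_one, Matrix.one_mulVec, pow_zero, one_smul]
      | succ j ih => rw [pow_succ', suMat_mul, ← Matrix.mulVec_mulVec, ih, Matrix.mulVec_smul, hl, smul_smul, pow_succ]
    have h1 := hpow (p ^ k)
    rw [hk', suMat_one, Matrix.one_mulVec] at h1
    have hl1 : l ^ p ^ k = 1 := (smul_left_injective F he0 (show (1 : F) • e = l ^ p ^ k • e by rw [one_smul]; exact h1)).symm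
    haveI : ExpChar F p := ExpChar.prime hp
    have : l = 1 := iterateFrobenius_inj F p k (by simp [iterateFrobenius_def, hl1])
    rw [hl, this, one_smul]
  -- stability under the stabiliser
  have hconj : ∀ t : Cfsg.SU n F q, (∃ μ : F, suMat t *ᵥ e = μ • e) → ∀ s ∈ S', t * s * t⁻¹ ∈ S' := by
    intro t ht s hs
    have hmem : π t * π s * (π t)⁻¹ ∈ R :=
      (Subgroup.mem_normalizer_iff.mp (hRn ((mem_normalizer_xg hF hn2 he0 H.ee t).mpr ht)) _).mp (hS'R s hs)
    obtain ⟨s', hs', e1⟩ := hlift _ hmem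
    obtain ⟨k, hk⟩ := hS'p ⟨s, hs⟩
    obtain ⟨k', hk'⟩ := hS'p ⟨s', hs'⟩
    have hk1 : s ^ p ^ (k + k') = 1 := by
      rw [pow_add, pow_mul, show s ^ p ^ k = 1 from congrArg Subtype.val hk, one_pow]
    have hk2 : s' ^ p ^ (k + k') = 1 := by
      rw [add_comm, pow_add, pow_mul, show s' ^ p ^ k' = 1 from congrArg Subtype.val hk', one_pow]
    have : t * s * t⁻¹ = s' := eq_of_mk_eq hF hn2 hp (k := k + k')
      (by rw [← MulAut.conj_apply, ← map_pow, hk1, map_one]) hk2 (by
        show π (t * s * t⁻¹) = π s'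
        rw [map_mul, map_mul, map_inv, e1])
    rwa [this]
  -- the fixed space in the complement
  let X : Submodule F (Fin n → F) :=
    { carrier := {a | InW q e f a ∧ ∀ s ∈ S', ∃ c : F, suMat s *ᵥ a = a + c • e}
      add_mem' := by
        rintro a a' ⟨ha, h⟩ ⟨ha', h'⟩
        refine ⟨⟨?_, ?_⟩, fun s hs => ?_⟩
        · show hf q (a + a') e = 0
          rw [herm_add_left, ha.1, ha'.1, add_zero]
        · show hf q (a + a') f = 0
          rw [herm_add_left, ha.2, ha'.2, add_zero]
        · obtain ⟨c, hc⟩ := h s hs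
          obtain ⟨c', hc'⟩ := h' s hs
          exact ⟨c + c', by rw [Matrix.mulVec_add, hc, hc', add_smul]; abel⟩
      zero_mem' := ⟨⟨hf_zero_left e, hf_zero_left f⟩, fun s _ => ⟨0, by simp⟩⟩
      smul_mem' := by
        rintro r a ⟨ha, h⟩
        refine ⟨⟨?_, ?_⟩, fun s hs => ?_⟩
        · show hf q (r • a) e = 0
          rw [herm_smul_left, ha.1, mul_zero]
        · show hf q (r • a) f = 0
          rw [herm_smul_left, ha.2, mul_zero]
        · obtain ⟨c, hc⟩ := h s hs
          exact ⟨r * c, by rw [Matrix.mulVec_smul, hc, smul_add, smul_smul]⟩ }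
  have hXlevi : ∀ {μ : F} (hμ : μ ≠ 0) {R' : Matrix (Fin n) (Fin n) F} (hR : FixPair q e f R')
      (hdet : μ * R'.det = μ ^ q) {a : Fin n → F}, a ∈ X → R' *ᵥ a ∈ X := by
    intro μ hμ R' hR hdet a ha
    set g := levi hF H hμ hR hdet
    refine ⟨inW_fix hF hR ha.1, fun s hs => ?_⟩
    have hgi : ∃ ν : F, suMat g⁻¹ *ᵥ e = ν • e := by
      refine ⟨μ⁻¹, ?_⟩
      have h := su_inv_mulVec g e
      rw [levi_e, Matrix.mulVec_smul] at h
      calc suMat g⁻¹ *ᵥ e = μ⁻¹ • (μ • (suMat g⁻¹ *ᵥ e)) := by rw [smul_smul, inv_mul_cancel₀ hμ, one_smul]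
        _ = μ⁻¹ • e := by rw [h]
    have hs' : g⁻¹ * s * g⁻¹⁻¹ ∈ S' := hconj _ hgi s hs
    rw [inv_inv] at hs'
    obtain ⟨c, hc⟩ := ha.2 _ hs'
    refine ⟨c * μ, ?_⟩
    have h1 := congrArg (fun z => suMat g *ᵥ z) hc
    simp only [Matrix.mulVec_mulVec, ← suMat_mul] at h1
    rw [← mul_assoc, ← mul_assoc, mul_inv_cancel, one_mul, suMat_mul, ← Matrix.mulVec_mulVec,
      levi_W hF H hμ hR hdet ha.1, Matrix.mulVec_add, Matrix.mulVec_smul, levi_e, levi_W hF H hμ hR hdet ha.1,
      smul_smul] at h1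
    exact h1
  -- a nonzero element
  obtain ⟨a0, ha0, ha00⟩ : ∃ a ∈ X, a ≠ 0 := by
    let W := {a : Fin n → F // InW q e f a}
    letI : MulAction S' W :=
      { smul := fun s a => ⟨suMat (s : Cfsg.SU n F q) *ᵥ a.1 - hf q (suMat (s : Cfsg.SU n F q) *ᵥ a.1) f • e -
          hf q (suMat (s : Cfsg.SU n F q) *ᵥ a.1) e • f, inW_proj hF H _⟩
        one_smul := fun a => Subtype.ext (by
          show suMat ((1 : S') : Cfsg.SU n F q) *ᵥ a.1 - _ - _ = _
          simp only [OneMemClass.coe_one, suMat_one, Matrix.one_mulVec, a.2.1, a.2.2, zero_smul, sub_zero])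
        mul_smul := fun s t a => Subtype.ext (by
          have hte : hf q (suMat (t : Cfsg.SU n F q) *ᵥ a.1) e = 0 := by
            have h := su_preserves (t : Cfsg.SU n F q) a.1 e
            rw [hS'fix t t.2] at h
            exact h.trans a.2.1
          have key : ∀ T : Fin n → F, hf q T e = 0 →
              suMat (s : Cfsg.SU n F q) *ᵥ T - hf q (suMat (s : Cfsg.SU n F q) *ᵥ T) f • e -
                  hf q (suMat (s : Cfsg.SU n F q) *ᵥ T) e • f =
                suMat (s : Cfsg.SU n F q) *ᵥ (T - hf q T f • e - hf q T e • f) -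
                  hf q (suMat (s : Cfsg.SU n F q) *ᵥ (T - hf q T f • e - hf q T e • f)) f • e -
                  hf q (suMat (s : Cfsg.SU n F q) *ᵥ (T - hf q T f • e - hf q T e • f)) e • f := by
            intro T hT
            rw [hT, zero_smul, sub_zero, Matrix.mulVec_sub, Matrix.mulVec_smul, hS'fix s s.2, herm_sub_left hF,
              herm_sub_left hF, herm_smul_left, herm_smul_left, H.ee, H.ef]
            funext i
            simp only [Pi.sub_apply, Pi.smul_apply, smul_eq_mul]
            ring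
          show suMat ((s * t : S') : Cfsg.SU n F q) *ᵥ a.1 - _ - _ = _
          rw [Subgroup.coe_mul, suMat_mul, ← Matrix.mulVec_mulVec]
          exact key _ hte) }
    haveI : Finite W := Subtype.finite
    have hWcard : p ∣ Nat.card W := by
      let ψ : W ≃ (Fin d → F) :=
        { toFun := fun a i => hf q a.1 (b i)
          invFun := fun c => ⟨∑ i, c i • b i, by
            constructor
            · show hf q (∑ i, c i • b i) e = 0
              simp only [Cfsg.hermForm, Finset.sum_apply, Finset.sum_mul, Pi.smul_apply, smul_eq_mul]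
              rw [Finset.sum_comm]
              exact Finset.sum_eq_zero fun i _ => by
                have h := (Fr.inW i).1
                simp only [Cfsg.hermForm] at h
                simp only [mul_assoc, ← Finset.mul_sum]
                rw [h, mul_zero]
            · show hf q (∑ i, c i • b i) f = 0
              simp only [Cfsg.hermForm, Finset.sum_apply, Finset.sum_mul, Pi.smul_apply, smul_eq_mul]
              rw [Finset.sum_comm]
              exact Finset.sum_eq_zero fun i _ => by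
                have h := (Fr.inW i).2
                simp only [Cfsg.hermForm] at h
                simp only [mul_assoc, ← Finset.mul_sum]
                rw [h, mul_zero]⟩
          left_inv := fun a => Subtype.ext (Fr.expand_W a.2).symm
          right_inv := fun c => funext fun j => by
            show hf q (∑ i, c i • b i) (b j) = c j
            simp only [Cfsg.hermForm, Finset.sum_apply, Finset.sum_mul, Pi.smul_apply, smul_eq_mul]
            rw [Finset.sum_comm, Finset.sum_eq_single j]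
            · have h := Fr.on j j
              simp only [Cfsg.hermForm] at h
              simp only [mul_assoc, ← Finset.mul_sum]
              rw [h]; simp
            · intro i _ hij
              have h := Fr.on i j
              simp only [Cfsg.hermForm, if_neg hij] at h
              simp only [mul_assoc, ← Finset.mul_sum]
              rw [h, mul_zero]
            · simp }
      rw [Nat.card_congr ψ, Nat.card_fun, Nat.card_fin]
      letI := Fintype.ofFinite F
      obtain ⟨k, -, hk⟩ := FiniteField.card F p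
      rw [Nat.card_eq_fintype_card, hk, ← pow_mul]
      exact dvd_pow_self p (Nat.mul_ne_zero k.ne_zero (by omega))
    obtain ⟨a, ha, ha0⟩ := hS'p.exists_fixed_point_of_prime_dvd_card_of_fixed_point (α := W) hWcard
      (a := ⟨0, hf_zero_left e, hf_zero_left f⟩) (fun s => Subtype.ext (by
        show suMat (s : Cfsg.SU n F q) *ᵥ 0 - _ - _ = _
        simp only [Matrix.mulVec_zero, hf_zero_left, zero_smul, sub_zero]))
    refine ⟨a.1, ⟨a.2, fun s hs => ⟨hf q (suMat s *ᵥ a.1) f, ?_⟩⟩, fun h => ha0 (Subtype.ext h.symm)⟩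
    have h1 := congrArg Subtype.val (ha ⟨s, hs⟩)
    change suMat s *ᵥ a.1 - _ - _ = _ at h1
    have hte : hf q (suMat s *ᵥ a.1) e = 0 := by
      have h := su_preserves s a.1 e
      rw [hS'fix s hs] at h
      exact h.trans a.2.1
    rw [hte, zero_smul, sub_zero] at h1
    exact sub_eq_iff_eq_add.mp h1
  -- one basis vector
  obtain ⟨i, hi⟩ : ∃ i, hf q a0 (b i) ≠ 0 := by
    by_contra hc
    push Not at hc
    apply ha00
    rw [Fr.expand_W ha0.1]
    exact Finset.sum_eq_zero fun i _ => by rw [hc i, zero_smul]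
  obtain ⟨z, hz, hz1⟩ : ∃ z : F, z ^ (q + 1) = 1 ∧ z ≠ 1 := by
    have h2 := card_norm_fiber hF (one_ne_zero (α := F)) (one_pow q)
    by_contra hc
    push Not at hc
    have : Nat.card {x : F // x ^ (q + 1) = 1} ≤ 1 :=
      Finite.card_le_one_iff_subsingleton.mpr ⟨fun x y => Subtype.ext ((hc _ x.2).trans (hc _ y.2).symm)⟩
    have := two_le_q hF
    omega
  have hb : b i ∈ X := by
    obtain ⟨μ, hμ, hμz⟩ := exists_pow_eq_mul hF hz
    have hii : hf q (b i) (b i) = 1 := by rw [Fr.on i i, if_pos rfl]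
    have h1 := hXlevi hμ (fixPair_refl hF (Fr.inW i) hii hz) (by rw [det_refl hii, hμz, mul_comm]) ha0
    rw [refl_mulVec] at h1
    have h2 := X.smul_mem ((z - 1) * hf q a0 (b i))⁻¹ (X.sub_mem h1 ha0)
    rwa [add_sub_cancel_left, smul_smul, inv_mul_cancel₀ (mul_ne_zero (sub_ne_zero.mpr hz1) hi), one_smul] at h2
  have hall : ∀ j, b j ∈ X := by
    intro j
    rcases eq_or_ne i j with rfl | hij
    · exact hb
    have hii : hf q (b i) (b i) = 1 := by rw [Fr.on i i, if_pos rfl]
    have hjj : hf q (b j) (b j) = 1 := by rw [Fr.on j j, if_pos rfl]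
    have hijz : hf q (b i) (b j) = 0 := by rw [Fr.on i j, if_neg hij]
    obtain ⟨c, hc0, hc⟩ := exists_skew hF
    have h1 := hXlevi hc0 (fixPair_swap hF (Fr.inW i) (Fr.inW j) hii hjj hijz)
      (by rw [det_swapMat hF hii hjj hijz]; linear_combination -hc) hb
    rwa [swapMat_left hF hii hijz] at h1
  -- conclusion
  intro x hx
  obtain ⟨s, hs, rfl⟩ := hlift x hx
  refine ⟨s, (mem_radical hF H).mpr ?_, rfl⟩
  set a1 := suMat s *ᵥ f - hf q (suMat s *ᵥ f) f • e - hf q (suMat s *ᵥ f) e • f with ha1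
  have hsfe : hf q (suMat s *ᵥ f) e = 1 := by
    rw [← hS'fix s hs]; exact (su_preserves _ _ _).trans (H.fe hF)
  refine ⟨a1, hf q (suMat s *ᵥ f) f, inW_proj hF H _, Matrix.ext_iff_smul.mpr fun x => ?_⟩
  have hsa : ∀ a, InW q e f a → suMat s *ᵥ a = a + (-hf q a a1) • e := by
    intro a ha
    have haX : a ∈ X := by
      rw [Fr.expand_W ha]
      exact X.sum_mem fun i _ => X.smul_mem _ (hall i)
    obtain ⟨c, hc⟩ := haX.2 s hs
    have h1 := su_preserves s a f
    rw [hc, ha.2] at h1
    have h2 : hf q a (suMat s *ᵥ f) = hf q a a1 := by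
      rw [ha1, herm_sub_right hF, herm_sub_right hF, herm_smul_right hF, herm_smul_right hF, ha.1, ha.2]
      ring
    have h3 : hf q e (suMat s *ᵥ f) = 1 := by rw [herm_swap hF (suMat s *ᵥ f) e, hsfe, one_pow]
    rw [herm_add_left, herm_smul_left, h2, h3, mul_one] at h1
    rw [hc, show c = -hf q a a1 by linear_combination h1]
  have hdec : x = hf q x f • e + hf q x e • f + (x - hf q x f • e - hf q x e • f) := by abel
  have hWx := inW_proj hF H x
  rw [Matrix.smul_eq_mulVec, Matrix.smul_eq_mulVec, eichMat_mulVec H.ee]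
  conv_lhs => rw [hdec, Matrix.mulVec_add, Matrix.mulVec_add, Matrix.mulVec_smul, Matrix.mulVec_smul,
    hS'fix s hs, hsa _ hWx]
  have h4 : hf q (x - hf q x f • e - hf q x e • f) a1 = hf q x a1 := by
    rw [herm_sub_left hF, herm_sub_left hF, herm_smul_left, herm_smul_left,
      hf_swap_zero hF (inW_proj hF H (suMat s *ᵥ f)).1, hf_swap_zero hF (inW_proj hF H (suMat s *ᵥ f)).2]
    ring
  rw [h4, ha1, hsfe]
  funext i
  simp only [Pi.add_apply, Pi.sub_apply, Pi.smul_apply, smul_eq_mul]
  ring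

end CfsgLib.AutPSU
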